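import Cfsg.Agent.Lib.BrauerPairs.Idem
import Mathlib.GroupTheory.Nilpotent
import Mathlib.Logic.Relation

/-!
# Brauer pairs, abstractly in a group algebra over a field of characteristic `p`

A pair is `(P, e) : Subgroup G × k[G]`, `P` a `p`-subgroup and `e` a block idempotent of `C_G(P)`.
`Step` is normal inclusion and `PLE` its reflexive transitive closure. With `∀ H, HasBlocks k H`:

* `existsUnique_step`, `existsUnique_ple`: uniqueness of subpairs;
* `step_isPairOf_iff`, `ple_isPairOf_iff`, `existsUnique_pairOf`: blocks of pairs;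
* `exists_conj_eq_of_isMax`, `exists_conj_ple`: maximal pairs are conjugate;
* `br_eq_zero_of_not_conj`, `exists_defect_elt`, `defect_conj`: maximal pairs give defect groups;
* `isPrincipal_of_isPairOf`: the third main theorem.
-/

set_option autoImplicit false
set_option linter.unusedSectionVars false

open MonoidAlgebra
open scoped Classical

namespace Cfsg.Agent.BrauerPairs

variable {k : Type*} [Field k] {G : Type*} [Group G] [Finite G]

theorem normalizer_le_normalizer_centralizer (Q : Subgroup G) :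
    Subgroup.normalizer (Q : Set G) ≤ Subgroup.normalizer ((Subgroup.centralizer (Q : Set G) : Subgroup G) : Set G) := by
  intro g hg
  apply mem_normalizer_of_conj_le
  intro u hu
  have h := map_conj_centralizer g Q
  rw [map_conj_eq_of_mem_normalizer hg] at h
  rw [← h]
  exact ⟨u, hu, rfl⟩

theorem centralizer_inf_of_le {Q P : Subgroup G} (h : Q ≤ P) :
    Subgroup.centralizer (Q : Set G) ⊓ Subgroup.centralizer (P : Set G) = Subgroup.centralizer (P : Set G) :=
  inf_eq_right.2 (Subgroup.centralizer_le h)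

theorem mem_fixedBy_of_supp_centralizer {P : Subgroup G} {a : k[G]}
    (ha : a ∈ suppIn k (Subgroup.centralizer (P : Set G))) : a ∈ fixedBy k P := by
  rw [mem_fixedBy_iff_coeff]
  intro u hu x
  by_cases hx : x ∈ Subgroup.centralizer (P : Set G)
  · rw [Subgroup.mem_centralizer_iff.1 hx u hu, mul_inv_cancel_right]
  · rw [ha x hx, ha]
    intro h
    apply hx
    have h2 : u * (u * x * u⁻¹) = (u * x * u⁻¹) * u := Subgroup.mem_centralizer_iff.1 h u hu
    have e : x = u * x * u⁻¹ := by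
      calc x = u⁻¹ * ((u * x * u⁻¹) * u) := by group
        _ = u * x * u⁻¹ := by rw [← h2]; group
    rwa [e]

theorem br_pow {p : ℕ} [Fact p.Prime] [CharP k p] {P : Subgroup G} (hP : IsPGroup p P) {a : k[G]}
    (ha : a ∈ fixedBy k P) (n : ℕ) : br P (a ^ n) = br P a ^ n := by
  induction n with
  | zero => rw [pow_zero, pow_zero, br_one]
  | succ n ih => rw [pow_succ, pow_succ, br_mul hP (pow_mem ha n) ha, ih]

theorem lt_inf_normalizer {p : ℕ} [Fact p.Prime] {Q P : Subgroup G} (hP : IsPGroup p P) (h : Q < P) :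
    Q < P ⊓ Subgroup.normalizer (Q : Set G) := by
  refine lt_of_le_of_ne (le_inf h.le Subgroup.le_normalizer) fun e => ?_
  have : Group.IsNilpotent P := hP.isNilpotent
  have h1 : Q.subgroupOf P < ⊤ := by
    rw [lt_top_iff_ne_top, ne_eq, Subgroup.subgroupOf_eq_top]
    exact fun h' => h.ne (le_antisymm h.le h')
  have h2 := Group.normalizerCondition_of_isNilpotent (G := P) _ h1
  obtain ⟨x, hx, hxQ⟩ := SetLike.exists_of_lt h2
  apply hxQ
  rw [Subgroup.mem_subgroupOf, e]
  refine ⟨x.2, mem_normalizer_of_conj_le fun u hu => ?_⟩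
  have := (Subgroup.mem_normalizer_iff.1 hx ⟨u, h.le hu⟩).1 (by simpa [Subgroup.mem_subgroupOf] using hu)
  simpa [Subgroup.mem_subgroupOf] using this

variable (p : ℕ) [Fact p.Prime] [CharP k p]

/-- A Brauer pair. -/
def IsPair (a : Subgroup G × k[G]) : Prop :=
  IsPGroup p a.1 ∧ IsBlockIdem (Subgroup.centralizer (a.1 : Set G)) a.2

/-- Normal inclusion of pairs. -/
def Step (a b : Subgroup G × k[G]) : Prop :=
  IsPair p a ∧ IsPair p b ∧ a.1 ≤ b.1 ∧ b.1 ≤ Subgroup.normalizer (a.1 : Set G) ∧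
    a.2 ∈ fixedBy k b.1 ∧ br b.1 a.2 * b.2 = b.2

/-- Inclusion of pairs. -/
def PLE (a b : Subgroup G × k[G]) : Prop := Relation.ReflTransGen (Step p) a b

/-- Conjugate pair. -/
noncomputable def conjPair (g : G) (a : Subgroup G × k[G]) : Subgroup G × k[G] :=
  (a.1.map (MulAut.conj g).toMonoidHom, conjEl g a.2)

variable {p}

theorem conjPair_mul (g h : G) (a : Subgroup G × k[G]) : conjPair (g * h) a = conjPair g (conjPair h a) := by
  refine Prod.ext ?_ (conjEl_mul g h a.2)
  show a.1.map _ = (a.1.map _).map _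
  rw [Subgroup.map_map]
  congr 1
  ext x
  simp [mul_assoc]

theorem conjPair_one (a : Subgroup G × k[G]) : conjPair 1 a = a := by
  refine Prod.ext ?_ (conjEl_one a.2)
  show a.1.map _ = a.1
  convert Subgroup.map_id a.1 using 2
  ext x
  simp

theorem conjPair_inv_conjPair (g : G) (a : Subgroup G × k[G]) : conjPair g⁻¹ (conjPair g a) = a := by
  rw [← conjPair_mul, inv_mul_cancel, conjPair_one]

theorem card_map_conj (g : G) (P : Subgroup G) :
    Nat.card (P.map (MulAut.conj g).toMonoidHom) = Nat.card P :=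
  (Nat.card_congr (P.equivMapOfInjective (MulAut.conj g).toMonoidHom (MulAut.conj g).injective).toEquiv).symm

theorem IsPair.conj {a : Subgroup G × k[G]} (ha : IsPair p a) (g : G) : IsPair p (conjPair g a) := by
  refine ⟨ha.1.map _, ?_⟩
  show IsBlockIdem _ _
  rw [conjPair, ← map_conj_centralizer]
  exact ha.2.conj g

theorem Step.conj {a b : Subgroup G × k[G]} (h : Step p a b) (g : G) :
    Step p (conjPair g a) (conjPair g b) := by
  obtain ⟨ha, hb, hab, hn, hfix, hbr⟩ := h
  refine ⟨ha.conj g, hb.conj g, Subgroup.map_mono hab, ?_, conjEl_mem_fixedBy g hfix, ?_⟩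
  · show b.1.map _ ≤ Subgroup.normalizer ((a.1.map _ : Subgroup G) : Set G)
    rintro _ ⟨u, hu, rfl⟩
    apply mem_normalizer_of_conj_le
    rintro _ ⟨v, hv, rfl⟩
    refine ⟨u * v * u⁻¹, (Subgroup.mem_normalizer_iff.1 (hn hu) v).1 hv, ?_⟩
    simp [mul_assoc]
  · show br (b.1.map _) (conjEl g a.2) * conjEl g b.2 = conjEl g b.2
    rw [← conjEl_br, ← map_mul, hbr]

theorem PLE.conj {a b : Subgroup G × k[G]} (h : PLE p a b) (g : G) : PLE p (conjPair g a) (conjPair g b) :=
  Relation.ReflTransGen.lift (conjPair g) (fun _ _ h => h.conj g) _ _ h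

theorem step_refl {a : Subgroup G × k[G]} (ha : IsPair p a) : Step p a a := by
  refine ⟨ha, ha, le_rfl, Subgroup.le_normalizer, mem_fixedBy_of_supp_centralizer ha.2.mem.1, ?_⟩
  rw [br_eq_self (fun x hx => ha.2.mem.1 x hx), ha.2.idem]

theorem Step.eq_of_fst_eq {a b : Subgroup G × k[G]} (h : Step p a b) (e : a.1 = b.1) : a = b := by
  obtain ⟨ha, hb, -, -, -, hbr⟩ := h
  have hbi : IsBlockIdem (Subgroup.centralizer (a.1 : Set G)) b.2 := e ▸ hb.2
  rw [← e, br_eq_self (fun x hx => ha.2.mem.1 x hx)] at hbr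
  refine Prod.ext e ?_
  exact (hbi.eq_of_mul_ne_zero ha.2 (by rw [hbr]; exact hbi.ne_zero)).symm

theorem PLE.le {a b : Subgroup G × k[G]} (h : PLE p a b) : a.1 ≤ b.1 := by
  induction h with
  | refl => exact le_rfl
  | tail _ h ih => exact ih.trans h.2.2.1

theorem PLE.isPair_left {a b : Subgroup G × k[G]} (h : PLE p a b) (hb : IsPair p b) : IsPair p a := by
  rcases Relation.ReflTransGen.cases_head h with rfl | ⟨c, h1, -⟩
  · exact hb
  · exact h1.1

theorem PLE.isPair_right {a b : Subgroup G × k[G]} (h : PLE p a b) (ha : IsPair p a) : IsPair p b := by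
  induction h with
  | refl => exact ha
  | tail _ h _ => exact h.2.1

theorem PLE.eq_of_fst_eq {a b : Subgroup G × k[G]} (h : PLE p a b) (e : a.1 = b.1) : a = b := by
  induction h using Relation.ReflTransGen.head_induction_on with
  | refl => rfl
  | @head a c h1 h2 ih =>
    have hc : c.1 = b.1 := le_antisymm (PLE.le h2) (e ▸ h1.2.2.1)
    exact (h1.eq_of_fst_eq (e.trans hc.symm)).trans (ih hc)

/-- Uniqueness of normal subpairs. -/
theorem existsUnique_step (hblk : ∀ H : Subgroup G, HasBlocks k H) {Q P : Subgroup G} {e : k[G]}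
    (hPe : IsPair p (P, e)) (hQP : Q ≤ P) (hPN : P ≤ Subgroup.normalizer (Q : Set G)) :
    ∃! f : k[G], Step p (Q, f) (P, e) := by
  obtain ⟨f, ⟨hf1, hf2, hf3⟩, huniq⟩ := existsUnique_fixed_block (H := Subgroup.centralizer (Q : Set G))
    (P := P) hPe.1 (hPN.trans (normalizer_le_normalizer_centralizer Q)) (hblk _) (e := e)
    (by rw [centralizer_inf_of_le hQP]; exact hPe.2)
  exact ⟨f, ⟨⟨hPe.1.to_le hQP, hf1⟩, hPe, hQP, hPN, hf2, hf3⟩,
    fun g hg => huniq g ⟨hg.1.2, hg.2.2.2.2.1, hg.2.2.2.2.2⟩⟩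

theorem Step.trans_normal (hblk : ∀ H : Subgroup G, HasBlocks k H) {a b c : Subgroup G × k[G]}
    (h1 : Step p a b) (h2 : Step p b c) (hn : c.1 ≤ Subgroup.normalizer (a.1 : Set G)) : Step p a c := by
  obtain ⟨Q, f⟩ := a
  obtain ⟨R, g⟩ := b
  obtain ⟨P, e⟩ := c
  obtain ⟨hQf, hRg, hQR, hRN, hfR, hfg⟩ := h1
  obtain ⟨-, hPe, hRP, hPN, hgP, hge⟩ := h2
  simp only at *
  have hfP : f ∈ fixedBy k P := by
    intro u hu
    obtain ⟨f', -, huniq⟩ := existsUnique_step hblk hRg hQR hRN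
    have hs : Step p (Q, conjEl u f) (R, g) := by
      refine ⟨⟨hQf.1, ?_⟩, hRg, hQR, hRN, ?_, ?_⟩
      · have h := hQf.2.conj u
        rwa [map_conj_eq_of_mem_normalizer (normalizer_le_normalizer_centralizer Q (hn hu))] at h
      · intro r hr
        have hr' : u⁻¹ * r * u ∈ R := (Subgroup.mem_normalizer_iff''.1 (hPN hu) r).1 hr
        rw [← conjEl_mul, show r * u = u * (u⁻¹ * r * u) by group, conjEl_mul, hfR _ hr']
      · calc br R (conjEl u f) * g = conjEl u (br R f) * conjEl u g := by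
              rw [conjEl_br, map_conj_eq_of_mem_normalizer (hPN hu), hgP u hu]
          _ = g := by rw [← map_mul, hfg, hgP u hu]
    rw [huniq _ hs, huniq f ⟨hQf, hRg, hQR, hRN, hfR, hfg⟩]
  refine ⟨hQf, hPe, hQR.trans hRP, hn, hfP, ?_⟩
  have h3 : br P (br R f) * br P g = br P g := by
    rw [← br_mul hPe.1 (br_mem_fixedBy hfP le_rfl hPN) hgP, hfg]
  rw [br_br hRP] at h3
  show br P f * e = e
  calc br P f * e = br P f * (br P g * e) := by rw [hge]
    _ = br P g * e := by rw [← mul_assoc, h3]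
    _ = e := hge

theorem PLE.step_of_le_normalizer (hblk : ∀ H : Subgroup G, HasBlocks k H) {a b : Subgroup G × k[G]}
    (h : PLE p a b) (ha : IsPair p a) (hn : b.1 ≤ Subgroup.normalizer (a.1 : Set G)) : Step p a b := by
  induction h with
  | refl => exact step_refl ha
  | tail _ h ih => exact (ih (h.2.2.1.trans hn)).trans_normal hblk h hn

theorem exists_ple (hblk : ∀ H : Subgroup G, HasBlocks k H) {P : Subgroup G} {e : k[G]}
    (hPe : IsPair p (P, e)) (Q : Subgroup G) : Q ≤ P → ∃ f : k[G], PLE p (Q, f) (P, e) := by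
  induction Q using WellFoundedGT.induction with
  | ind Q ih =>
    intro hQP
    rcases eq_or_lt_of_le hQP with rfl | hlt
    · exact ⟨e, Relation.ReflTransGen.refl⟩
    · obtain ⟨g, hg⟩ := ih _ (lt_inf_normalizer hPe.1 hlt) inf_le_left
      obtain ⟨f, hf, -⟩ := existsUnique_step hblk (hg.isPair_left hPe)
        (le_inf hlt.le Subgroup.le_normalizer) inf_le_right
      exact ⟨f, Relation.ReflTransGen.head hf hg⟩

/-- Uniqueness of subpairs. -/
theorem ple_unique (hblk : ∀ H : Subgroup G, HasBlocks k H) {P : Subgroup G} {e : k[G]}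
    (hPe : IsPair p (P, e)) (Q : Subgroup G) :
    ∀ f₁ f₂ : k[G], PLE p (Q, f₁) (P, e) → PLE p (Q, f₂) (P, e) → f₁ = f₂ := by
  induction Q using WellFoundedGT.induction with
  | ind Q ih =>
    intro f₁ f₂ h₁ h₂
    have hQP : Q ≤ P := h₁.le
    rcases eq_or_lt_of_le hQP with rfl | hlt
    · exact (congrArg Prod.snd (h₁.eq_of_fst_eq rfl)).trans (congrArg Prod.snd (h₂.eq_of_fst_eq rfl)).symm
    set R := P ⊓ Subgroup.normalizer (Q : Set G) with hR
    obtain ⟨g, hg⟩ := exists_ple hblk hPe R inf_le_left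
    have hRg := hg.isPair_left hPe
    obtain ⟨f₀, -, huniq⟩ := existsUnique_step hblk hRg (le_inf hQP Subgroup.le_normalizer) inf_le_right
    have key : ∀ a : Subgroup G × k[G], PLE p a (P, e) → a.1 = Q →
        ∃ b, Step p a b ∧ Q < b.1 ∧ PLE p b (P, e) := by
      intro a ha
      induction ha using Relation.ReflTransGen.head_induction_on with
      | refl => exact fun h => absurd h.symm hlt.ne
      | @head a c h1 h2 ih' =>
        intro haQ
        rcases eq_or_lt_of_le (haQ ▸ h1.2.2.1 : Q ≤ c.1) with hc | hc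
        · rw [h1.eq_of_fst_eq (haQ.trans hc)]
          exact ih' hc.symm
        · exact ⟨c, h1, hc, h2⟩
    have main : ∀ f, PLE p (Q, f) (P, e) → Step p (Q, f) (R, g) := by
      intro f hf
      obtain ⟨b, hb1, hb2, hb3⟩ := key _ hf rfl
      obtain ⟨R₁, g₁⟩ := b
      have hR₁ : R₁ ≤ R := le_inf hb3.le hb1.2.2.2.1
      obtain ⟨g', hg'⟩ := exists_ple hblk hRg R₁ hR₁
      have : g' = g₁ := ih R₁ hb2 g' g₁ (Relation.ReflTransGen.trans hg' hg) hb3
      subst this
      exact PLE.step_of_le_normalizer hblk (Relation.ReflTransGen.head hb1 hg' : PLE p (Q, f) (R, g))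
        hb1.1 inf_le_right
    rw [huniq f₁ (main f₁ h₁), huniq f₂ (main f₂ h₂)]

/-! ### Pairs of a block -/

variable (p) in
/-- `a` is a pair of the block idempotent `B` of `G`. -/
def IsPairOf (B : k[G]) (a : Subgroup G × k[G]) : Prop := IsPair p a ∧ br a.1 B * a.2 = a.2

variable (p) in
/-- A pair of `B` with no proper normal extension. -/
def IsMax (B : k[G]) (a : Subgroup G × k[G]) : Prop := IsPairOf p B a ∧ ∀ b, Step p a b → b.1 = a.1

theorem conjEl_eq_self_of_top {B : k[G]} (hB : B ∈ centerIn k (⊤ : Subgroup G)) (g : G) : conjEl g B = B :=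
  hB.2 g (Subgroup.mem_top g)

theorem mem_fixedBy_of_top {B : k[G]} (hB : B ∈ centerIn k (⊤ : Subgroup G)) (P : Subgroup G) :
    B ∈ fixedBy k P :=
  fixedBy_anti le_top hB.2

theorem br_top_mem {P : Subgroup G} {B : k[G]} (hB : B ∈ centerIn k (⊤ : Subgroup G)) :
    br P B ∈ centerIn k (Subgroup.centralizer (P : Set G)) := by
  have h := br_mem_centerIn (P := P) hB
  rwa [top_inf_eq] at h

theorem IsPairOf.conj {B : k[G]} (hB : IsBlockIdem ⊤ B) {a : Subgroup G × k[G]} (ha : IsPairOf p B a) (g : G) :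
    IsPairOf p B (conjPair g a) := by
  refine ⟨ha.1.conj g, ?_⟩
  show br (a.1.map _) B * conjEl g a.2 = conjEl g a.2
  rw [← conjEl_eq_self_of_top hB.mem g, ← conjEl_br, ← map_mul, ha.2]

theorem IsMax.conj {B : k[G]} (hB : IsBlockIdem ⊤ B) {a : Subgroup G × k[G]} (ha : IsMax p B a) (g : G) :
    IsMax p B (conjPair g a) := by
  refine ⟨ha.1.conj hB g, fun b hb => ?_⟩
  have h := hb.conj g⁻¹
  rw [conjPair_inv_conjPair] at h
  have h2 : b.1.map (MulAut.conj g⁻¹).toMonoidHom = a.1 := ha.2 _ h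
  show b.1 = a.1.map _
  rw [← h2]
  have := map_conj_map_conj_inv g⁻¹ b.1
  rw [inv_inv] at this
  exact this.symm

/-- Every pair is a pair of exactly one block. -/
theorem existsUnique_pairOf (hblk : ∀ H : Subgroup G, HasBlocks k H) {a : Subgroup G × k[G]}
    (ha : IsPair p a) : ∃! B : k[G], IsBlockIdem ⊤ B ∧ IsPairOf p B a := by
  obtain ⟨B, ⟨h1, -, h3⟩, hu⟩ := existsUnique_fixed_block (H := (⊤ : Subgroup G)) ha.1
    (by rw [Subgroup.normalizer_eq_top]; exact le_top) (hblk _) (e := a.2) (by rw [top_inf_eq]; exact ha.2)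
  exact ⟨B, ⟨h1, ha, h3⟩, fun B' h => hu B' ⟨h.1, mem_fixedBy_of_top h.1.mem _, h.2.2⟩⟩

theorem step_isPairOf_iff {B : k[G]} (hB : IsBlockIdem ⊤ B) {a b : Subgroup G × k[G]} (h : Step p a b) :
    IsPairOf p B b ↔ IsPairOf p B a := by
  obtain ⟨ha, hb, hab, hn, hfix, hbr⟩ := h
  have hzz : br a.1 B * br a.1 B = br a.1 B := by
    rw [← br_mul ha.1 (mem_fixedBy_of_top hB.mem _) (mem_fixedBy_of_top hB.mem _), hB.idem]
  have hcalc : br b.1 (br a.1 B * a.2) * b.2 = br b.1 B * b.2 := by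
    rw [br_mul hb.1 (br_mem_fixedBy hB.mem.2 le_top hn) hfix, br_br hab, mul_assoc, hbr]
  rcases ha.2.mul_eq_zero_or_self (br_top_mem hB.mem) hzz with h0 | h0
  · rw [h0, map_zero, zero_mul] at hcalc
    refine ⟨fun h1 => absurd (hcalc.trans h1.2).symm hb.2.ne_zero,
      fun h1 => absurd (h0.symm.trans h1.2).symm ha.2.ne_zero⟩
  · rw [h0, hbr] at hcalc
    exact ⟨fun _ => ⟨ha, h0⟩, fun _ => ⟨hb, hcalc.symm⟩⟩

theorem ple_isPairOf_iff {B : k[G]} (hB : IsBlockIdem ⊤ B) {a b : Subgroup G × k[G]} (h : PLE p a b) :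
    IsPairOf p B b ↔ IsPairOf p B a := by
  induction h with
  | refl => rfl
  | tail _ h ih => exact (step_isPairOf_iff hB h).trans ih

theorem exists_max_above {B : k[G]} (hB : IsBlockIdem ⊤ B) {a : Subgroup G × k[G]} (ha : IsPairOf p B a) :
    ∃ b, PLE p a b ∧ IsMax p B b := by
  obtain ⟨Q, f⟩ := a
  induction Q using WellFoundedGT.induction generalizing f with
  | ind Q ih =>
    by_cases hmax : IsMax p B (Q, f)
    · exact ⟨(Q, f), Relation.ReflTransGen.refl, hmax⟩
    obtain ⟨b, hb, hne⟩ : ∃ b, Step p (Q, f) b ∧ b.1 ≠ Q := by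
      by_contra h
      refine hmax ⟨ha, fun b hb => ?_⟩
      by_contra h1
      exact h ⟨b, hb, h1⟩
    obtain ⟨R, g⟩ := b
    obtain ⟨c, hc1, hc2⟩ := ih R (lt_of_le_of_ne hb.2.2.1 (Ne.symm hne)) g ((step_isPairOf_iff hB hb).2 ha)
    exact ⟨c, Relation.ReflTransGen.head hb hc1, hc2⟩

theorem IsMax.ple_eq {B : k[G]} {a b : Subgroup G × k[G]} (ha : IsMax p B a) (h : PLE p a b) : a = b := by
  induction h with
  | refl => rfl
  | tail _ h ih =>
    subst ih
    exact h.eq_of_fst_eq (ha.2 _ h).symm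

/-- Relative trace over a subgroup `T ≤ H` as a part of the relative trace over `H`. -/
theorem relTr_eq_sum_filter {P T H : Subgroup G} (hPT : P ≤ T) (hTH : T ≤ H) {a : k[G]} (ha : a ∈ fixedBy k P)
    [Fintype (H ⧸ P.subgroupOf H)] :
    relTr P T a = ∑ q ∈ (Finset.univ : Finset (H ⧸ P.subgroupOf H)).filter (fun q => ((q.out : H) : G) ∈ T),
      conjEl ((q.out : H) : G) a := by
  letI := Fintype.ofFinite (T ⧸ P.subgroupOf T)
  have hout : ∀ h : H, ∃ u ∈ P, (((h : H ⧸ P.subgroupOf H).out : H) : G) = h * u := by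
    intro h
    have e : ((((h : H ⧸ P.subgroupOf H).out : H)) : H ⧸ P.subgroupOf H) = (h : H ⧸ P.subgroupOf H) :=
      QuotientGroup.out_eq' _
    rw [eq_comm, QuotientGroup.eq, Subgroup.mem_subgroupOf] at e
    exact ⟨_, e, by simp⟩
  rw [relTr]
  refine Finset.sum_bij (fun q _ => ((⟨((q.out : T) : G), hTH (q.out : T).2⟩ : H) : H ⧸ P.subgroupOf H))
    (fun q _ => ?_) (fun q₁ _ q₂ _ e => ?_) (fun r hr => ?_) (fun q _ => ?_)
  · simp only [Finset.mem_filter, Finset.mem_univ, true_and]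
    obtain ⟨u, hu, e⟩ := hout ⟨((q.out : T) : G), hTH (q.out : T).2⟩
    rw [e]
    exact mul_mem (q.out : T).2 (hPT hu)
  · simp only [QuotientGroup.eq, Subgroup.mem_subgroupOf] at e
    rw [← QuotientGroup.out_eq' q₁, ← QuotientGroup.out_eq' q₂]
    show ((q₁.out : T) : T ⧸ P.subgroupOf T) = ((q₂.out : T) : T ⧸ P.subgroupOf T)
    rw [QuotientGroup.eq, Subgroup.mem_subgroupOf]
    simpa using e
  · simp only [Finset.mem_filter, Finset.mem_univ, true_and] at hr
    refine ⟨((⟨((r.out : H) : G), hr⟩ : T) : T ⧸ P.subgroupOf T), Finset.mem_univ _, ?_⟩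
    refine Eq.trans ?_ (QuotientGroup.out_eq' r)
    have e : (((((⟨((r.out : H) : G), hr⟩ : T) : T ⧸ P.subgroupOf T)).out : T) : T ⧸ P.subgroupOf T) =
        ((⟨((r.out : H) : G), hr⟩ : T) : T ⧸ P.subgroupOf T) := QuotientGroup.out_eq' _
    rw [QuotientGroup.eq, Subgroup.mem_subgroupOf] at e
    show ((_ : H) : H ⧸ P.subgroupOf H) = ((r.out : H) : H ⧸ P.subgroupOf H)
    rw [QuotientGroup.eq, Subgroup.mem_subgroupOf]
    simpa using e
  · obtain ⟨u, hu, e⟩ := hout ⟨((q.out : T) : G), hTH (q.out : T).2⟩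
    rw [e, conjEl_mul, ha u hu]

/-- For a maximal pair `(P, e)`: a trace `w` from `P` acting as `1` on `e` under `Br_P`, with
`Br_P w` killing every block not conjugate to `e` under `N(P)`. -/
theorem exists_trace_elt (hblk : ∀ H : Subgroup G, HasBlocks k H) {B : k[G]} (hB : IsBlockIdem ⊤ B)
    {P : Subgroup G} {e : k[G]} (ha : IsMax p B (P, e)) :
    ∃ w ∈ centerIn k (⊤ : Subgroup G), br P w * e = e ∧
      (∃ A ∈ fixedBy k P, w = relTr P ⊤ A) ∧
      (∀ R : Subgroup G, IsPGroup p R → (∀ g : G, ¬ ∀ u ∈ R, g⁻¹ * u * g ∈ P) → br R w = 0) ∧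
      ∀ e' : k[G], IsBlockIdem (Subgroup.centralizer (P : Set G)) e' → br P w * e' ≠ 0 →
        ∃ g ∈ Subgroup.normalizer (P : Set G), conjEl g e = e' := by
  obtain ⟨⟨hP, he⟩, -⟩ := ha.1
  simp only at hP he
  let T : Subgroup G :=
    { carrier := {g | g ∈ Subgroup.normalizer (P : Set G) ∧ conjEl g e = e}
      one_mem' := ⟨one_mem _, conjEl_one e⟩
      mul_mem' := fun {g h} hg hh => ⟨mul_mem hg.1 hh.1, by rw [conjEl_mul, hh.2, hg.2]⟩
      inv_mem' := fun {g} hg => ⟨inv_mem hg.1, by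
        have h := conjEl_inv_conjEl g e
        rwa [hg.2] at h⟩ }
  have hefix : e ∈ fixedBy k P := mem_fixedBy_of_supp_centralizer he.mem.1
  have hPT : P ≤ T := fun u hu => ⟨Subgroup.le_normalizer hu, hefix u hu⟩
  have hR : ∀ R : Subgroup G, IsPGroup p R → P < R → R ≤ T → br R e = 0 := by
    intro R hR hPR hRT
    by_contra hne
    obtain ⟨s, hs, h1⟩ := hblk (Subgroup.centralizer (R : Set G))
    have heR : e ∈ fixedBy k R := fun u hu => (hRT hu).2
    have hz : br R e ∈ centerIn k (Subgroup.centralizer (R : Set G)) := by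
      have h := br_mem_centerIn (P := R) he.mem
      rwa [centralizer_inf_of_le hPR.le] at h
    obtain ⟨g, hg, hge⟩ : ∃ g ∈ s, br R e * g ≠ 0 := by
      by_contra h
      apply hne
      rw [← mul_one (br R e), ← h1, Finset.mul_sum]
      exact Finset.sum_eq_zero fun g hg => by_contra fun h' => h ⟨g, hg, h'⟩
    have hzz : br R e * br R e = br R e := by rw [← br_mul hR heR heR, he.idem]
    exact hPR.ne (ha.2 (R, g) ⟨⟨hP, he⟩, ⟨hR, hs g hg⟩, hPR.le, fun u hu => (hRT hu).1, heR,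
      (hs g hg).mul_eq_self_of_ne hz hzz hge⟩).symm
  obtain ⟨a, haP, hasupp, hatr⟩ := exists_relTr_eq hP hPT (fun g hg => hg.2) (fun x hx => he.mem.1 x hx) hR
  set A := a * e with hA
  have hAP : A ∈ fixedBy k P := mul_mem haP hefix
  have hAsupp : A ∈ suppIn k (Subgroup.centralizer (P : Set G)) :=
    mul_mem (fun x hx => hasupp x (he.mem.1 x hx)) he.mem.1
  set w := relTr P ⊤ A with hw
  have hwmem : w ∈ centerIn k (⊤ : Subgroup G) :=
    ⟨fun x hx => absurd (Subgroup.mem_top x) hx, relTr_mem_fixedBy hAP⟩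
  set N : Subgroup G := ⊤ ⊓ Subgroup.normalizer (P : Set G) with hN
  letI := Fintype.ofFinite (N ⧸ P.subgroupOf N)
  have hbrw : br P w = ∑ q : N ⧸ P.subgroupOf N, conjEl ((q.out : N) : G) a * conjEl ((q.out : N) : G) e := by
    rw [hw, br_relTr_self hP le_top hAP, ← hN, br_eq_self (fun x hx => hAsupp x hx), relTr]
    exact Finset.sum_congr rfl fun q _ => map_mul _ _ _
  have hconj : ∀ g : N, IsBlockIdem (Subgroup.centralizer (P : Set G)) (conjEl (g : G) e) := by
    intro g
    have h := he.conj (g : G)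
    rwa [map_conj_eq_of_mem_normalizer (normalizer_le_normalizer_centralizer P g.2.2)] at h
  refine ⟨w, hwmem, ?_, ⟨A, hAP, rfl⟩, fun R hR h => br_relTr_eq_zero hR le_top hAP (fun g _ => h g), ?_⟩
  · have hTN : T ≤ N := fun g hg => ⟨Subgroup.mem_top g, hg.1⟩
    have h1 : relTr P T A * e = e := by
      rw [hA, ← relTr_mul a (fun g hg => hg.2 : e ∈ fixedBy k T), hatr, he.idem, he.idem]
    rw [relTr_eq_sum_filter hPT hTN hAP, Finset.sum_mul, Finset.sum_filter] at h1
    rw [hbrw, Finset.sum_mul]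
    refine Eq.trans (Finset.sum_congr rfl fun q _ => ?_) h1
    split_ifs with hq
    · rw [hA, map_mul]
    · rw [mul_assoc, he.mul_eq_zero_of_ne (hconj (q.out : N)), mul_zero]
      exact fun heq => hq ⟨(q.out : N).2.2, heq.symm⟩
  · intro e' he' hne
    rw [hbrw, Finset.sum_mul] at hne
    obtain ⟨q, -, hq⟩ := Finset.exists_ne_zero_of_sum_ne_zero hne
    refine ⟨_, (q.out : N).2.2, ?_⟩
    rw [mul_assoc] at hq
    exact (he'.eq_of_mul_ne_zero (hconj (q.out : N)) (right_ne_zero_of_mul hq)).symm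

theorem exists_conj_of_br_ne_zero {w : k[G]} {P R : Subgroup G} (hR : IsPGroup p R)
    (hw : ∀ R : Subgroup G, IsPGroup p R → (∀ g : G, ¬ ∀ u ∈ R, g⁻¹ * u * g ∈ P) → br R w = 0)
    (h : br R w ≠ 0) : ∃ g : G, ∀ u ∈ R, g⁻¹ * u * g ∈ P := by
  by_contra hno
  exact h (hw R hR fun g hg => hno ⟨g, hg⟩)

/-- The trace element is invertible in the block. -/
theorem exists_trace_factor (hblk : ∀ H : Subgroup G, HasBlocks k H) {B : k[G]} (hB : IsBlockIdem ⊤ B)
    {P : Subgroup G} {e : k[G]} (ha : IsMax p B (P, e)) :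
    ∃ w ∈ centerIn k (⊤ : Subgroup G), ∃ v ∈ centerIn k (⊤ : Subgroup G), B = w * v ∧
      (∃ A ∈ fixedBy k P, B = relTr P ⊤ A) ∧
      (∀ R : Subgroup G, IsPGroup p R → (∀ g : G, ¬ ∀ u ∈ R, g⁻¹ * u * g ∈ P) → br R w = 0) ∧
      ∀ e' : k[G], IsBlockIdem (Subgroup.centralizer (P : Set G)) e' → br P w * e' ≠ 0 →
        ∃ g ∈ Subgroup.normalizer (P : Set G), conjEl g e = e' := by
  obtain ⟨w, hw, hwe, hwA, hw0, hwconj⟩ := exists_trace_elt hblk hB ha
  obtain ⟨⟨hP, he⟩, hBe⟩ := ha.1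
  simp only at hP he hBe
  have hne : omega B w ≠ 0 := by
    intro h0
    obtain ⟨n, hn⟩ := (hB.omega_eq_zero_iff hw).1 h0
    have h1 : br P (w * B) * e = e := by
      rw [br_mul hP (mem_fixedBy_of_top hw _) (mem_fixedBy_of_top hB.mem _), mul_assoc, hBe, hwe]
    have h2 : ∀ m : ℕ, br P (w * B) ^ m * e = e := by
      intro m
      induction m with
      | zero => rw [pow_zero, one_mul]
      | succ m ih => rw [pow_succ, mul_assoc, h1, ih]
    apply he.ne_zero
    rw [← h2 n, ← br_pow hP (mem_fixedBy_of_top (mul_mem hw hB.mem) _), hn, map_zero, zero_mul]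
  obtain ⟨v, hv, hBv⟩ := hB.exists_mul_eq_self hw hne
  obtain ⟨A, hA, rfl⟩ := hwA
  exact ⟨_, hw, v, hv, hBv, ⟨A * v, mul_mem hA (mem_fixedBy_of_top hv P), by rw [hBv, relTr_mul A hv.2]⟩,
    hw0, hwconj⟩

/-- `Br_R` kills a block unless `R` is conjugate into the subgroup of a maximal pair. -/
theorem br_eq_zero_of_not_conj (hblk : ∀ H : Subgroup G, HasBlocks k H) {B : k[G]} (hB : IsBlockIdem ⊤ B)
    {P : Subgroup G} {e : k[G]} (ha : IsMax p B (P, e)) {R : Subgroup G} (hR : IsPGroup p R)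
    (h : ∀ g : G, ¬ ∀ u ∈ R, g⁻¹ * u * g ∈ P) : br R B = 0 := by
  obtain ⟨w, hw, v, hv, hBv, -, hw0, -⟩ := exists_trace_factor hblk hB ha
  rw [hBv, br_mul hR (mem_fixedBy_of_top hw _) (mem_fixedBy_of_top hv _), hw0 R hR h, zero_mul]

theorem exists_conj_of_isPairOf (hblk : ∀ H : Subgroup G, HasBlocks k H) {B : k[G]} (hB : IsBlockIdem ⊤ B)
    {a b : Subgroup G × k[G]} (ha : IsMax p B a) (hb : IsPairOf p B b) :
    ∃ g : G, b.1.map (MulAut.conj g).toMonoidHom ≤ a.1 := by
  obtain ⟨P, e⟩ := a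
  have hne : br b.1 B ≠ 0 := fun h => hb.1.2.ne_zero (by rw [← hb.2, h, zero_mul])
  by_contra hno
  refine hne (br_eq_zero_of_not_conj hblk hB ha hb.1.1 fun g hg => hno ⟨g⁻¹, ?_⟩)
  rintro _ ⟨u, hu, rfl⟩
  simpa using hg u hu

/-- Maximal pairs of a block are conjugate. -/
theorem exists_conj_eq_of_isMax (hblk : ∀ H : Subgroup G, HasBlocks k H) {B : k[G]} (hB : IsBlockIdem ⊤ B)
    {a b : Subgroup G × k[G]} (ha : IsMax p B a) (hb : IsMax p B b) : ∃ g : G, conjPair g b = a := by
  obtain ⟨g, hg⟩ := exists_conj_of_isPairOf hblk hB ha hb.1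
  obtain ⟨g', hg'⟩ := exists_conj_of_isPairOf hblk hB hb ha.1
  have heq : b.1.map (MulAut.conj g).toMonoidHom = a.1 := by
    refine Subgroup.eq_of_le_of_card_ge hg ?_
    rw [card_map_conj, ← card_map_conj g' a.1]
    exact Subgroup.card_le_of_le hg'
  obtain ⟨P, e⟩ := a
  obtain ⟨w, hw, v, hv, hBv, -, -, hwconj⟩ := exists_trace_factor hblk hB ha
  have hb' : IsPairOf p B (P, conjEl g b.2) := by
    have h := hb.1.conj hB g
    rwa [conjPair, heq] at h
  obtain ⟨⟨hP', he'⟩, hBe'⟩ := hb'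
  simp only at hP' he' hBe'
  rw [hBv, br_mul hP' (mem_fixedBy_of_top hw _) (mem_fixedBy_of_top hv _),
    centerIn_commute (br_top_mem hw).1 (br_top_mem hv).2, mul_assoc] at hBe'
  obtain ⟨n, hn, hne⟩ := hwconj _ he' (right_ne_zero_of_mul (hBe'.symm ▸ he'.ne_zero))
  refine ⟨n⁻¹ * g, ?_⟩
  rw [conjPair_mul]
  have : conjPair g b = conjPair n (P, e) := by
    refine Prod.ext ?_ hne.symm
    show b.1.map _ = P.map _
    rw [map_conj_eq_of_mem_normalizer hn]
    exact heq
  rw [this, conjPair_inv_conjPair]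

/-- Every pair of a block is conjugate to a subpair of a given maximal one. -/
theorem exists_conj_ple (hblk : ∀ H : Subgroup G, HasBlocks k H) {B : k[G]} (hB : IsBlockIdem ⊤ B)
    {a b : Subgroup G × k[G]} (ha : IsMax p B a) (hb : IsPairOf p B b) :
    ∃ g : G, PLE p (conjPair g b) a := by
  obtain ⟨c, hbc, hc⟩ := exists_max_above hB hb
  obtain ⟨g, rfl⟩ := exists_conj_eq_of_isMax hblk hB ha hc
  exact ⟨g, hbc.conj g⟩

/-! ### Defect elements -/

/-- The class sum of `x`. -/
noncomputable def clsSum (k : Type*) [Field k] {G : Type*} [Group G] [Finite G] (x : G) : k[G] :=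
  ofCoeff (Finsupp.equivFunOnFinite.symm fun y => if IsConj x y then 1 else 0)

theorem coeff_clsSum (x y : G) : (clsSum k x).coeff y = if IsConj x y then 1 else 0 := rfl

theorem clsSum_mem (x : G) : clsSum k x ∈ centerIn k (⊤ : Subgroup G) := by
  refine ⟨fun y hy => absurd (Subgroup.mem_top y) hy, mem_fixedBy_iff_coeff.2 fun h _ y => ?_⟩
  have hy : IsConj y (h * y * h⁻¹) := isConj_iff.2 ⟨h, rfl⟩
  rw [coeff_clsSum, coeff_clsSum]
  exact if_congr ⟨fun h1 => h1.trans hy.symm, fun h1 => h1.trans hy⟩ rfl rfl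

/-- If the central character of `B` is nonzero on the class of `x` then the class meets `C(P)` for
every pair `(P, e)` of `B`. -/
theorem exists_isConj_mem_centralizer {B : k[G]} (hB : IsBlockIdem ⊤ B) {a : Subgroup G × k[G]}
    (ha : IsPairOf p B a) {x : G} (hx : omega B (clsSum k x) ≠ 0) :
    ∃ y, IsConj x y ∧ y ∈ Subgroup.centralizer (a.1 : Set G) := by
  obtain ⟨v, hv, hBv⟩ := hB.exists_mul_eq_self (clsSum_mem x) hx
  by_contra hno
  have h0 : br a.1 (clsSum k x) = 0 := by
    ext y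
    rw [coeff_br]
    split_ifs with hy
    · rw [coeff_clsSum, if_neg fun h => hno ⟨y, h, hy⟩]; rfl
    · rfl
  apply ha.1.2.ne_zero
  rw [← ha.2, hBv, br_mul ha.1.1 (mem_fixedBy_of_top (clsSum_mem x) _) (mem_fixedBy_of_top hv _), h0,
    zero_mul, zero_mul]

theorem exists_coeff_omega_ne_zero {B : k[G]} (hB : IsBlockIdem ⊤ B) :
    ∃ x : G, B.coeff x ≠ 0 ∧ omega B (clsSum k x) ≠ 0 := by
  have := Fintype.ofFinite G
  have : Finite (ConjClasses G) := Quotient.finite _
  have := Fintype.ofFinite (ConjClasses G)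
  have hdecomp : B = ∑ c : ConjClasses G, B.coeff c.out • clsSum k c.out := by
    ext y
    rw [coeff_sum, Finsupp.finsetSum_apply, Finset.sum_eq_single (ConjClasses.mk y)]
    · have hy : IsConj (ConjClasses.mk y).out y := by
        rw [← ConjClasses.mk_eq_mk_iff_isConj]
        exact Quotient.out_eq _
      rw [coeff_smul_apply, coeff_clsSum, if_pos hy, smul_eq_mul, mul_one]
      obtain ⟨g, hg⟩ := isConj_iff.1 hy
      conv_lhs => rw [← hg, mem_fixedBy_iff_coeff.1 hB.mem.2 g (Subgroup.mem_top g)]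
    · intro c _ hc
      rw [coeff_smul_apply, coeff_clsSum, if_neg, smul_zero]
      intro h
      apply hc
      rw [← ConjClasses.mk_eq_mk_iff_isConj.2 h]
      exact (Quotient.out_eq _).symm
    · exact fun h => absurd (Finset.mem_univ _) h
  by_contra hno
  apply one_ne_zero (α := k)
  rw [← hB.omega_self]
  conv_lhs => arg 2; rw [hdecomp]
  refine (hB.omega_sum _ _ fun c _ => Subalgebra.smul_mem _ (clsSum_mem _) _).trans (Finset.sum_eq_zero fun c _ => ?_)
  rw [hB.omega_smul (clsSum_mem _)]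
  by_contra h
  exact hno ⟨c.out, left_ne_zero_of_mul h, right_ne_zero_of_mul h⟩

/-- A class with nonzero coefficient and central character has a representative `y` with `P` Sylow
in its centraliser, `P` the subgroup of a maximal pair. -/
theorem exists_isConj_sylow (hblk : ∀ H : Subgroup G, HasBlocks k H) {B : k[G]} (hB : IsBlockIdem ⊤ B)
    {a : Subgroup G × k[G]} (ha : IsMax p B a) {x : G} (hx : B.coeff x ≠ 0)
    (hxω : omega B (clsSum k x) ≠ 0) :
    ∃ y, IsConj x y ∧ ∃ S : Sylow p (Subgroup.centralizer ({y} : Set G)),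
      a.1 = (S : Subgroup _).map (Subgroup.centralizer ({y} : Set G)).subtype := by
  obtain ⟨P, e⟩ := a
  obtain ⟨y, hxy, hy⟩ := exists_isConj_mem_centralizer hB ha.1 hxω
  refine ⟨y, hxy, ?_⟩
  have hPC : P ≤ Subgroup.centralizer ({y} : Set G) := fun u hu =>
    Subgroup.mem_centralizer_singleton_iff.2 (Subgroup.mem_centralizer_iff.1 hy u hu)
  obtain ⟨S, hS⟩ := (ha.1.1.1.of_equiv (Subgroup.subgroupOfEquivOfLe hPC).symm).exists_le_sylow
  refine ⟨S, ?_⟩
  set R := (S : Subgroup _).map (Subgroup.centralizer ({y} : Set G)).subtype with hR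
  have hPR : P ≤ R := fun u hu => ⟨⟨u, hPC hu⟩, hS hu, rfl⟩
  have hRne : br R B ≠ 0 := by
    intro h
    apply hx
    obtain ⟨g, hg⟩ := isConj_iff.1 hxy
    have h1 := congrArg (fun b : k[G] => b.coeff y) h
    simp only [coeff_zero, Finsupp.zero_apply] at h1
    rw [coeff_br_of_mem, ← hg, mem_fixedBy_iff_coeff.1 hB.mem.2 g (Subgroup.mem_top g)] at h1
    · exact h1
    · rw [Subgroup.mem_centralizer_iff]
      rintro _ ⟨v, -, rfl⟩
      exact Subgroup.mem_centralizer_singleton_iff.1 v.2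
  refine Subgroup.eq_of_le_of_card_ge hPR ?_
  by_contra hlt
  refine hRne (br_eq_zero_of_not_conj hblk hB ha (S.isPGroup'.map _) fun g hg => hlt ?_)
  rw [← card_map_conj g⁻¹ R]
  refine Subgroup.card_le_of_le ?_
  rintro _ ⟨u, hu, rfl⟩
  simpa using hg u hu

/-- Every such class has its Sylow centralisers conjugate to `P`. -/
theorem defect_conj (hblk : ∀ H : Subgroup G, HasBlocks k H) {B : k[G]} (hB : IsBlockIdem ⊤ B)
    {a : Subgroup G × k[G]} (ha : IsMax p B a) {x : G} (hx : B.coeff x ≠ 0)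
    (hxω : omega B (clsSum k x) ≠ 0) (S : Sylow p (Subgroup.centralizer ({x} : Set G))) :
    ∃ g : G, ((S : Subgroup _).map (Subgroup.centralizer ({x} : Set G)).subtype).map
      (MulAut.conj g).toMonoidHom = a.1 := by
  obtain ⟨y, hxy, T, hT⟩ := exists_isConj_sylow hblk hB ha hx hxω
  obtain ⟨g, rfl⟩ := isConj_iff.1 hxy
  set D := (S : Subgroup _).map (Subgroup.centralizer ({x} : Set G)).subtype with hD
  have hmap : (Subgroup.centralizer ({x} : Set G)).map (MulAut.conj g).toMonoidHom =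
      Subgroup.centralizer ({g * x * g⁻¹} : Set G) := by
    ext z
    rw [Subgroup.mem_map_equiv, Subgroup.mem_centralizer_singleton_iff, Subgroup.mem_centralizer_singleton_iff,
      MulAut.conj_symm_apply]
    constructor <;> intro h
    · calc z * (g * x * g⁻¹) = g * (g⁻¹ * z * g * x) * g⁻¹ := by group
        _ = g * (x * (g⁻¹ * z * g)) * g⁻¹ := by rw [h]
        _ = g * x * g⁻¹ * z := by group
    · calc g⁻¹ * z * g * x = g⁻¹ * (z * (g * x * g⁻¹)) * g := by group
        _ = g⁻¹ * (g * x * g⁻¹ * z) * g := by rw [h]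
        _ = x * (g⁻¹ * z * g) := by group
  have hDle : D.map (MulAut.conj g).toMonoidHom ≤ Subgroup.centralizer ({g * x * g⁻¹} : Set G) :=
    hmap ▸ Subgroup.map_mono (Subgroup.map_subtype_le _)
  have hDp : IsPGroup p (D.map (MulAut.conj g).toMonoidHom) := (S.isPGroup'.map _).map _
  obtain ⟨T', hT'⟩ := (hDp.of_equiv (Subgroup.subgroupOfEquivOfLe hDle).symm).exists_le_sylow
  obtain ⟨c, hc⟩ := MulAction.exists_smul_eq (Subgroup.centralizer ({g * x * g⁻¹} : Set G)) T' T
  have hle : (D.map (MulAut.conj g).toMonoidHom).map (MulAut.conj (c : G)).toMonoidHom ≤ a.1 := by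
    rw [hT, ← hc]
    rintro _ ⟨z, hz, rfl⟩
    refine ⟨c * ⟨z, hDle hz⟩ * c⁻¹, ?_, rfl⟩
    exact Subgroup.smul_mem_pointwise_smul _ (MulAut.conj c) _ (hT' hz)
  refine ⟨(c : G) * g, ?_⟩
  rw [Subgroup.map_map] at hle
  have hcomp : (MulAut.conj (c : G)).toMonoidHom.comp (MulAut.conj g).toMonoidHom =
      (MulAut.conj ((c : G) * g)).toMonoidHom := by
    ext z
    simp [mul_assoc]
  rw [hcomp] at hle
  refine Subgroup.eq_of_le_of_card_ge hle ?_
  -- `a.1` is conjugate into the Sylow subgroup `D`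
  rw [card_map_conj]
  have hback : a.1.map (MulAut.conj g⁻¹).toMonoidHom ≤ Subgroup.centralizer ({x} : Set G) := by
    rw [hT, ← map_conj_map_conj_inv g (Subgroup.centralizer ({x} : Set G)), hmap]
    exact Subgroup.map_mono (Subgroup.map_subtype_le _)
  obtain ⟨S', hS'⟩ := ((ha.1.1.1.map (MulAut.conj g⁻¹).toMonoidHom).of_equiv
    (Subgroup.subgroupOfEquivOfLe hback).symm).exists_le_sylow
  rw [← card_map_conj g⁻¹ a.1, hD, ← Nat.card_congr (Subgroup.subgroupOfEquivOfLe hback).toEquiv,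
    ← Nat.card_congr ((S : Subgroup (Subgroup.centralizer ({x} : Set G))).equivMapOfInjective
      (Subgroup.centralizer ({x} : Set G)).subtype (Subgroup.subtype_injective _)).toEquiv]
  exact (Subgroup.card_le_of_le hS').trans_eq
    ((Sylow.card_eq_multiplicity S').trans (Sylow.card_eq_multiplicity S).symm)

/-! ### The principal pairs and the third main theorem -/

/-- The augmentation. -/
noncomputable def aug (k : Type*) [Field k] (G : Type*) [Group G] : k[G] →ₐ[k] k :=
  MonoidAlgebra.lift k k G 1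

theorem aug_eq_sum [Fintype G] (a : k[G]) : aug k G a = ∑ x, a.coeff x := by
  induction a using MonoidAlgebra.induction_linear with
  | zero => simp
  | add a b ha hb => rw [map_add, ha, hb, coeff_add]; simp [Finset.sum_add_distrib]
  | single g r => simp [aug, MonoidAlgebra.lift_single, Finsupp.single_apply]

theorem aug_conjEl (g : G) (a : k[G]) : aug k G (conjEl g a) = aug k G a := by
  induction a using MonoidAlgebra.induction_linear with
  | zero => simp
  | add a b ha hb => rw [map_add, map_add, ha, hb, map_add]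
  | single g' r => simp [aug, conjEl, MonoidAlgebra.lift_single]

theorem aug_br {P : Subgroup G} (hP : IsPGroup p P) {a : k[G]} (ha : a ∈ fixedBy k P) :
    aug k G (br P a) = aug k G a := by
  have := Fintype.ofFinite G
  rw [aug_eq_sum, aug_eq_sum, sum_coeff_br hP ha]

/-- The principal block idempotent of a subgroup. -/
def IsPrincipal (H : Subgroup G) (e : k[G]) : Prop := IsBlockIdem H e ∧ aug k G e = 1

theorem IsPrincipal.eq {H : Subgroup G} {e f : k[G]} (he : IsPrincipal H e) (hf : IsPrincipal H f) : e = f :=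
  he.1.eq_of_mul_ne_zero hf.1 fun h => by
    have h1 := map_mul (aug k G) f e
    rw [h, map_zero, he.2, hf.2, mul_one] at h1
    exact zero_ne_one h1

theorem exists_isPrincipal {H : Subgroup G} (hH : HasBlocks k H) : ∃ e : k[G], IsPrincipal H e := by
  obtain ⟨s, hs, h1⟩ := hH
  obtain ⟨f, hf, hne⟩ : ∃ f ∈ s, aug k G f ≠ 0 := by
    by_contra h
    apply one_ne_zero (α := k)
    rw [← map_one (aug k G), ← h1, map_sum]
    exact Finset.sum_eq_zero fun f hf => by_contra fun h' => h ⟨f, hf, h'⟩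
  refine ⟨f, hs f hf, ?_⟩
  have h2 := map_mul (aug k G) f f
  rw [(hs f hf).idem] at h2
  exact mul_left_cancel₀ hne (by rw [mul_one]; exact h2.symm)

theorem IsPrincipal.conj {H : Subgroup G} {e : k[G]} (he : IsPrincipal H e) (g : G) :
    IsPrincipal (H.map (MulAut.conj g).toMonoidHom) (conjEl g e) :=
  ⟨he.1.conj g, by rw [aug_conjEl, he.2]⟩

/-- Principal pairs are included. -/
theorem step_of_isPrincipal {Q P : Subgroup G} {f e : k[G]} (hP : IsPGroup p P) (hQP : Q ≤ P)
    (hPN : P ≤ Subgroup.normalizer (Q : Set G)) (hf : IsPrincipal (Subgroup.centralizer (Q : Set G)) f)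
    (he : IsPrincipal (Subgroup.centralizer (P : Set G)) e) : Step p (Q, f) (P, e) := by
  have hfP : f ∈ fixedBy k P := by
    intro u hu
    have h := hf.conj u
    rw [map_conj_eq_of_mem_normalizer (normalizer_le_normalizer_centralizer Q (hPN hu))] at h
    exact h.eq hf
  refine ⟨⟨hP.to_le hQP, hf.1⟩, ⟨hP, he.1⟩, hQP, hPN, hfP, ?_⟩
  have hz : br P f ∈ centerIn k (Subgroup.centralizer (P : Set G)) := by
    have h := br_mem_centerIn (P := P) hf.1.mem
    rwa [centralizer_inf_of_le hQP] at h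
  refine he.1.mul_eq_self_of_ne hz (by rw [← br_mul hP hfP hfP, hf.1.idem]) fun h => ?_
  have h1 := map_mul (aug k G) (br P f) e
  rw [h, map_zero, aug_br hP hfP, hf.2, he.2, mul_one] at h1
  exact zero_ne_one h1

theorem ple_of_isPrincipal (hblk : ∀ H : Subgroup G, HasBlocks k H) {P : Subgroup G} (hP : IsPGroup p P)
    {e : k[G]} (he : IsPrincipal (Subgroup.centralizer (P : Set G)) e) (Q : Subgroup G) :
    Q ≤ P → ∀ f : k[G], IsPrincipal (Subgroup.centralizer (Q : Set G)) f → PLE p (Q, f) (P, e) := by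
  induction Q using WellFoundedGT.induction with
  | ind Q ih =>
    intro hQP f hf
    rcases eq_or_lt_of_le hQP with rfl | hlt
    · rw [hf.eq he]; exact Relation.ReflTransGen.refl
    · obtain ⟨g, hg⟩ := exists_isPrincipal (hblk (Subgroup.centralizer
        ((P ⊓ Subgroup.normalizer (Q : Set G) : Subgroup G) : Set G)))
      exact Relation.ReflTransGen.head
        (step_of_isPrincipal (hP.to_le inf_le_left) (le_inf hlt.le Subgroup.le_normalizer) inf_le_right hf hg)
        (ih _ (lt_inf_normalizer hP hlt) inf_le_left g hg)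

theorem isPairOf_of_isPrincipal {B : k[G]} (hB : IsPrincipal (⊤ : Subgroup G) B) {P : Subgroup G}
    (hP : IsPGroup p P) {e : k[G]} (he : IsPrincipal (Subgroup.centralizer (P : Set G)) e) :
    IsPairOf p B (P, e) := by
  refine ⟨⟨hP, he.1⟩, he.1.mul_eq_self_of_ne (br_top_mem hB.1.mem) ?_ fun h => ?_⟩
  · rw [← br_mul hP (mem_fixedBy_of_top hB.1.mem _) (mem_fixedBy_of_top hB.1.mem _), hB.1.idem]
  · have h1 := map_mul (aug k G) (br P B) e
    rw [h, map_zero, aug_br hP (mem_fixedBy_of_top hB.1.mem _), hB.2, he.2, mul_one] at h1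
    exact zero_ne_one h1

theorem isMax_of_sylow {B : k[G]} {a : Subgroup G × k[G]} (ha : IsPairOf p B a) (S : Sylow p G)
    (hS : a.1 = S) : IsMax p B a := by
  refine ⟨ha, fun b hb => ?_⟩
  rw [hS]
  exact S.is_maximal' hb.2.1.1 (hS ▸ hb.2.2.1)

/-- The third main theorem. -/
theorem isPrincipal_of_isPairOf (hblk : ∀ H : Subgroup G, HasBlocks k H) {B : k[G]}
    (hB : IsPrincipal (⊤ : Subgroup G) B) {Q : Subgroup G} {f : k[G]} (hb : IsPairOf p B (Q, f)) :
    IsPrincipal (Subgroup.centralizer (Q : Set G)) f := by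
  obtain ⟨S⟩ := Sylow.nonempty (p := p) (G := G)
  obtain ⟨e₀, he₀⟩ := exists_isPrincipal (hblk (Subgroup.centralizer ((S : Subgroup G) : Set G)))
  have ha := isMax_of_sylow (isPairOf_of_isPrincipal hB S.isPGroup' he₀) S rfl
  obtain ⟨g, hg⟩ := exists_conj_ple hblk hB.1 ha hb
  obtain ⟨f₀, hf₀⟩ := exists_isPrincipal (hblk (Subgroup.centralizer
    ((Q.map (MulAut.conj g).toMonoidHom : Subgroup G) : Set G)))
  have h2 := ple_unique hblk ⟨S.isPGroup', he₀.1⟩ _ _ _ hg
    (ple_of_isPrincipal hblk S.isPGroup' he₀ _ hg.le f₀ hf₀)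
  have h3 := hf₀.conj g⁻¹
  rw [map_conj_centralizer, map_conj_map_conj_inv] at h3
  simp only at h2
  rwa [← h2, conjEl_inv_conjEl] at h3

end Cfsg.Agent.BrauerPairs
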