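import Cfsg.Agent.Lib.BrauerPairs.Lift
import Cfsg.Agent.Lib.BrauerPairs.Abstract

/-!
# The Prelude's Brauer pairs and the abstract ones

With `[M.IsMaximal]` and `[CharP (AlgInt ⧸ M) p]` (from `IsPModular p M`: `hM.2.1` and
`Blocks.charP_residue hM.2.2`): dictionary between `IsBrauerPairOf`, `IsNormalSubpair`, `SubpairLE`,
`IsMaximalBrauerPair`, `conjBlock`, `IsDefectGroup`, `principalBlock` and the abstract notions.
-/

set_option autoImplicit false
set_option linter.unusedSectionVars false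

open MonoidAlgebra Cfsg
open scoped Classical Cfsg.Agent.Blocks

namespace Cfsg.Agent.BrauerPairs

open Cfsg.Agent

universe u

/-- An idempotent of the centre has central character `1` on a block exactly when it fixes it. -/
theorem IsBlockIdem.omega_eq_one_iff {k : Type*} [Field k] {G : Type*} [Group G] [Finite G] {H : Subgroup G}
    {e : MonoidAlgebra k G} (he : IsBlockIdem H e) {z : MonoidAlgebra k G} (hz : z ∈ centerIn k H)
    (hzz : z * z = z) : omega e z = 1 ↔ z * e = e := by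
  constructor
  · intro h
    refine he.mul_eq_self_of_ne hz hzz fun h0 => ?_
    have h1 := (he.omega_eq_zero_iff hz).2 (by rw [h0]; exact IsNilpotent.zero)
    exact zero_ne_one (h1.symm.trans h)
  · intro h
    exact he.omega_eq hz (by rw [h, one_smul, sub_self]; exact IsNilpotent.zero)

variable {G : Type u} [Group G] [Finite G] {p : ℕ} [Fact p.Prime] {M : Ideal AlgInt} [M.IsMaximal]
  [CharP (AlgInt ⧸ M) p]

/-- The central character of a block of `C(P)` at a Brauer image, as a complex number. -/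
theorem omega_blk_br (P : Subgroup G) {e : Set (IrrCharacter (Subgroup.centralizer (P : Set G)))}
    (he : IsPBlock M e) {ξ : IrrCharacter (Subgroup.centralizer (P : Set G))} (hξ : ξ ∈ e) {β : G → ℂ}
    (hβ : ∀ x, MemLocalRing M (β x))
    (hβc : ∀ c x : Subgroup.centralizer (P : Set G), β ((c : G) * x * (c : G)⁻¹) = β x)
    {z : MonoidAlgebra (AlgInt ⧸ M) G} (hz : ∀ x, z.coeff x = Blocks.red M (β x)) :
    omega (blk M _ e) (br P z) = Blocks.red M (brauerOmega P β ξ.1) ∧
      MemLocalRing M (brauerOmega P β ξ.1) := by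
  haveI := Fintype.ofFinite (Subgroup.centralizer (P : Set G))
  set w : MonoidAlgebra ℂ (Subgroup.centralizer (P : Set G)) :=
    Blocks.ofFun fun c => β (c : G) with hw
  have hwc : Blocks.IsCentralElt w := Blocks.isCentralElt_ofFun fun g h => by
    simp only [Subgroup.coe_mul, Subgroup.coe_inv]
    exact hβc h g
  have hwS : Blocks.SCoeff M w := Blocks.scoeff_ofFun fun c => hβ _
  have hincl : incl (Subgroup.centralizer (P : Set G)) (AlgInt ⧸ M) (Blocks.redA M w) = br P z := by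
    refine Blocks.alg_ext fun g => ?_
    by_cases hg : g ∈ Subgroup.centralizer (P : Set G)
    · rw [coeff_br_of_mem z hg, hz]
      refine (coeff_incl_coe _ _ (⟨g, hg⟩ : Subgroup.centralizer (P : Set G))).trans ?_
      rw [Blocks.coeff_redA, hw, Blocks.coeff_ofFun]
    · rw [coeff_br_of_notMem z hg, coeff_incl_of_notMem _ _ hg]
  have hω : Blocks.omega ξ.1 w = brauerOmega P β ξ.1 := by
    rw [Blocks.omega, Blocks.chiL_eq_sum, brauerOmega, finsum_eq_sum_of_fintype, Finset.sum_div]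
    exact Finset.sum_congr rfl fun c _ => by rw [hw, Blocks.coeff_ofFun]
  rw [← hω, ← hincl]
  exact ⟨omega_blk _ he hξ hwc hwS, Blocks.memLocalRing_omega ξ hwc hwS⟩

/-- "`e` occurs in the Brauer image at `P`". -/
theorem forall_brauerOmega_iff (P : Subgroup G) {e : Set (IrrCharacter (Subgroup.centralizer (P : Set G)))}
    (he : IsPBlock M e) {β : G → ℂ} (hβ : ∀ x, MemLocalRing M (β x))
    (hβc : ∀ c x : Subgroup.centralizer (P : Set G), β ((c : G) * x * (c : G)⁻¹) = β x)
    {z : MonoidAlgebra (AlgInt ⧸ M) G} (hz : ∀ x, z.coeff x = Blocks.red M (β x))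
    (hcent : br P z ∈ centerIn (AlgInt ⧸ M) (Subgroup.centralizer (P : Set G)))
    (hidem : br P z * br P z = br P z) :
    (∀ ξ ∈ e, MemLocalIdeal M (brauerOmega P β ξ.1 - 1)) ↔ br P z * blk M _ e = blk M _ e := by
  rw [← (isBlockIdem_blk _ he).omega_eq_one_iff hcent hidem]
  constructor
  · intro h
    obtain ⟨ξ, hξ⟩ := nonempty_of_isPBlock he
    obtain ⟨h1, h2⟩ := omega_blk_br P he hξ hβ hβc hz
    rw [h1, ← Blocks.red_one (M := M), Blocks.red_eq_iff h2 Blocks.memLocalRing_one]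
    exact h ξ hξ
  · intro h ξ hξ
    obtain ⟨h1, h2⟩ := omega_blk_br P he hξ hβ hβc hz
    rwa [h1, ← Blocks.red_one (M := M), Blocks.red_eq_iff h2 Blocks.memLocalRing_one] at h

theorem isBrauerPair_iff {Q : Subgroup G} {f : Set (IrrCharacter (Subgroup.centralizer (Q : Set G)))} :
    IsBrauerPair p M Q f ↔ IsPBlock M f ∧ IsPair p (Q, blk M _ f) :=
  ⟨fun h => ⟨h.2, h.1, isBlockIdem_blk _ h.2⟩, fun h => ⟨h.2.1, h.1⟩⟩

theorem isBrauerPairOf_iff {B : Set (IrrCharacter G)} (hB : IsPBlock M B) {Q : Subgroup G}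
    {f : Set (IrrCharacter (Subgroup.centralizer (Q : Set G)))} :
    IsBrauerPairOf p M B Q f ↔ IsPBlock M f ∧ IsPairOf p (blkG M B) (Q, blk M _ f) := by
  have hBi := isBlockIdem_blkG hB
  have key : ∀ hQ : IsPGroup p Q, IsPBlock M f →
      ((∀ ξ ∈ f, MemLocalIdeal M (brauerOmega Q (blockCoeff B) ξ.1 - 1)) ↔
        br Q (blkG M B) * blk M _ f = blk M _ f) := fun hQ hf =>
    forall_brauerOmega_iff Q hf (memLocalRing_blockCoeff hB) (fun c x => blockCoeff_conj B _ _)
      (coeff_blkG B) (br_top_mem hBi.mem)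
      (by rw [← br_mul hQ (mem_fixedBy_of_top hBi.mem _) (mem_fixedBy_of_top hBi.mem _), blkG_mul_self hB])
  constructor
  · rintro ⟨hp, -, h⟩
    exact ⟨hp.2, ⟨hp.1, isBlockIdem_blk _ hp.2⟩, (key hp.1 hp.2).1 h⟩
  · rintro ⟨hf, ⟨hQ, -⟩, h⟩
    exact ⟨⟨hQ, hf⟩, hB, (key hQ hf).2 h⟩

/-! ### Conjugation -/

theorem mem_iff_conj_mem {H : Subgroup G} {x : G} (hx : x ∈ Subgroup.normalizer (H : Set G)) (c : G) :
    c ∈ H ↔ x⁻¹ * c * x ∈ H :=
  (Subgroup.mem_normalizer_iff''.1 hx) c

theorem coe_conjIso {K : Type u} [Group K] (x : K) {H H' : Subgroup K} (hH : ∀ c, c ∈ H' ↔ x⁻¹ * c * x ∈ H)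
    (c : H') : ((conjIso x hH c : H) : K) = x⁻¹ * c * x := rfl

theorem isConjCharOf_iff {H : Subgroup G} {x : G} (hx : ∀ c, c ∈ H ↔ x⁻¹ * c * x ∈ H)
    (χ χ' : IrrCharacter H) : IsConjCharOf H x χ.1 χ'.1 ↔ χ' = compIrr (conjIso x hx) χ := by
  constructor
  · intro h
    refine Subtype.ext (funext fun c => ?_)
    exact h (conjIso x hx c) c (by rw [coe_conjIso x]; group)
  · rintro rfl k k' hk
    show χ.1 (conjIso x hx k') = χ.1 k
    have e : conjIso x hx k' = k := Subtype.ext ((coe_conjIso x hx k').trans (by rw [hk]; group))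
    rw [e]

theorem stabilizesBlock_iff {H : Subgroup G} {f : Set (IrrCharacter H)} (hf : IsPBlock M f) {x : G}
    (hx : x ∈ Subgroup.normalizer (H : Set G)) :
    StabilizesBlock H f x ↔ conjEl x (blk M H f) = blk M H f := by
  set ι := conjIso x (mem_iff_conj_mem hx)
  rw [← blk_mapBlock_conjIso x (mem_iff_conj_mem hx) f]
  constructor
  · rintro ⟨-, h⟩
    congr 1
    obtain ⟨χ, hχ⟩ := nonempty_of_isPBlock hf
    obtain ⟨χ', hχ', hc⟩ := h χ hχ
    rw [isConjCharOf_iff (mem_iff_conj_mem hx)] at hc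
    have hmem : χ' ∈ mapBlock ι f := ⟨χ, hχ, hc.symm⟩
    exact (eq_blockOf_of_mem (isPBlock_mapBlock ι hf) hmem).trans (eq_blockOf_of_mem hf hχ').symm
  · intro h
    have h1 := blk_injective H (isPBlock_mapBlock _ hf) hf h
    refine ⟨hx, fun χ hχ => ⟨compIrr ι χ, ?_, (isConjCharOf_iff (mem_iff_conj_mem hx) χ _).2 rfl⟩⟩
    rw [← h1]
    exact ⟨χ, hχ, rfl⟩

theorem mem_centralizer_map_iff (Q : Subgroup G) (x c : G) :
    c ∈ Subgroup.centralizer ((Q.map (MulAut.conj x).toMonoidHom : Subgroup G) : Set G) ↔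
      x⁻¹ * c * x ∈ Subgroup.centralizer (Q : Set G) := by
  rw [← map_conj_centralizer, Subgroup.mem_map_equiv, MulAut.conj_symm_apply]

theorem conjBlock_eq (Q : Subgroup G) (x : G) (f : Set (IrrCharacter (Subgroup.centralizer (Q : Set G)))) :
    conjBlock Q x f = mapBlock (conjIso x (mem_centralizer_map_iff Q x)) f := by
  ext ξ'
  constructor
  · rintro ⟨ξ, hξ, h⟩
    refine ⟨ξ, hξ, Subtype.ext (funext fun c' => ?_)⟩
    exact (h (conjIso x (mem_centralizer_map_iff Q x) c') c' (by rw [coe_conjIso x]; group)).symm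
  · rintro ⟨ξ, hξ, rfl⟩
    refine ⟨ξ, hξ, fun c c' hc => ?_⟩
    show ξ.1 (conjIso x (mem_centralizer_map_iff Q x) c') = ξ.1 c
    have e : conjIso x (mem_centralizer_map_iff Q x) c' = c :=
      Subtype.ext ((coe_conjIso x (mem_centralizer_map_iff Q x) c').trans (by rw [hc]; group))
    rw [e]

theorem isPBlock_conjBlock {Q : Subgroup G} {f : Set (IrrCharacter (Subgroup.centralizer (Q : Set G)))}
    (hf : IsPBlock M f) (x : G) : IsPBlock M (conjBlock Q x f) := by
  rw [conjBlock_eq]; exact isPBlock_mapBlock _ hf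

theorem blk_conjBlock (Q : Subgroup G) (x : G) (f : Set (IrrCharacter (Subgroup.centralizer (Q : Set G)))) :
    ((Q.map (MulAut.conj x).toMonoidHom, blk M _ (conjBlock Q x f)) :
      Subgroup G × MonoidAlgebra (AlgInt ⧸ M) G) = conjPair x (Q, blk M _ f) := by
  rw [conjBlock_eq, blk_mapBlock_conjIso]
  rfl

/-! ### Inclusion -/

theorem isNormalSubpair_iff {Q P : Subgroup G} {f : Set (IrrCharacter (Subgroup.centralizer (Q : Set G)))}
    {e : Set (IrrCharacter (Subgroup.centralizer (P : Set G)))} :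
    IsNormalSubpair p M Q f P e ↔
      IsPBlock M f ∧ IsPBlock M e ∧ Step p (Q, blk M _ f) (P, blk M _ e) := by
  have key : IsPGroup p P → Q ≤ P → P ≤ Subgroup.normalizer (Q : Set G) → IsPBlock M f → IsPBlock M e →
      blk M _ f ∈ fixedBy (AlgInt ⧸ M) P →
      ((∀ ξ ∈ e, MemLocalIdeal M
        (brauerOmega P (subgroupBlockCoeff (Subgroup.centralizer (Q : Set G)) f) ξ.1 - 1)) ↔
          br P (blk M _ f) * blk M _ e = blk M _ e) := by
    intro hP hQP _ hf he hfix
    have hmem := (isBlockIdem_blk _ hf).mem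
    refine forall_brauerOmega_iff P he (fun x => ?_) (fun c x => ?_) (coeff_blk _ f) ?_ ?_
    · unfold subgroupBlockCoeff
      by_cases hx : x ∈ Subgroup.centralizer (Q : Set G)
      · rw [dif_pos hx]; exact memLocalRing_blockCoeff hf _
      · rw [dif_neg hx]; exact Blocks.memLocalRing_zero
    · have hc := Subgroup.centralizer_le (s := (Q : Set G)) hQP c.2
      have hx := Subgroup.centralizer_le (s := (Q : Set G)) hQP x.2
      unfold subgroupBlockCoeff
      rw [dif_pos (mul_mem (mul_mem hc hx) (inv_mem hc)), dif_pos hx]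
      exact blockCoeff_conj f ⟨x, hx⟩ ⟨c, hc⟩
    · have h := br_mem_centerIn (P := P) hmem
      rwa [centralizer_inf_of_le hQP] at h
    · rw [← br_mul hP hfix hfix, (isBlockIdem_blk _ hf).idem]
  constructor
  · rintro ⟨hQf, hPe, hQP, hn, hst, h⟩
    have hfix : blk M _ f ∈ fixedBy (AlgInt ⧸ M) P := fun u hu =>
      (stabilizesBlock_iff hQf.2 (normalizer_le_normalizer_centralizer Q (hn hu))).1 (hst u hu)
    exact ⟨hQf.2, hPe.2, ⟨hQf.1, isBlockIdem_blk _ hQf.2⟩, ⟨hPe.1, isBlockIdem_blk _ hPe.2⟩, hQP, hn, hfix,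
      (key hPe.1 hQP hn hQf.2 hPe.2 hfix).1 h⟩
  · rintro ⟨hf, he, hQf, hPe, hQP, hn, hfix, h⟩
    exact ⟨⟨hQf.1, hf⟩, ⟨hPe.1, he⟩, hQP, hn,
      fun u hu => (stabilizesBlock_iff hf (normalizer_le_normalizer_centralizer Q (hn hu))).2 (hfix u hu),
      (key hPe.1 hQP hn hf he hfix).2 h⟩

theorem ple_of_subpairLE {Q P : Subgroup G} {f : Set (IrrCharacter (Subgroup.centralizer (Q : Set G)))}
    {e : Set (IrrCharacter (Subgroup.centralizer (P : Set G)))} (h : SubpairLE p M Q f P e) :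
    PLE p (Q, blk M _ f) (P, blk M _ e) :=
  Relation.ReflTransGen.lift (r := NormalSubpairRel p M)
    (fun a : BrauerPairIdx G => ((a.1, blk M _ a.2) : Subgroup G × MonoidAlgebra (AlgInt ⧸ M) G))
    (fun _ _ hab => (isNormalSubpair_iff.1 hab).2.2) _ _ h

theorem subpairLE_of_ple {Q P : Subgroup G} {f : Set (IrrCharacter (Subgroup.centralizer (Q : Set G)))}
    {e : Set (IrrCharacter (Subgroup.centralizer (P : Set G)))} (hf : IsPBlock M f) (he : IsPBlock M e)
    (h : PLE p (Q, blk M _ f) (P, blk M _ e)) : SubpairLE p M Q f P e := by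
  suffices key : ∀ a, PLE p a (P, blk M _ e) → ∀ (Q : Subgroup G)
      (f : Set (IrrCharacter (Subgroup.centralizer (Q : Set G)))), IsPBlock M f → a = (Q, blk M _ f) →
      SubpairLE p M Q f P e from key _ h Q f hf rfl
  intro a ha
  induction ha using Relation.ReflTransGen.head_induction_on with
  | refl =>
    intro Q f hf heq
    obtain ⟨rfl, h2⟩ := Prod.mk.injEq _ _ _ _ ▸ heq
    rw [blk_injective _ he hf h2]
    exact Relation.ReflTransGen.refl
  | @head a c h1 _ ih =>
    rintro Q f hf rfl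
    obtain ⟨R, g⟩ := c
    obtain ⟨g', hg', rfl⟩ := exists_eq_blk (Subgroup.centralizer (R : Set G)) h1.2.1.2
    exact Relation.ReflTransGen.head (b := (⟨R, g'⟩ : BrauerPairIdx G))
      (isNormalSubpair_iff.2 ⟨hf, hg', h1⟩) (ih R g' hg' rfl)

theorem subpairLE_iff {Q P : Subgroup G} {f : Set (IrrCharacter (Subgroup.centralizer (Q : Set G)))}
    {e : Set (IrrCharacter (Subgroup.centralizer (P : Set G)))} (hf : IsPBlock M f) (he : IsPBlock M e) :
    SubpairLE p M Q f P e ↔ PLE p (Q, blk M _ f) (P, blk M _ e) :=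
  ⟨ple_of_subpairLE, subpairLE_of_ple hf he⟩

theorem isMaximalBrauerPair_iff {B : Set (IrrCharacter G)} (hB : IsPBlock M B) {P : Subgroup G}
    {e : Set (IrrCharacter (Subgroup.centralizer (P : Set G)))} :
    IsMaximalBrauerPair p M B P e ↔ IsPBlock M e ∧ IsMax p (blkG M B) (P, blk M _ e) := by
  constructor
  · rintro ⟨h, hmax⟩
    obtain ⟨he, hpair⟩ := (isBrauerPairOf_iff hB).1 h
    refine ⟨he, hpair, ?_⟩
    rintro ⟨R, g⟩ hstep
    obtain ⟨g', hg', rfl⟩ := exists_eq_blk (Subgroup.centralizer (R : Set G)) hstep.2.1.2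
    exact hmax R g' ((isBrauerPairOf_iff hB).2 ⟨hg', (step_isPairOf_iff (isBlockIdem_blkG hB) hstep).2 hpair⟩)
      (subpairLE_of_ple he hg' (Relation.ReflTransGen.single hstep))
  · rintro ⟨he, hmax⟩
    refine ⟨(isBrauerPairOf_iff hB).2 ⟨he, hmax.1⟩, fun R g hg hle => ?_⟩
    exact (congrArg Prod.fst (hmax.ple_eq (ple_of_subpairLE hle))).symm

/-! ### Defect groups -/

theorem redA_classSum_eq (x : G) : Blocks.redA M (Blocks.classSum ℂ x) = clsSum (AlgInt ⧸ M) x :=
  Blocks.alg_ext fun y => by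
    rw [Blocks.redA_classSum, Blocks.coeff_classSum, coeff_clsSum]

theorem isDefectClass_iff {B : Set (IrrCharacter G)} (hB : IsPBlock M B) (x : G) :
    IsDefectClass M B x ↔
      (blkG M B).coeff x ≠ 0 ∧ omega (blkG M B) (clsSum (AlgInt ⧸ M) x) ≠ 0 := by
  have hω : ∀ χ ∈ B, omega (blkG M B) (clsSum (AlgInt ⧸ M) x) = Blocks.red M (centralChar χ.1 x) :=
    fun χ hχ => by
      rw [← redA_classSum_eq, omega_blkG hB hχ (Blocks.isCentralElt_classSum x) (Blocks.scoeff_classSum x),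
        Blocks.omega_classSum (Blocks.irr_classFun χ)]
  rw [coeff_blkG, ne_eq, Blocks.red_eq_zero_iff (memLocalRing_blockCoeff hB x)]
  constructor
  · rintro ⟨-, h2, h3⟩
    obtain ⟨χ, hχ⟩ := nonempty_of_isPBlock hB
    refine ⟨h2, ?_⟩
    rw [hω χ hχ, ne_eq, Blocks.red_eq_zero_iff (Blocks.memLocalRing_centralChar χ x)]
    exact h3 χ hχ
  · rintro ⟨h2, h3⟩
    refine ⟨memLocalRing_blockCoeff hB x, h2, fun χ hχ => ?_⟩
    rwa [hω χ hχ, ne_eq, Blocks.red_eq_zero_iff (Blocks.memLocalRing_centralChar χ x)] at h3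

theorem exists_isMax {B : Set (IrrCharacter G)} (hB : IsPBlock M B) :
    ∃ a : Subgroup G × MonoidAlgebra (AlgInt ⧸ M) G, IsMax p (blkG M B) a := by
  have hBi := isBlockIdem_blkG hB
  have hC : Subgroup.centralizer ((⊥ : Subgroup G) : Set G) = ⊤ := by
    rw [eq_top_iff]
    intro g _
    rw [Subgroup.mem_centralizer_iff]
    intro h hh
    rw [Subgroup.coe_bot, Set.mem_singleton_iff] at hh
    simp [hh]
  have hpair : IsPairOf p (blkG M B) ((⊥ : Subgroup G), blkG M B) := by
    refine ⟨⟨IsPGroup.of_bot, ?_⟩, ?_⟩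
    · show IsBlockIdem (Subgroup.centralizer ((⊥ : Subgroup G) : Set G)) _
      rw [hC]; exact hBi
    · show br ⊥ (blkG M B) * blkG M B = blkG M B
      rw [br_eq_self (fun x hx => absurd (hC ▸ Subgroup.mem_top x) hx), blkG_mul_self hB]
  obtain ⟨b, -, hb⟩ := exists_max_above hBi hpair
  exact ⟨b, hb⟩

theorem exists_maximalBrauerPair {B : Set (IrrCharacter G)} (hB : IsPBlock M B) :
    ∃ (P : Subgroup G) (e : Set (IrrCharacter (Subgroup.centralizer (P : Set G)))),
      IsMaximalBrauerPair p M B P e := by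
  obtain ⟨⟨P, e⟩, he⟩ := exists_isMax (p := p) hB
  obtain ⟨e', he', rfl⟩ := exists_eq_blk (Subgroup.centralizer (P : Set G)) he.1.1.2
  exact ⟨P, e', (isMaximalBrauerPair_iff hB).2 ⟨he', he⟩⟩

theorem isDefectGroup_of_isMax {B : Set (IrrCharacter G)} (hB : IsPBlock M B)
    {a : Subgroup G × MonoidAlgebra (AlgInt ⧸ M) G} (ha : IsMax p (blkG M B) a) :
    IsDefectGroup p M B a.1 := by
  have hBi := isBlockIdem_blkG hB
  obtain ⟨x, hx, hxω⟩ := exists_coeff_omega_ne_zero hBi
  obtain ⟨y, hxy, S, hS⟩ := exists_isConj_sylow (fun H => hasBlocks M H) hBi ha hx hxω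
  refine ⟨y, (isDefectClass_iff hB y).2 ⟨?_, ?_⟩, S, hS⟩
  · obtain ⟨g, rfl⟩ := isConj_iff.1 hxy
    rwa [mem_fixedBy_iff_coeff.1 hBi.mem.2 g (Subgroup.mem_top g)]
  · have : clsSum (AlgInt ⧸ M) y = clsSum (AlgInt ⧸ M) x := Blocks.alg_ext fun z => by
      rw [coeff_clsSum, coeff_clsSum]
      exact if_congr ⟨fun h => hxy.trans h, fun h => hxy.symm.trans h⟩ rfl rfl
    rwa [this]

theorem exists_isMax_of_isDefectGroup {B : Set (IrrCharacter G)} (hB : IsPBlock M B) {D : Subgroup G}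
    (hD : IsDefectGroup p M B D) :
    ∃ e : Set (IrrCharacter (Subgroup.centralizer (D : Set G))),
      IsPBlock M e ∧ IsMax p (blkG M B) (D, blk M _ e) := by
  have hBi := isBlockIdem_blkG hB
  obtain ⟨x, hx, S, rfl⟩ := hD
  obtain ⟨h1, h2⟩ := (isDefectClass_iff hB x).1 hx
  obtain ⟨⟨P, f⟩, ha⟩ := exists_isMax (p := p) hB
  obtain ⟨g, hg⟩ := defect_conj (fun H => hasBlocks M H) hBi ha h1 h2 S
  have h := ha.conj hBi g⁻¹
  rw [show conjPair g⁻¹ (P, f) = ((S : Subgroup _).map (Subgroup.centralizer ({x} : Set G)).subtype,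
      conjEl g⁻¹ f) from Prod.ext (by rw [← map_conj_map_conj_inv g
        ((S : Subgroup _).map (Subgroup.centralizer ({x} : Set G)).subtype), hg]; rfl) rfl] at h
  obtain ⟨e, he, heq⟩ := exists_eq_blk _ h.1.1.2
  exact ⟨e, he, heq.symm ▸ h⟩

/-! ### The principal block -/

theorem aug_incl (H : Subgroup G) (a : MonoidAlgebra (AlgInt ⧸ M) H) :
    aug (AlgInt ⧸ M) G (incl H (AlgInt ⧸ M) a) = aug (AlgInt ⧸ M) H a := by
  induction a using MonoidAlgebra.induction_linear with
  | zero => rw [map_zero, map_zero, map_zero]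
  | add a b ha hb => rw [map_add, map_add, ha, hb, map_add]
  | single g r => simp [incl, aug, MonoidAlgebra.mapDomainAlgHom, MonoidAlgebra.lift_single]

theorem aug_blkG_principalBlock {K : Type*} [Group K] [Finite K] :
    aug (AlgInt ⧸ M) K (blkG M (principalBlock M K)) = 1 := by
  haveI := Fintype.ofFinite K
  have hB := isPBlock_principalBlock (M := M) (G := K)
  rw [aug_eq_sum]
  simp only [coeff_blkG]
  rw [← Blocks.red_sum _ fun g _ => memLocalRing_blockCoeff hB g]
  have h := Blocks.omega_blockIdem (Char.trivialChar K) (principalBlock M K)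
  rw [if_pos trivialChar_mem_principalBlock, Blocks.omega, Blocks.chiL_eq_sum] at h
  simp only [Char.trivialChar_apply, mul_one, div_one, Blocks.coeff_blockIdem] at h
  rw [h, Blocks.red_one]

theorem isPrincipal_blkG : IsPrincipal (⊤ : Subgroup G) (blkG M (principalBlock M G)) :=
  ⟨isBlockIdem_blkG isPBlock_principalBlock, aug_blkG_principalBlock⟩

theorem isPrincipal_blk (H : Subgroup G) : IsPrincipal H (blk M H (principalBlock M H)) :=
  ⟨isBlockIdem_blk H isPBlock_principalBlock, by rw [blk, aug_incl, aug_blkG_principalBlock]⟩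

theorem eq_principalBlock_of_isPrincipal {H : Subgroup G} {e : Set (IrrCharacter H)} (he : IsPBlock M e)
    (h : IsPrincipal H (blk M H e)) : e = principalBlock M H :=
  blk_injective H he isPBlock_principalBlock (h.eq (isPrincipal_blk H))

theorem conjBlock_principalBlock (Q : Subgroup G) (x : G) :
    conjBlock Q x (principalBlock M (Subgroup.centralizer (Q : Set G))) =
      principalBlock M (Subgroup.centralizer ((Q.map (MulAut.conj x).toMonoidHom : Subgroup G) : Set G)) := by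
  rw [conjBlock_eq, mapBlock_principalBlock]

end Cfsg.Agent.BrauerPairs
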