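import Cfsg.Prelude.Def_BlockRank
import Cfsg.Agent.Lib.Char.HeightZero
import Mathlib.LinearAlgebra.Trace

/-!
# The rank of a block as a trace

`l(B) = Σ_{χ ∈ B} ⟨χ°, χ⟩`: the map `f ↦ Σ_{ψ ∈ B} ⟨f, ψ⟩ ψ°` projects onto the span of the
restrictions of the members of `B` to the `p`-regular elements.
-/

namespace Cfsg.Agent.BrauerPairs

open scoped ComplexConjugate

universe u

variable {G : Type u} [Group G] {p : ℕ} {M : Ideal AlgInt}

theorem pRegularPart_eq_regFun (p : ℕ) (f : G → ℂ) : pRegularPart p f = Char.regFun p f := by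
  funext x
  unfold pRegularPart Char.regFun IsPRegular
  by_cases hx : p ∣ orderOf x <;> simp [hx]

theorem regFun_regFun (p : ℕ) (f : G → ℂ) : Char.regFun p (Char.regFun p f) = Char.regFun p f := by
  funext x
  unfold Char.regFun
  split_ifs <;> rfl

theorem regFun_sum {ι : Type*} (p : ℕ) (s : Finset ι) (c : ι → ℂ) (f : ι → G → ℂ) :
    Char.regFun p (∑ i ∈ s, c i • f i) = ∑ i ∈ s, c i • Char.regFun p (f i) := by
  funext x
  simp only [Char.regFun, Finset.sum_apply, Pi.smul_apply, smul_eq_mul]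
  split_ifs <;> simp

variable [Fintype G]

/-- `χ°` is the combination `Σ_{ψ ∈ B} ⟨χ°, ψ⟩ ψ°` of the restrictions of the block of `χ`. -/
theorem regFun_eq_sum_block [M.IsMaximal] (hpM : (p : AlgInt) ∈ M) (hp : p.Prime)
    {B : Set (IrrCharacter G)} [DecidablePred (· ∈ B)] (hB : IsPBlock M B) {χ : IrrCharacter G}
    (hχ : χ ∈ B) :
    Char.regFun p χ.1 =
      ∑ ψ : B, classInner (Char.regFun p χ.1) ψ.1.1 • Char.regFun p ψ.1.1 := by
  classical
  conv_lhs => rw [← regFun_regFun, Char.eq_sum_classInner_smul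
    (Char.isClassFunction_regFun p (Char.IsCharacter.isClassFunction (Char.irr_isCharacter χ)))]
  rw [regFun_sum, ← Finset.sum_subtype (Finset.univ.filter (· ∈ B)) (by simp)
    (fun ψ : IrrCharacter G => classInner (Char.regFun p χ.1) ψ.1 • Char.regFun p ψ.1)]
  refine (Finset.sum_filter_of_ne fun ψ _ hψ => ?_).symm
  by_contra hψB
  exact hψ (by rw [Char.classInner_regFun_of_not_sameBlock hpM hp
    (Blocks.not_sameBlock_of_mem hB hχ hψB), zero_smul])

/-- `l(B) = Σ_{χ ∈ B} ⟨χ°, χ⟩`. -/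
theorem blockRank_eq_sum [M.IsMaximal] (hpM : (p : AlgInt) ∈ M) (hp : p.Prime)
    {B : Set (IrrCharacter G)} [DecidablePred (· ∈ B)] (hB : IsPBlock M B) :
    (blockRank p B : ℂ) = ∑ χ : B, classInner (Char.regFun p χ.1.1) χ.1.1 := by
  classical
  let V : Submodule ℂ (G → ℂ) :=
    Submodule.span ℂ ((fun χ : IrrCharacter G => pRegularPart p (χ : G → ℂ)) '' B)
  let Φ : (B → ℂ) →ₗ[ℂ] (G → ℂ) := Fintype.linearCombination ℂ fun χ : B => Char.regFun p χ.1.1
  let Ψ : (G → ℂ) →ₗ[ℂ] (B → ℂ) :=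
    { toFun := fun f χ => classInner f χ.1.1
      map_add' := fun f g => funext fun χ => Char.classInner_add_left f g _
      map_smul' := fun c f => funext fun χ => Char.classInner_smul_left c f _ }
  have hgen : ∀ χ : B, Char.regFun p χ.1.1 ∈ V := fun χ =>
    Submodule.subset_span ⟨χ.1, χ.2, pRegularPart_eq_regFun p _⟩
  have hproj : LinearMap.IsProj V (Φ ∘ₗ Ψ) := by
    refine ⟨fun f => ?_, fun f hf => ?_⟩
    · rw [LinearMap.comp_apply, Fintype.linearCombination_apply]
      exact Submodule.sum_mem _ fun χ _ => Submodule.smul_mem _ _ (hgen χ)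
    · induction hf using Submodule.span_induction with
      | mem g hg =>
        obtain ⟨χ, hχ, rfl⟩ := hg
        show Φ (Ψ (pRegularPart p χ.1)) = pRegularPart p χ.1
        rw [pRegularPart_eq_regFun]
        conv_rhs => rw [regFun_eq_sum_block hpM hp hB hχ]
        exact Fintype.linearCombination_apply _ _ _
      | zero => simp
      | add x y _ _ hx hy => rw [map_add, hx, hy]
      | smul c x _ hx => rw [map_smul, hx]
  have h1 : LinearMap.trace ℂ _ (Φ ∘ₗ Ψ) = (blockRank p B : ℂ) := hproj.trace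
  rw [← h1, LinearMap.trace_comp_comm', LinearMap.trace_eq_matrix_trace ℂ (Pi.basisFun ℂ B),
    Matrix.trace]
  refine Finset.sum_congr rfl fun χ _ => ?_
  rw [Matrix.diag_apply, LinearMap.toMatrix_apply, Pi.basisFun_apply, Pi.basisFun_repr,
    LinearMap.comp_apply]
  show classInner (Φ (Pi.single χ 1)) χ.1.1 = _
  rw [Fintype.linearCombination_apply_single, one_smul]

end Cfsg.Agent.BrauerPairs

namespace Cfsg.Agent.BrauerPairs

open scoped ComplexConjugate

universe u

variable {G : Type u} [Group G] [Fintype G] {p : ℕ} {M : Ideal AlgInt}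

/-- `⟨χ°, ψ⟩`. -/
noncomputable def regDot (p : ℕ) (χ ψ : G → ℂ) : ℂ := classInner (Char.regFun p χ) ψ

omit [Fintype G] in
theorem regFun_mul_conj (p : ℕ) (f f' : G → ℂ) (x : G) :
    Char.regFun p f x * conj (f' x) = f x * conj (Char.regFun p f' x) := by
  unfold Char.regFun
  split_ifs <;> simp

theorem classInner_regFun_right (p : ℕ) (f f' : G → ℂ) :
    classInner f (Char.regFun p f') = regDot p f f' := by
  simp only [regDot, classInner, regFun_mul_conj]

variable {B : Set (IrrCharacter G)}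

theorem regDot_eq_zero [M.IsMaximal] (hpM : (p : AlgInt) ∈ M) (hp : p.Prime) (hB : IsPBlock M B)
    {χ ψ : IrrCharacter G} (hχ : χ ∈ B) (hψ : ψ ∉ B) : regDot p χ.1 ψ.1 = 0 :=
  Char.classInner_regFun_of_not_sameBlock hpM hp (Blocks.not_sameBlock_of_mem hB hχ hψ)

theorem regDot_comm (hp : p.Prime) (χ ψ : IrrCharacter G) :
    regDot p χ.1 ψ.1 = regDot p ψ.1 χ.1 := by
  have h := Char.regInner_comm (p := p) hp χ ψ
  rw [Char.regInner, Char.regInner, Char.classInner_smul_left, Char.classInner_smul_left] at h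
  exact mul_left_cancel₀ (Nat.cast_ne_zero.2 (pow_ne_zero _ hp.ne_zero)) h

/-- `Σ_{ν ∈ B} ⟨χ°, ν⟩ ⟨ν°, η⟩ = ⟨χ°, η⟩`. -/
theorem sum_regDot_mul [M.IsMaximal] (hpM : (p : AlgInt) ∈ M) (hp : p.Prime) (hB : IsPBlock M B)
    [DecidablePred (· ∈ B)] {χ : IrrCharacter G} (hχ : χ ∈ B) (η : G → ℂ) :
    ∑ ν : B, regDot p χ.1 ν.1.1 * regDot p ν.1.1 η = regDot p χ.1 η := by
  classical
  have h := Char.classInner_eq_sum (f' := Char.regFun p η)
    (Char.isClassFunction_regFun p (Char.IsCharacter.isClassFunction (Char.irr_isCharacter χ)))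
  rw [classInner_regFun_right, regDot, regFun_regFun] at h
  rw [← regDot] at h
  rw [h, ← Finset.sum_subtype (Finset.univ.filter (· ∈ B)) (by simp)
    (fun ν : IrrCharacter G => regDot p χ.1 ν.1 * regDot p ν.1 η)]
  simp only [classInner_regFun_right]
  refine Finset.sum_filter_of_ne fun ν _ hν => ?_
  by_contra hνB
  exact hν (by rw [regDot_eq_zero hpM hp hB hχ hνB, zero_mul])

theorem factorization_sub_le_blockDefect {χ : IrrCharacter G} (hχ : χ ∈ B) :
    (Nat.card G).factorization p - (Char.degree χ).factorization p ≤ blockDefect p B :=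
  Nat.sub_le_sub_left (Char.sInf_le_factorization_degree hχ) _

/-- `p^d χ°` has integer coordinates. -/
theorem exists_int_regDot [M.IsMaximal] (hpM : (p : AlgInt) ∈ M) (hp : p.Prime)
    (hB : IsPBlock M B) {χ : IrrCharacter G} (hχ : χ ∈ B) :
    ∃ c : IrrCharacter G → ℤ,
      ∀ ν, ((p ^ blockDefect p B : ℕ) : ℂ) * regDot p χ.1 ν.1 = c ν := by
  classical
  obtain ⟨c, -, hc⟩ := Char.exists_block_coeff hpM hp hB hχ (factorization_sub_le_blockDefect hχ)
  refine ⟨c, fun ν => ?_⟩
  have he : ((p ^ blockDefect p B : ℕ) : ℂ) • Char.regFun p χ.1 =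
      ∑ ψ, ((c ψ : ℤ) : ℂ) • ψ.1 := by
    funext x
    simpa [Finset.sum_apply] using hc x
  rw [regDot, ← Char.classInner_smul_left, he, Char.classInner_sum_irr_left]

/-- For `χ` of height zero, the `p`-part of `ξ(1) p^(d-a)` divides `p^d ⟨χ°, ξ⟩` exactly. -/
theorem intCoeff_of_height_zero [M.IsMaximal] (hpM : (p : AlgInt) ∈ M) (hp : p.Prime)
    (hB : IsPBlock M B) {χ ξ : IrrCharacter G} (hχ : χ ∈ B) (hξ : ξ ∈ B)
    (h0 : blockHeight p B χ.1 = 0) {c : ℤ}
    (hc : ((p ^ blockDefect p B : ℕ) : ℂ) * regDot p χ.1 ξ.1 = c) :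
    c ≠ 0 ∧ (blockHeight p B ξ.1 = 0 → ¬ (p : ℤ) ∣ c) := by
  have hd : blockDefect p B ≤ (Nat.card G).factorization p := Nat.sub_le _ _
  set a := (Nat.card G).factorization p
  have hn : Char.regInner p χ.1 ξ.1 = (((p : ℤ) ^ (a - blockDefect p B) * c : ℤ) : ℂ) := by
    rw [Char.regInner, Char.classInner_smul_left, ← regDot, Int.cast_mul, Int.cast_pow,
      Int.cast_natCast, ← hc, Nat.cast_pow, Nat.cast_pow, ← mul_assoc, ← pow_add,
      Nat.sub_add_cancel hd]
  have h1 := (Char.blockHeight_eq_zero_iff_regInner hpM hp hB hχ hξ hn).1 h0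
  refine ⟨fun h => h1 (by rw [h, mul_zero]; exact dvd_zero _), fun hξ0 hdvd => h1 ?_⟩
  have hb := Char.factorization_degree_of_height_zero hξ hξ0
  have hba : (Char.degree ξ).factorization p ≤ a :=
    (Nat.factorization_le_iff_dvd (Char.degree_pos ξ).ne' Nat.card_pos.ne').2
      (Char.degree_dvd_natCard ξ) p
  have hbd : a - blockDefect p B = (Char.degree ξ).factorization p := by
    rw [blockDefect, ← hb]
    omega
  rw [hbd, pow_succ]
  exact mul_dvd_mul_left _ hdvd

end Cfsg.Agent.BrauerPairs
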