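import Cfsg.Agent.Lib.BrauerPairs.Local
import Cfsg.Agent.Lib.BrauerPairs.Bridge

/-!
# The Prelude's defect groups of blocks of subgroups, and exact idempotents

* `isDefectGroup_iff_defectIn`: defect groups of a block of `H` are the `DefectIn` groups.
* `central_idem_ext`: central idempotents of `ℂ[G]` congruent modulo `M` are equal.
* `exists_block_stab`: the block of `T` with the idempotent of `f`.
-/

set_option autoImplicit false
set_option linter.unusedSectionVars false

open MonoidAlgebra Cfsg
open scoped Classical Cfsg.Agent.Blocks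

namespace Cfsg.Agent.BrauerPairs

open Cfsg.Agent

universe u

variable {G : Type u} [Group G] [Finite G] {p : ℕ} [Fact p.Prime] {M : Ideal AlgInt} [M.IsMaximal]
  [CharP (AlgInt ⧸ M) p]

theorem isDefectGroup_iff_exists_isMax {B : Set (IrrCharacter G)} (hB : IsPBlock M B) (D : Subgroup G) :
    IsDefectGroup p M B D ↔ ∃ e, IsMax p (blkG M B) (D, e) := by
  constructor
  · intro h
    obtain ⟨e, -, he⟩ := exists_isMax_of_isDefectGroup hB h
    exact ⟨_, he⟩
  · rintro ⟨e, he⟩
    exact isDefectGroup_of_isMax hB he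

theorem isDefectGroup_iff_defectIn_top {B : Set (IrrCharacter G)} (hB : IsPBlock M B) (D : Subgroup G) :
    IsDefectGroup p M B D ↔ DefectIn p ⊤ (blkG M B) D :=
  (isDefectGroup_iff_exists_isMax hB D).trans
    (exists_isMax_iff (fun H => hasBlocks M H) (isBlockIdem_blkG hB) D)

theorem isDefectGroup_iff_defectIn {H : Subgroup G} {f : Set (IrrCharacter H)} (hf : IsPBlock M f)
    (D : Subgroup H) : IsDefectGroup p M f D ↔ DefectIn p H (blk M H f) (D.map H.subtype) :=
  (isDefectGroup_iff_defectIn_top hf D).trans (defectIn_incl_iff (blkG M f) D).symm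

theorem isDefectGroup_subgroupOf_iff {H : Subgroup G} {f : Set (IrrCharacter H)} (hf : IsPBlock M f)
    {R : Subgroup G} (hR : R ≤ H) :
    IsDefectGroup p M f (R.subgroupOf H) ↔ DefectIn p H (blk M H f) R := by
  rw [isDefectGroup_iff_defectIn hf, Subgroup.map_subgroupOf_eq_of_le hR]

/-- Central idempotents congruent modulo `M` are equal. -/
theorem central_idem_ext {K : Type u} [Group K] [Finite K] {u v : MonoidAlgebra ℂ K}
    (hu : Blocks.IsCentralElt u) (huu : u * u = u) (huS : Blocks.SCoeff M u)
    (hv : Blocks.IsCentralElt v) (hvv : v * v = v) (hvS : Blocks.SCoeff M v)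
    (h : Blocks.redA M u = Blocks.redA M v) : u = v := by
  refine Blocks.central_ext hu hv fun χ => ?_
  have hm : Blocks.MCoeff M (u - v) := by
    refine (Blocks.redA_eq_zero_iff (Blocks.SCoeff.sub huS hvS)).1 ?_
    rw [Blocks.redA_sub huS hvS, h, sub_self]
  have h1 := Blocks.memLocalIdeal_omega χ (Blocks.IsCentralElt.sub hu hv) hm
  rw [Blocks.omega_sub] at h1
  have hbin : ∀ w : MonoidAlgebra ℂ K, Blocks.IsCentralElt w → w * w = w →
      Blocks.omega χ.1 w = 0 ∨ Blocks.omega χ.1 w = 1 := by
    intro w hw hww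
    have h2 := Blocks.omega_mul χ hw w
    rw [hww] at h2
    rcases eq_or_ne (Blocks.omega χ.1 w) 0 with h0 | h0
    · exact Or.inl h0
    · exact Or.inr ((mul_eq_left₀ h0).1 h2.symm)
  rcases hbin u hu huu with e1 | e1 <;> rcases hbin v hv hvv with e2 | e2 <;> rw [e1, e2] at h1 ⊢
  · exfalso
    exact Blocks.not_memLocalIdeal_one (M := M) (by simpa using Blocks.MemLocalIdeal.neg h1)
  · exfalso
    exact Blocks.not_memLocalIdeal_one (M := M) (by simpa using h1)

/-- The coefficient function of a block is invariant under the elements stabilizing it. -/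
theorem subgroupBlockCoeff_conj {H : Subgroup G} {f : Set (IrrCharacter H)} (hf : IsPBlock M f) {x : G}
    (hx : x ∈ Subgroup.normalizer (H : Set G)) (hfix : conjEl x (blk M H f) = blk M H f) (g : G) :
    subgroupBlockCoeff H f (x⁻¹ * g * x) = subgroupBlockCoeff H f g := by
  unfold subgroupBlockCoeff
  by_cases hg : g ∈ H
  · have hg' := (mem_iff_conj_mem hx g).1 hg
    rw [dif_pos hg', dif_pos hg]
    have e : mapBlock (conjIso x (mem_iff_conj_mem hx)) f = f := by
      refine blk_injective H (isPBlock_mapBlock _ hf) hf ?_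
      rw [blk_mapBlock_conjIso x (mem_iff_conj_mem hx) f, hfix]
    conv_rhs => rw [← e, blockCoeff_mapBlock]
    rfl
  · rw [dif_neg hg, dif_neg fun h => hg ((mem_iff_conj_mem hx g).2 h)]

/-- The block of `T ⊇ C(Q)` with the idempotent of `f`, with exactly the coefficients of `f`. -/
theorem exists_block_stab {Q T : Subgroup G} (hQ : IsPGroup p Q)
    {f : Set (IrrCharacter (Subgroup.centralizer (Q : Set G)))} (hf : IsPBlock M f)
    (hCT : Subgroup.centralizer (Q : Set G) ≤ T) (hQT : Q ≤ T) (hTN : T ≤ Subgroup.normalizer (Q : Set G))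
    (hfix : blk M _ f ∈ fixedBy (AlgInt ⧸ M) T) :
    ∃ F : Set (IrrCharacter T), IsPBlock M F ∧ blk M T F = blk M _ f ∧
      ∀ t : T, blockCoeff F t = subgroupBlockCoeff (Subgroup.centralizer (Q : Set G)) f (t : G) := by
  obtain ⟨F, hF, hFeq⟩ := exists_eq_blk T (isBlockIdem_of_stab p hQ (isBlockIdem_blk _ hf) hCT hQT hTN hfix)
  refine ⟨F, hF, hFeq, ?_⟩
  set u : MonoidAlgebra ℂ T := Blocks.ofFun fun t => subgroupBlockCoeff (Subgroup.centralizer (Q : Set G)) f (t : G) with hu
  have huincl : incl T ℂ u = incl (Subgroup.centralizer (Q : Set G)) ℂ (Blocks.blockIdem f) := by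
    refine Blocks.alg_ext fun g => ?_
    by_cases hg : g ∈ (Subgroup.centralizer (Q : Set G))
    · rw [show g = ((⟨g, hCT hg⟩ : T) : G) from rfl, coeff_incl_coe, hu, Blocks.coeff_ofFun]
      refine Eq.trans ?_ (coeff_incl_coe (Subgroup.centralizer (Q : Set G)) _ (⟨g, hg⟩ : (Subgroup.centralizer (Q : Set G)))).symm
      rw [Blocks.coeff_blockIdem]
      exact dif_pos hg
    · rw [coeff_incl_of_notMem (Subgroup.centralizer (Q : Set G)) _ hg]
      by_cases hgT : g ∈ T
      · rw [show g = ((⟨g, hgT⟩ : T) : G) from rfl, coeff_incl_coe, hu, Blocks.coeff_ofFun]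
        exact dif_neg hg
      · rw [coeff_incl_of_notMem T _ hgT]
  have huu : u * u = u := incl_injective T (by rw [map_mul, huincl, ← map_mul, Blocks.blockIdem_mul_self])
  have hNC : T ≤ Subgroup.normalizer ((Subgroup.centralizer (Q : Set G)) : Set G) := hTN.trans (normalizer_le_normalizer_centralizer Q)
  have huc : Blocks.IsCentralElt u := Blocks.isCentralElt_ofFun fun g h => by
    simpa using subgroupBlockCoeff_conj hf (hNC (inv_mem h.2)) (hfix _ (inv_mem h.2)) (g : G)
  have huS : Blocks.SCoeff M u := Blocks.scoeff_ofFun fun t => by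
    unfold subgroupBlockCoeff
    by_cases h : (t : G) ∈ (Subgroup.centralizer (Q : Set G))
    · rw [dif_pos h]; exact memLocalRing_blockCoeff hf _
    · rw [dif_neg h]; exact Blocks.memLocalRing_zero
  have hEq : Blocks.blockIdem F = u := by
    refine central_idem_ext (Blocks.isCentralElt_blockIdem F) (Blocks.blockIdem_mul_self F)
      (scoeff_blockIdem hF) huc huu huS (incl_injective T ?_)
    show blk M T F = _
    rw [hFeq]
    refine Blocks.alg_ext fun g => ?_
    rw [coeff_blk]
    by_cases hgT : g ∈ T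
    · refine Eq.trans ?_ (coeff_incl_coe T _ (⟨g, hgT⟩ : T)).symm
      rw [Blocks.coeff_redA, hu, Blocks.coeff_ofFun]
    · rw [coeff_incl_of_notMem T _ hgT]
      unfold subgroupBlockCoeff
      rw [dif_neg fun h => hgT (hCT h), Blocks.red_zero]
  intro t
  rw [← Blocks.coeff_blockIdem, hEq, hu, Blocks.coeff_ofFun]

/-- The converse: a block of `T` with these coefficients has the idempotent of `f`. -/
theorem blk_eq_of_coeff {C T : Subgroup G} (hCT : C ≤ T) {f : Set (IrrCharacter C)} {F : Set (IrrCharacter T)}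
    (h : ∀ t : T, blockCoeff F t = subgroupBlockCoeff C f (t : G)) : blk M T F = blk M C f := by
  refine Blocks.alg_ext fun g => ?_
  rw [coeff_blk, coeff_blk]
  congr 1
  by_cases hg : g ∈ T
  · rw [← h ⟨g, hg⟩]
    exact dif_pos hg
  · unfold subgroupBlockCoeff
    rw [dif_neg hg, dif_neg fun h' => hg (hCT h')]

/-- The first pair of a `SubpairLE` is a block (of a Brauer pair). -/
theorem isPBlock_of_subpairLE {Q P : Subgroup G} {f : Set (IrrCharacter (Subgroup.centralizer (Q : Set G)))}
    {e : Set (IrrCharacter (Subgroup.centralizer (P : Set G)))} (he : IsPBlock M e)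
    (h : SubpairLE p M Q f P e) : IsPBlock M f := by
  rcases Relation.ReflTransGen.cases_head h with h1 | ⟨c, h1, -⟩
  · cases h1
    exact he
  · exact (isNormalSubpair_iff.1 h1).1

/-- Statement-level stabiliser equals `stabOf`. -/
theorem eq_stabOf {Q T : Subgroup G} {f : Set (IrrCharacter (Subgroup.centralizer (Q : Set G)))}
    (hf : IsPBlock M f) (hT : ∀ y : G, y ∈ T ↔ y ∈ Subgroup.normalizer (Q : Set G) ∧
      StabilizesBlock (Subgroup.centralizer (Q : Set G)) f y) : T = stabOf Q (blk M _ f) := by
  ext y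
  rw [hT, mem_stabOf]
  exact and_congr_right fun hy => stabilizesBlock_iff hf (normalizer_le_normalizer_centralizer Q hy)

end Cfsg.Agent.BrauerPairs
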