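import Cfsg.Agent.Lib.BrauerPairs.HeightBound
import Cfsg.Agent.Lib.BrauerPairs.LocalBridge

/-!
# Major subsections at elements central in a defect group
-/

set_option autoImplicit false
set_option linter.unusedSectionVars false

open scoped Classical ComplexConjugate Cfsg.Agent.Blocks

namespace Cfsg.Agent.BrauerPairs

universe u

variable {G : Type u} [Group G] [Fintype G] {p : ℕ} [hp : Fact p.Prime] {M : Ideal AlgInt} [M.IsMaximal]
  [CharP (AlgInt ⧸ M) p]

/-- An element central in a defect group carries a major subsection. -/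
theorem exists_major_subsection (hpM : (p : AlgInt) ∈ M) {B : Set (IrrCharacter G)} (hB : IsPBlock M B)
    {D : Subgroup G} (hD : IsDefectGroup p M B D) {u : G} (hu : u ∈ D) (huD : ∀ x ∈ D, x * u = u * x) :
    ∃ b : Set (IrrCharacter (Subgroup.centralizer ({u} : Set G))),
      IsInducedBlock M (Subgroup.centralizer ({u} : Set G)) b B ∧ blockDefect p b = blockDefect p B ∧
      (∃ k, orderOf u = p ^ k) := by
  have hblk := fun L : Subgroup G => hasBlocks M L
  have hBi := isBlockIdem_blkG hB
  obtain ⟨e, he⟩ := (isDefectGroup_iff_exists_isMax hB D).1 hD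
  have hz : Subgroup.zpowers u ≤ D := Subgroup.zpowers_le.2 hu
  have hp' : IsPGroup p D := he.1.1.1
  have hk : ∃ k, orderOf u = p ^ k := by
    obtain ⟨k, hk⟩ := IsPGroup.iff_orderOf.1 hp' ⟨u, hu⟩
    exact ⟨k, by simpa using hk⟩
  have hC : Subgroup.centralizer (Subgroup.zpowers u : Set G) = Subgroup.centralizer ({u} : Set G) :=
    Blocks.centralizer_zpowers_eq
  have hDC : D ≤ Subgroup.centralizer ({u} : Set G) := fun x hx =>
    Subgroup.mem_centralizer_singleton_iff.2 (huD x hx)
  obtain ⟨f, hf⟩ := exists_ple hblk he.1.1 _ hz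
  have hfi : IsBlockIdem (Subgroup.centralizer ({u} : Set G)) f := hC ▸ (hf.isPair_left he.1.1).2
  obtain ⟨b, hb, hbf⟩ := exists_eq_blk _ hfi
  have hCN : Subgroup.centralizer ({u} : Set G) ≤ Subgroup.normalizer (Subgroup.zpowers u : Set G) :=
    hC.ge.trans (Subgroup.centralizer_le_normalizer _)
  refine ⟨b, ?_, ?_, hk⟩
  · refine (isInducedBlock_iff_br hpM (hp'.to_le hz) Blocks.zpowers_le_centralizer hC.le hCN hb hB).2 ?_
    rw [hbf]
    exact ((ple_isPairOf_iff hBi hf).1 he.1).2
  · obtain ⟨E, hE, hDE⟩ := exists_defectIn_centralizer hblk he.1.1 hf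
    rw [hC] at hE hDE
    rw [inf_eq_left.2 hDC] at hDE
    obtain ⟨g, x, -, hx, -⟩ := exists_conj_of_step hblk hBi he hf hE.1 (hz.trans hDE)
      ((hE.2.1.trans hC.ge).trans (centralizer_le_stabOf (hf.isPair_left he.1.1).2)) hE.2.2.1
    have h1 : Nat.card E ≤ Nat.card D := card_map_conj x E ▸ Subgroup.card_le_of_le hx.le
    refine Nat.pow_right_injective hp.out.two_le ?_
    show p ^ blockDefect p b = p ^ blockDefect p B
    rw [← Blocks.card_defectGroup hpM hB hD, ← Blocks.card_defectGroup hpM hb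
      (D := D.subgroupOf (Subgroup.centralizer ({u} : Set G))) ((isDefectGroup_subgroupOf_iff hb hDC).2
        (by rw [hbf, Subgroup.eq_of_le_of_card_ge hDE h1]; exact hE)),
      Nat.card_congr (Subgroup.subgroupOfEquivOfLe hDC).toEquiv]

/-- A character of the block does not vanish on the `p`-section of an element central in a defect
group. -/
theorem exists_apply_ne_zero_of_central (hpM : (p : AlgInt) ∈ M) {B : Set (IrrCharacter G)}
    (hB : IsPBlock M B) {D : Subgroup G} (hD : IsDefectGroup p M B D) {u : G} (hu : u ∈ D)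
    (huD : ∀ x ∈ D, x * u = u * x) {χ : IrrCharacter G} (hχ : χ ∈ B) :
    ∃ s : G, IsPRegular p s ∧ χ.1 (u * s) ≠ 0 := by
  obtain ⟨b, hb, hd, k, hk⟩ := exists_major_subsection hpM hB hD hu huD
  obtain ⟨-, -, -, h4⟩ := HeightBound.ctr_facts hpM rfl hk hb χ
  by_contra hno
  refine h4 hd hχ (Finset.sum_eq_zero fun η _ => ?_)
  rw [show HeightBound.sdot p (Subgroup.centralizer ({u} : Set G)) u χ.1 η.1 = 0 from ?_, map_zero, mul_zero]
  rw [HeightBound.sdot, regDot, classInner, Finset.sum_eq_zero, mul_zero]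
  intro c _
  unfold Char.regFun
  split_ifs with hc
  · rw [zero_mul]
  · rw [show HeightBound.sfun (Subgroup.centralizer ({u} : Set G)) u χ.1 c = 0 from
      not_not.1 fun h => hno ⟨(c : G), by rwa [IsPRegular, Subgroup.orderOf_coe], h⟩, zero_mul]

end Cfsg.Agent.BrauerPairs
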