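import Cfsg.Agent.Lib.BrauerPairs.LocalBridge
import Cfsg.Agent.Lib.Fusion.Group
import Cfsg.Agent.Lib.Fusion.Saturated
import Cfsg.Prelude.Def_BlockFusion

/-!
# The fusion system of a block

* `BHom`: the elements inducing maps of the system; closure properties, and `blockSystem`.
* criteria for the extremal subgroups: `forall_centralizer_le_iff`, `forall_normalizer_le_iff`, `forall_centric_iff`.
* `not_dvd_index_stabOf`, `exists_extension_map`: the two halves of saturation.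
-/

set_option autoImplicit false
set_option linter.unusedSectionVars false

open MonoidAlgebra Cfsg
open scoped Classical Pointwise

namespace Cfsg.Agent.BrauerPairs

open Cfsg.Agent

universe u

section Abstract

variable {k : Type*} [Field k] {G : Type u} [Group G] [Finite G] {p : ℕ} [Fact p.Prime] [CharP k p]
  {B e f : MonoidAlgebra k G} {P Q : Subgroup G}

variable (p) in
/-- `g` carries the pair at `Q` below `(P, e)` to a pair below `(P, e)`. -/
def BHom (P : Subgroup G) (e : MonoidAlgebra k G) (g : G) (Q : Subgroup G) : Prop :=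
  Q ≤ P ∧ ∃ f, PLE p (Q, f) (P, e) ∧ PLE p (conjPair g (Q, f)) (P, e)

theorem bhom_iff (hblk : ∀ H : Subgroup G, HasBlocks k H) (ha : IsPair p (P, e))
    (hle : PLE p (Q, f) (P, e)) (g : G) : BHom p P e g Q ↔ PLE p (conjPair g (Q, f)) (P, e) := by
  refine ⟨?_, fun h => ⟨hle.le, f, hle, h⟩⟩
  rintro ⟨-, f', h1, h2⟩
  rwa [ple_unique hblk ha Q f f' hle h1]

theorem BHom.map_le {g : G} (h : BHom p P e g Q) : Q.map (MulAut.conj g).toMonoidHom ≤ P := by
  obtain ⟨-, f, -, h2⟩ := h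
  exact h2.le

theorem BHom.of_mem (hblk : ∀ H : Subgroup G, HasBlocks k H) (ha : IsPair p (P, e)) {g : G} (hg : g ∈ P)
    (hQ : Q ≤ P) : BHom p P e g Q := by
  obtain ⟨f, hf⟩ := exists_ple hblk ha Q hQ
  refine ⟨hQ, f, hf, ?_⟩
  have h := hf.conj g
  rwa [conjPair_self_of_mem ha hg] at h

theorem BHom.restrict (hblk : ∀ H : Subgroup G, HasBlocks k H) (ha : IsPair p (P, e)) {g : G}
    {R : Subgroup G} (h : BHom p P e g R) (hQR : Q ≤ R) : BHom p P e g Q := by
  obtain ⟨hR, r, hr, hgr⟩ := h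
  obtain ⟨f, hf⟩ := exists_ple hblk (hr.isPair_left ha) Q hQR
  exact ⟨hQR.trans hR, f, Relation.ReflTransGen.trans hf hr, Relation.ReflTransGen.trans (hf.conj g) hgr⟩

theorem BHom.comp (hblk : ∀ H : Subgroup G, HasBlocks k H) (ha : IsPair p (P, e)) {g h : G}
    {R : Subgroup G} (h1 : BHom p P e g Q) (h2 : BHom p P e h R)
    (hle : Q.map (MulAut.conj g).toMonoidHom ≤ R) : BHom p P e (h * g) Q := by
  obtain ⟨hQ, f, hf, hgf⟩ := h1
  refine ⟨hQ, f, hf, ?_⟩
  rw [conjPair_mul]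
  exact (bhom_iff hblk ha hgf h).1 (h2.restrict hblk ha hle)

theorem BHom.inv {g : G} (h : BHom p P e g Q) : BHom p P e g⁻¹ (Q.map (MulAut.conj g).toMonoidHom) := by
  obtain ⟨hQ, f, hf, hgf⟩ := h
  refine ⟨hgf.le, conjEl g f, hgf, ?_⟩
  show PLE p (conjPair g⁻¹ (conjPair g (Q, f))) (P, e)
  rwa [conjPair_inv_conjPair]

theorem map_conj_inf_centralizer (g : G) (A Q : Subgroup G) :
    (A ⊓ Subgroup.centralizer (Q : Set G)).map (MulAut.conj g).toMonoidHom =
      A.map (MulAut.conj g).toMonoidHom ⊓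
        Subgroup.centralizer ((Q.map (MulAut.conj g).toMonoidHom : Subgroup G) : Set G) := by
  rw [Subgroup.map_inf _ _ _ (MulAut.conj g).injective, map_conj_centralizer]

/-- `Q` is fully centralized exactly when `C_P(Q)` is a defect group of its block. -/
theorem forall_centralizer_le_iff (hblk : ∀ H : Subgroup G, HasBlocks k H) (hB : IsBlockIdem ⊤ B)
    (ha : IsMax p B (P, e)) (hle : PLE p (Q, f) (P, e)) :
    (∀ g : G, BHom p P e g Q → Nat.card (P ⊓ Subgroup.centralizer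
        ((Q.map (MulAut.conj g).toMonoidHom : Subgroup G) : Set G) : Subgroup G) ≤
      Nat.card (P ⊓ Subgroup.centralizer (Q : Set G) : Subgroup G)) ↔
    DefectIn p (Subgroup.centralizer (Q : Set G)) f (P ⊓ Subgroup.centralizer (Q : Set G)) := by
  have hQf := hle.isPair_left ha.1.1
  constructor
  · intro h
    obtain ⟨x, hx, hD⟩ := exists_conj_defectIn_centralizer hblk hB ha hle
    have h1 := hD.conj x⁻¹
    rw [conjEl_inv_conjEl, map_conj_centralizer, map_conj_map_conj_inv] at h1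
    refine h1.of_card_le hQf.2.mem.2 (ha.1.1.1.to_le inf_le_left) inf_le_right
      (br_inf_centralizer_ne_zero hblk ha.1.1 hle) ?_
    rw [card_map_conj]
    exact h x ((bhom_iff hblk ha.1.1 hle x).2 hx)
  · intro h g hg
    have hgle := (bhom_iff hblk ha.1.1 hle g).1 hg
    have h1 := h.conj g
    rw [map_conj_centralizer] at h1
    have h2 := h1.card_le (ha.1.1.1.to_le inf_le_left) inf_le_right
      (br_inf_centralizer_ne_zero hblk ha.1.1 hgle)
    rwa [card_map_conj] at h2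

/-- `Q` is fully normalized exactly when `N_P(Q)` is a defect group of the block of the stabiliser. -/
theorem forall_normalizer_le_iff (hblk : ∀ H : Subgroup G, HasBlocks k H) (hB : IsBlockIdem ⊤ B)
    (ha : IsMax p B (P, e)) (hle : PLE p (Q, f) (P, e)) :
    (∀ g : G, BHom p P e g Q → Nat.card (P ⊓ Subgroup.normalizer
        ((Q.map (MulAut.conj g).toMonoidHom : Subgroup G) : Set G) : Subgroup G) ≤
      Nat.card (P ⊓ Subgroup.normalizer (Q : Set G) : Subgroup G)) ↔
    DefectIn p (stabOf Q f) f (P ⊓ Subgroup.normalizer (Q : Set G)) := by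
  constructor
  · intro h
    obtain ⟨x, hx, hD⟩ := exists_conj_defectIn_stabOf hblk hB ha hle
    have h1 := hD.conj x⁻¹
    rw [map_conj_stabOf, conjEl_inv_conjEl, map_conj_map_conj_inv] at h1
    refine h1.of_card_le (stabOf_fixes Q f) (ha.1.1.1.to_le inf_le_left)
      (inf_normalizer_le_stabOf hblk ha.1.1 hle) (br_inf_normalizer_ne_zero hblk ha.1.1 hle) ?_
    rw [card_map_conj]
    exact h x ((bhom_iff hblk ha.1.1 hle x).2 hx)
  · intro h g hg
    have hgle := (bhom_iff hblk ha.1.1 hle g).1 hg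
    have h1 := h.conj g
    rw [map_conj_stabOf] at h1
    have h2 := h1.card_le (ha.1.1.1.to_le inf_le_left) (inf_normalizer_le_stabOf hblk ha.1.1 hgle)
      (br_inf_normalizer_ne_zero hblk ha.1.1 hgle)
    rwa [card_map_conj] at h2

/-- `Q` is centric exactly when `Z(Q)` is a defect group of its block. -/
theorem forall_centric_iff (hblk : ∀ H : Subgroup G, HasBlocks k H) (hB : IsBlockIdem ⊤ B)
    (ha : IsMax p B (P, e)) (hle : PLE p (Q, f) (P, e)) :
    (∀ g : G, BHom p P e g Q → P ⊓ Subgroup.centralizer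
        ((Q.map (MulAut.conj g).toMonoidHom : Subgroup G) : Set G) ≤ Q.map (MulAut.conj g).toMonoidHom) ↔
    DefectIn p (Subgroup.centralizer (Q : Set G)) f (Q ⊓ Subgroup.centralizer (Q : Set G)) := by
  constructor
  · intro h
    obtain ⟨x, hx, hD⟩ := exists_conj_defectIn_centralizer hblk hB ha hle
    have hxH := (bhom_iff hblk ha.1.1 hle x).2 hx
    have heq : P ⊓ Subgroup.centralizer ((Q.map (MulAut.conj x).toMonoidHom : Subgroup G) : Set G) =
        (Q ⊓ Subgroup.centralizer (Q : Set G)).map (MulAut.conj x).toMonoidHom := by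
      rw [map_conj_inf_centralizer]
      exact le_antisymm (le_inf (h x hxH) inf_le_right) (inf_le_inf_right _ hx.le)
    have h1 := hD.conj x⁻¹
    rw [conjEl_inv_conjEl, map_conj_centralizer, map_conj_map_conj_inv, heq, map_conj_map_conj_inv] at h1
    exact h1
  · intro h g hg
    have hgle := (bhom_iff hblk ha.1.1 hle g).1 hg
    have h1 := h.conj g
    rw [map_conj_centralizer] at h1
    have h2 := h1.card_le (ha.1.1.1.to_le inf_le_left) inf_le_right
      (br_inf_centralizer_ne_zero hblk ha.1.1 hgle)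
    have h3 : (Q ⊓ Subgroup.centralizer (Q : Set G)).map (MulAut.conj g).toMonoidHom ≤
        P ⊓ Subgroup.centralizer ((Q.map (MulAut.conj g).toMonoidHom : Subgroup G) : Set G) := by
      rw [map_conj_inf_centralizer]
      exact inf_le_inf_right _ hgle.le
    rw [← Subgroup.eq_of_le_of_card_ge h3 h2]
    exact Subgroup.map_mono inf_le_left

/-- Fully automized: if `N_P(Q)` is a defect group in the stabiliser `T`, `[T : N_P(Q) C(Q)]` is prime to `p`. -/
theorem not_dvd_index_stabOf (hblk : ∀ H : Subgroup G, HasBlocks k H) (ha : IsPair p (P, e))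
    (hle : PLE p (Q, f) (P, e))
    (hD : DefectIn p (stabOf Q f) f (P ⊓ Subgroup.normalizer (Q : Set G))) :
    ¬ p ∣ (((P ⊓ Subgroup.normalizer (Q : Set G)) ⊔ Subgroup.centralizer (Q : Set G)).subgroupOf
      (stabOf Q f)).index := by
  set T := stabOf Q f with hTdef
  set D := P ⊓ Subgroup.normalizer (Q : Set G) with hDdef
  set C := Subgroup.centralizer (Q : Set G) with hCdef
  have hQf := hle.isPair_left ha
  have hET : D ⊔ C ≤ T := sup_le hD.2.1 (centralizer_le_stabOf hQf.2)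
  have hTN : T ≤ Subgroup.normalizer (Q : Set G) := stabOf_le Q f
  obtain ⟨A, hAs, hA, hfA⟩ := hD.exists_relTr_eq hblk (isBlockIdem_stabOf hQf)
  set b := br Q (relTr D (D ⊔ C) A) with hb
  have hbfix : b ∈ fixedBy k (D ⊔ C) := br_mem_fixedBy (relTr_mem_fixedBy hA) le_rfl (hET.trans hTN)
  have hbC : b ∈ centerIn k C :=
    ⟨fun x hx => coeff_br_of_notMem _ hx, fixedBy_anti le_sup_right hbfix⟩
  letI := Fintype.ofFinite (T ⧸ (D ⊔ C).subgroupOf T)
  have hcomm : ∀ a : MonoidAlgebra k G, br Q (relTr (D ⊔ C) T a) = relTr (D ⊔ C) T (br Q a) := by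
    intro a
    rw [relTr, relTr, map_sum]
    refine Finset.sum_congr rfl fun q _ => ?_
    rw [conjEl_br, map_conj_eq_of_mem_normalizer (hTN (q.out : T).2)]
  have hf0 : br Q f = f := br_eq_self fun x hx => hQf.2.mem.1 x hx
  have hfb : f = relTr (D ⊔ C) T b := by
    rw [hb, ← hcomm, relTr_trans le_sup_left hET hA, ← hfA, hf0]
  have hfT : f ∈ fixedBy k T := stabOf_fixes Q f
  have hff : f = relTr (D ⊔ C) T (b * f) := by rw [← relTr_mul b hfT, ← hfb, hQf.2.idem]
  have hbf : b * f ∈ centerIn k C := mul_mem hbC hQf.2.mem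
  have hconj : ∀ t : T, conjEl (t : G) (b * f) ∈ centerIn k C ∧
      omega f (conjEl (t : G) (b * f)) = omega f (b * f) := by
    intro t
    have hC : C.map (MulAut.conj (t : G)).toMonoidHom = C :=
      map_conj_eq_of_mem_normalizer (normalizer_le_normalizer_centralizer Q (hTN t.2))
    have hm := conjEl_mem_centerIn (t : G) hbf
    rw [hC] at hm
    refine ⟨hm, hQf.2.omega_eq hm ?_⟩
    have h1 := (hQf.2.omega_spec hbf).map (conjEl (k := k) (t : G))
    rwa [map_sub, map_mul, map_smul, hfT _ t.2] at h1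
  intro hdvd
  have h1 := hQf.2.omega_self
  conv_lhs at h1 => arg 2; rw [hff, relTr]
  rw [hQf.2.omega_sum _ _ (fun q _ => (hconj q.out).1), Finset.sum_congr rfl (fun q _ => (hconj q.out).2),
    Finset.sum_const, Finset.card_univ, nsmul_eq_mul, ← Nat.card_eq_fintype_card, ← Subgroup.index,
    (CharP.cast_eq_zero_iff k p _).2 hdvd, zero_mul] at h1
  exact zero_ne_one h1

/-- Receptivity: extending a map onto a fully centralized subgroup. -/
theorem exists_extension_map (hblk : ∀ H : Subgroup G, HasBlocks k H) (hB : IsBlockIdem ⊤ B)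
    (ha : IsMax p B (P, e)) (hle : PLE p (Q, f) (P, e))
    (hD : DefectIn p (Subgroup.centralizer (Q : Set G)) f (P ⊓ Subgroup.centralizer (Q : Set G)))
    {R N : Subgroup G} {g : G} (hg : BHom p P e g R) (hgR : R.map (MulAut.conj g).toMonoidHom = Q)
    (hRN : R ≤ N) (hN : N ≤ P ⊓ Subgroup.normalizer (R : Set G))
    (hgN : N.map (MulAut.conj g).toMonoidHom ≤
      P ⊓ Subgroup.normalizer (Q : Set G) ⊔ Subgroup.centralizer (Q : Set G)) :
    ∃ c ∈ Subgroup.centralizer (Q : Set G), BHom p P e (c * g) N := by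
  set D := P ⊓ Subgroup.normalizer (Q : Set G) with hDdef
  set C := Subgroup.centralizer (Q : Set G) with hCdef
  set E := D ⊔ C with hEdef
  have hQf := hle.isPair_left ha.1.1
  have hQD : Q ≤ D := le_inf hle.le Subgroup.le_normalizer
  have hET : E ≤ stabOf Q f := sup_le (inf_normalizer_le_stabOf hblk ha.1.1 hle) (centralizer_le_stabOf hQf.2)
  have hEN : E ≤ Subgroup.normalizer (Q : Set G) := hET.trans (stabOf_le Q f)
  have hfE : f ∈ fixedBy k E := fixedBy_anti hET (stabOf_fixes Q f)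
  have hfi : IsBlockIdem E f :=
    isBlockIdem_of_stab p hQf.1 hQf.2 le_sup_right (hQD.trans le_sup_left) hEN hfE
  obtain ⟨d, hd, hdP⟩ := exists_step_of_le hblk ha.1.1 hle hQD inf_le_left inf_le_right
  have hDN : D ≤ Subgroup.normalizer (C : Set G) :=
    inf_le_right.trans (normalizer_le_normalizer_centralizer Q)
  have hsplit : ∀ u ∈ E, ∃ s ∈ D, ∃ c ∈ C, s * c = u := by
    intro u hu
    have hu' : u ∈ ((D : Set G) * (C : Set G)) := by
      rw [← Subgroup.coe_mul_of_left_le_normalizer_right D C hDN]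
      exact hu
    obtain ⟨s, hs, c, hc, rfl⟩ := hu'
    exact ⟨s, hs, c, hc, rfl⟩
  have hdef : DefectIn p E f D := by
    obtain ⟨D', hD', hDD'⟩ := exists_defectIn hblk hfi (ha.1.1.1.to_le inf_le_left) le_sup_left
      (br_inf_normalizer_ne_zero hblk ha.1.1 hle)
    suffices hD'D : D' ≤ D by exact (le_antisymm hD'D hDD' : D' = D) ▸ hD'
    have hcap : P ⊓ C = D' ⊓ C := by
      refine Subgroup.eq_of_le_of_card_ge (le_inf ?_ inf_le_right) ?_
      · exact (inf_le_inf_left P (Subgroup.centralizer_le_normalizer _)).trans hDD'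
      · exact hD.card_le (hD'.1.to_le inf_le_left) inf_le_right (br_ne_zero_mono inf_le_left hD'.2.2.1)
    intro u hu
    obtain ⟨s, hs, c, hc, rfl⟩ := hsplit u (hD'.2.1 hu)
    have hcD' : c ∈ D' ⊓ C := ⟨by simpa using mul_mem (inv_mem (hDD' hs)) hu, hc⟩
    rw [← hcap] at hcD'
    exact mul_mem hs ⟨hcD'.1, Subgroup.centralizer_le_normalizer _ hc⟩
  -- the pair at `N`, moved to `Q`
  obtain ⟨hRP, r, hr, hgr⟩ := hg
  have hgf : conjEl g r = f := by
    have h1 : PLE p (Q, conjEl g r) (P, e) := by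
      rw [← hgR]; exact hgr
    exact ple_unique hblk ha.1.1 Q _ _ h1 hle
  obtain ⟨n, hn, hnP⟩ := exists_step_of_le hblk ha.1.1 hr hRN (hN.trans inf_le_left) (hN.trans inf_le_right)
  have hstep : Step p (Q, f) (conjPair g (N, n)) := by
    have h := hn.conj g
    rwa [show conjPair g (R, r) = (Q, f) from Prod.ext hgR hgf] at h
  obtain ⟨u, hu, hux⟩ := exists_conj_ple_sub (p := p) hblk hfi (a := (D, d)) (b := conjPair g (N, n))
    hd.2.1 le_sup_left ((Subgroup.centralizer_le (SetLike.coe_subset_coe.2 hQD)).trans le_sup_right)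
    hd.2.2.2.2.2 hdef hstep.2.1 hgN
    ((Subgroup.centralizer_le (SetLike.coe_subset_coe.2 hstep.2.2.1)).trans le_sup_right) hstep.2.2.2.2.2
  obtain ⟨s, hs, c, hc, rfl⟩ := hsplit u hu
  refine ⟨c, hc, (hN.trans inf_le_left), n, hnP, ?_⟩
  have h1 := hux.conj s⁻¹
  rw [← conjPair_mul, show s⁻¹ * (s * c) = c by group, ← conjPair_mul,
    conjPair_self_of_mem hd.2.1 (inv_mem hs)] at h1
  exact Relation.ReflTransGen.trans h1 hdP

end Abstract

/-! ### The Prelude's system -/

section Prelude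

open scoped Cfsg.Agent.Blocks

variable {G : Type u} [Group G] [Finite G] {p : ℕ} [Fact p.Prime] {M : Ideal AlgInt} [M.IsMaximal]
  [CharP (AlgInt ⧸ M) p]

/-- A map of the fusion system of a block, read abstractly. -/
theorem blockHom_iff {P : Subgroup G} {e : Set (IrrCharacter (Subgroup.centralizer (P : Set G)))}
    (he : IsPBlock M e) (hPe : IsPair p (P, blk M _ e)) (Q : Subgroup G) (φ : Q →* G) :
    (Q ≤ P ∧ ∃ g : G, (∀ u : Q, φ u = g * (u : G) * g⁻¹) ∧
        Q.map (MulAut.conj g).toMonoidHom ≤ P ∧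
        ∃ f : Set (IrrCharacter (Subgroup.centralizer (Q : Set G))),
          SubpairLE p M Q f P e ∧
            SubpairLE p M (Q.map (MulAut.conj g).toMonoidHom) (conjBlock Q g f) P e) ↔
      ∃ g : G, (∀ u : Q, φ u = g * (u : G) * g⁻¹) ∧ BHom p P (blk M _ e) g Q := by
  constructor
  · rintro ⟨hQ, g, hg, -, f, hf1, hf2⟩
    refine ⟨g, hg, hQ, blk M _ f, ple_of_subpairLE hf1, ?_⟩
    rw [← blk_conjBlock]
    exact ple_of_subpairLE hf2
  · rintro ⟨g, hg, hQ, f, hf, hgf⟩
    obtain ⟨f, hfB, rfl⟩ := exists_eq_blk (Subgroup.centralizer (Q : Set G)) (hf.isPair_left hPe).2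
    refine ⟨hQ, g, hg, hgf.le, f, subpairLE_of_ple hfB he hf, ?_⟩
    refine subpairLE_of_ple (isPBlock_conjBlock hfB g) he ?_
    rw [blk_conjBlock]
    exact hgf

theorem range_eq_map_conj {Q : Subgroup G} {φ : Q →* G} {g : G} (h : ∀ u : Q, φ u = g * (u : G) * g⁻¹) :
    φ.range = Q.map (MulAut.conj g).toMonoidHom := by
  rw [← Fusion.range_conjHom, show φ = conjHom Q g from MonoidHom.ext h]

theorem blockSystem_isConj_iff {B : Set (IrrCharacter G)} {P : Subgroup G}
    {e : Set (IrrCharacter (Subgroup.centralizer (P : Set G)))} {F : FusionSystem P}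
    (hF : IsBlockFusionSystemOn p M B P e F) (he : IsPBlock M e) (hPe : IsPair p (P, blk M _ e))
    (Q R : Subgroup G) :
    F.IsConj Q R ↔ ∃ g : G, BHom p P (blk M _ e) g Q ∧ R = Q.map (MulAut.conj g).toMonoidHom := by
  constructor
  · rintro ⟨φ, hφ, rfl⟩
    obtain ⟨g, hg, hgH⟩ := (blockHom_iff he hPe Q φ).1 ((hF.2 Q φ).1 hφ)
    exact ⟨g, hgH, range_eq_map_conj hg⟩
  · rintro ⟨g, hg, rfl⟩
    refine ⟨conjHom Q g, (hF.2 Q _).2 ((blockHom_iff he hPe Q _).2 ⟨g, fun _ => rfl, hg⟩), ?_⟩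
    exact range_eq_map_conj fun _ => rfl

/-- The fusion system of a block on a maximal pair. -/
noncomputable def blockSystem (hblk : ∀ H : Subgroup G, HasBlocks (AlgInt ⧸ M) H) {P : Subgroup G}
    {e : MonoidAlgebra (AlgInt ⧸ M) G} (ha : IsPair p (P, e)) : FusionSystem P where
  Hom Q := {φ | ∃ g : G, (∀ u : Q, φ u = g * (u : G) * g⁻¹) ∧ BHom p P e g Q}
  le_of_mem := by
    rintro Q φ ⟨g, hg, hH⟩
    refine ⟨hH.1, fun x => ?_⟩
    rw [hg]
    exact hH.map_le ⟨x, x.2, rfl⟩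
  injective_of_mem := by
    rintro Q φ ⟨g, hg, -⟩ x y hxy
    rw [hg, hg] at hxy
    exact Subtype.ext (mul_left_cancel (mul_right_cancel hxy))
  conj_mem := fun hQ hg => ⟨_, fun _ => rfl, BHom.of_mem hblk ha hg hQ⟩
  comp_mem := by
    rintro Q R φ ψ ⟨g, hg, h1⟩ ⟨h, hh, h2⟩ hφ
    refine ⟨h * g, fun u => ?_, h1.comp hblk ha h2 ?_⟩
    · show ψ ⟨φ u, hφ u⟩ = _
      rw [hh]
      show h * φ u * h⁻¹ = _
      rw [hg]
      group
    · rintro _ ⟨u, hu, rfl⟩
      have := hφ ⟨u, hu⟩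
      rwa [hg] at this
  inv_mem := by
    rintro Q φ ⟨g, hg, h1⟩
    refine ⟨conjHom φ.range g⁻¹, ⟨g⁻¹, fun _ => rfl, ?_⟩, fun x => ?_⟩
    · rw [range_eq_map_conj hg]
      exact h1.inv
    · show g⁻¹ * φ x * g⁻¹⁻¹ = (x : G)
      rw [hg]
      group

theorem isBlockFusionSystemOn_blockSystem (hblk : ∀ H : Subgroup G, HasBlocks (AlgInt ⧸ M) H)
    {B : Set (IrrCharacter G)} {P : Subgroup G} {e : Set (IrrCharacter (Subgroup.centralizer (P : Set G)))}
    (hmax : IsMaximalBrauerPair p M B P e) (he : IsPBlock M e) (ha : IsPair p (P, blk M _ e)) :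
    IsBlockFusionSystemOn p M B P e (blockSystem hblk ha) :=
  ⟨hmax, fun Q φ => (blockHom_iff he ha Q φ).symm⟩

theorem autGroup_blockSystem (hblk : ∀ H : Subgroup G, HasBlocks (AlgInt ⧸ M) H) {P Q : Subgroup G}
    {e f : MonoidAlgebra (AlgInt ⧸ M) G} (ha : IsPair p (P, e)) (hle : PLE p (Q, f) (P, e)) :
    (blockSystem hblk ha).autGroup Q = autInducedBy (stabOf Q f) Q := by
  ext α
  rw [Fusion.mem_autGroup_iff hle.le, Fusion.mem_autInducedBy_iff]
  constructor
  · rintro ⟨g, hg, hH⟩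
    have hN := Fusion.mem_normalizer_of_aut (α := α) (g := g) hg
    exact ⟨g, ⟨hN, conjEl_eq_of_ple hblk ha hle hN ((bhom_iff hblk ha hle g).1 hH)⟩, hg⟩
  · rintro ⟨g, hgT, hg⟩
    refine ⟨g, hg, (bhom_iff hblk ha hle g).2 ?_⟩
    rw [show conjPair g (Q, f) = (Q, f) from Prod.ext (map_conj_eq_of_mem_normalizer hgT.1) hgT.2]
    exact hle

theorem isFullyAutomized_blockSystem (hblk : ∀ H : Subgroup G, HasBlocks (AlgInt ⧸ M) H) {P Q : Subgroup G}
    {e f : MonoidAlgebra (AlgInt ⧸ M) G} (ha : IsPair p (P, e)) (hle : PLE p (Q, f) (P, e))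
    (hD : DefectIn p (stabOf Q f) f (P ⊓ Subgroup.normalizer (Q : Set G))) :
    (blockSystem hblk ha).IsFullyAutomized p Q := by
  refine ⟨hle.le, ?_⟩
  rw [autGroup_blockSystem hblk ha hle]
  set T := stabOf Q f with hT
  set A := autInducedBy T Q with hA
  set E := ((P ⊓ Subgroup.normalizer (Q : Set G)) ⊔ Subgroup.centralizer (Q : Set G)).subgroupOf T with hE
  let φ : T →* A := (Q.normalizerMonoidHom.comp (Subgroup.inclusion (stabOf_le Q f))).codRestrict A
    fun t => Fusion.mem_autInducedBy_iff.2 ⟨t, t.2, fun _ => rfl⟩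
  have hφ : Function.Surjective φ := by
    rintro ⟨α, hα⟩
    obtain ⟨g, hg, hx⟩ := Fusion.mem_autInducedBy_iff.1 hα
    exact ⟨⟨g, hg⟩, Subtype.ext (MulEquiv.ext fun x => Subtype.ext (hx x).symm)⟩
  have hQf := hle.isPair_left ha
  have hCT := centralizer_le_stabOf hQf.2
  have hmap : E.map φ = (autInducedBy P Q).subgroupOf A := by
    ext ⟨α, hα⟩
    rw [Subgroup.mem_subgroupOf, Fusion.mem_autInducedBy_iff]
    constructor
    · rintro ⟨⟨u, huT⟩, hu, he⟩
      have hu' : u ∈ ((P ⊓ Subgroup.normalizer (Q : Set G) : Subgroup G) : Set G) *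
          (Subgroup.centralizer (Q : Set G) : Set G) := by
        rw [← Subgroup.coe_mul_of_left_le_normalizer_right _ _
          (inf_le_right.trans (normalizer_le_normalizer_centralizer Q))]
        exact hu
      obtain ⟨s, hs, c, hc, rfl⟩ := hu'
      refine ⟨s, hs.1, fun x => ?_⟩
      rw [← congrArg Subtype.val he]
      show s * c * (x : G) * (s * c)⁻¹ = s * x * s⁻¹
      calc s * c * (x : G) * (s * c)⁻¹ = s * (c * x) * c⁻¹ * s⁻¹ := by group
        _ = s * ((x : G) * c) * c⁻¹ * s⁻¹ := by rw [Subgroup.mem_centralizer_iff.1 hc x x.2]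
        _ = s * x * s⁻¹ := by group
    · rintro ⟨g, hgP, hg⟩
      have hgD : g ∈ P ⊓ Subgroup.normalizer (Q : Set G) := ⟨hgP, Fusion.mem_normalizer_of_aut hg⟩
      exact ⟨⟨g, hD.2.1 hgD⟩, Subgroup.mem_subgroupOf.2 (Subgroup.mem_sup_left hgD),
        Subtype.ext (MulEquiv.ext fun x => Subtype.ext (hg x).symm)⟩
  have hp : IsPGroup p ((autInducedBy P Q).subgroupOf A) :=
    (Fusion.isPGroup_autInducedBy ha.1 Q).comap_subtype
  refine ⟨hp.toSylow ?_, rfl⟩
  intro hdvd
  rw [← hmap] at hdvd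
  exact not_dvd_index_stabOf hblk ha hle hD (hdvd.trans (Subgroup.index_map_dvd E hφ))

theorem isReceptive_blockSystem (hblk : ∀ H : Subgroup G, HasBlocks (AlgInt ⧸ M) H)
    {P Q : Subgroup G} {B e f : MonoidAlgebra (AlgInt ⧸ M) G} (hB : IsBlockIdem ⊤ B) (ha : IsMax p B (P, e))
    (hle : PLE p (Q, f) (P, e))
    (hD : DefectIn p (Subgroup.centralizer (Q : Set G)) f (P ⊓ Subgroup.centralizer (Q : Set G))) :
    (blockSystem hblk ha.1.1).IsReceptive Q := by
  refine ⟨hle.le, fun R φ hφ hr => ?_⟩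
  obtain ⟨g, hg, hgH⟩ := hφ
  have hgR : R.map (MulAut.conj g).toMonoidHom = Q := by rw [← range_eq_map_conj hg, hr]
  have hRN : R ≤ FusionSystem.extender P R φ :=
    Fusion.le_extender hgH.1 fun x => by rw [hg]; exact hgH.map_le ⟨x, x.2, rfl⟩
  have hgN : (FusionSystem.extender P R φ).map (MulAut.conj g).toMonoidHom ≤
      P ⊓ Subgroup.normalizer (Q : Set G) ⊔ Subgroup.centralizer (Q : Set G) := by
    rintro _ ⟨x, hx, rfl⟩
    obtain ⟨-, hxN, s, hsS, hs⟩ := Fusion.mem_extender_iff.1 hx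
    show g * x * g⁻¹ ∈ _
    have hsc : s⁻¹ * (g * x * g⁻¹) ∈ Subgroup.centralizer (Q : Set G) := by
      rw [Subgroup.mem_centralizer_iff]
      intro y hy
      rw [← hgR] at hy
      obtain ⟨z, hz, rfl⟩ := hy
      have hxz : x * z * x⁻¹ ∈ R := (Subgroup.mem_normalizer_iff.1 hxN z).1 hz
      have h1 := hs ⟨z, hz⟩ hxz
      rw [hg, hg] at h1
      change g * (x * z * x⁻¹) * g⁻¹ = s * (g * z * g⁻¹) * s⁻¹ at h1
      show g * z * g⁻¹ * (s⁻¹ * (g * x * g⁻¹)) = s⁻¹ * (g * x * g⁻¹) * (g * z * g⁻¹)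
      calc g * z * g⁻¹ * (s⁻¹ * (g * x * g⁻¹))
          = s⁻¹ * (s * (g * z * g⁻¹) * s⁻¹) * (g * x * g⁻¹) := by group
        _ = s⁻¹ * (g * (x * z * x⁻¹) * g⁻¹) * (g * x * g⁻¹) := by rw [h1]
        _ = _ := by group
    have hxNQ : g * x * g⁻¹ ∈ Subgroup.normalizer (Q : Set G) := by
      rw [← hgR, ← map_conj_normalizer']
      exact ⟨x, hxN, rfl⟩
    have hsN : s ∈ Subgroup.normalizer (Q : Set G) := by
      have h2 := mul_mem hxNQ (inv_mem (Subgroup.centralizer_le_normalizer _ hsc))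
      simpa [mul_assoc] using h2
    have h3 := Subgroup.mul_mem_sup (show s ∈ P ⊓ Subgroup.normalizer (Q : Set G) from ⟨hsS, hsN⟩) hsc
    simpa using h3
  obtain ⟨c, hc, hcH⟩ :=
    exists_extension_map hblk hB ha hle hD hgH hgR hRN (Fusion.extender_le P R φ) hgN
  refine ⟨conjHom _ (c * g), ⟨c * g, fun _ => rfl, hcH⟩, fun x hxR hxN => ?_⟩
  show c * g * x * (c * g)⁻¹ = φ ⟨x, hxR⟩
  rw [hg]
  show _ = g * x * g⁻¹
  calc c * g * x * (c * g)⁻¹ = c * (g * x * g⁻¹) * c⁻¹ := by group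
    _ = (g * x * g⁻¹) * c * c⁻¹ := by
      rw [Subgroup.mem_centralizer_iff.1 hc (g * x * g⁻¹) (hgR ▸ ⟨x, hxR, rfl⟩)]
    _ = g * x * g⁻¹ := by group

theorem isSaturated_blockSystem (hblk : ∀ H : Subgroup G, HasBlocks (AlgInt ⧸ M) H)
    {P : Subgroup G} {B e : MonoidAlgebra (AlgInt ⧸ M) G} (hB : IsBlockIdem ⊤ B) (ha : IsMax p B (P, e)) :
    (blockSystem hblk ha.1.1).IsSaturated p := by
  intro Q hQ
  obtain ⟨f, hf⟩ := exists_ple hblk ha.1.1 Q hQ
  obtain ⟨x, hx, hD⟩ := exists_conj_defectIn_stabOf hblk hB ha hf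
  refine ⟨Q.map (MulAut.conj x).toMonoidHom,
    ⟨conjHom Q x, ⟨x, fun _ => rfl, (bhom_iff hblk ha.1.1 hf x).2 hx⟩, range_eq_map_conj fun _ => rfl⟩,
    isFullyAutomized_blockSystem hblk ha.1.1 hx hD,
    isReceptive_blockSystem hblk hB ha hx (defectIn_centralizer_of_stabOf hblk ha.1.1 hx hD)⟩

end Prelude

end Cfsg.Agent.BrauerPairs
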