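import Cfsg.Agent.Lib.BrauerPairs.Map
import Mathlib.RingTheory.Nilpotent.Basic
import Mathlib.Algebra.Ring.GeomSum
import Mathlib.Algebra.Algebra.Subalgebra.Lattice

/-!
# Block idempotents of subgroups inside one group algebra

* `centerIn k H`: the elements of `k[G]` supported on `H` and fixed by `H` (the centre of `k[H]`).
* `IsBlockIdem H e`: an idempotent of `centerIn k H` spanning a local algebra with residue field `k`;
  `omega` is the central character.
* `HasBlocks k H`: such idempotents sum to `1`.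
-/

set_option autoImplicit false
set_option linter.unusedSectionVars false

open MonoidAlgebra
open scoped Classical

namespace Cfsg.Agent.BrauerPairs

variable {k : Type*} [Field k] {G : Type*} [Group G] [Finite G]

/-- The elements of `k[G]` supported on `H`. -/
noncomputable def suppIn (k : Type*) [Field k] {G : Type*} [Group G] [Finite G] (H : Subgroup G) :
    Subalgebra k k[G] where
  carrier := {a | ∀ x, x ∉ H → a.coeff x = 0}
  mul_mem' := by
    intro a b ha hb x hx
    have := Fintype.ofFinite G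
    rw [coeff_mul_apply_left, Finsupp.sum_fintype _ _ fun _ => zero_mul _]
    refine Finset.sum_eq_zero fun y _ => ?_
    by_cases hy : y ∈ H
    · rw [hb (y⁻¹ * x) (fun h => hx (by simpa using mul_mem hy h)), mul_zero]
    · rw [ha y hy, zero_mul]
  add_mem' := by
    intro a b ha hb x hx
    rw [coeff_add, Finsupp.add_apply, ha x hx, hb x hx, add_zero]
  algebraMap_mem' := by
    intro r x hx
    rw [Algebra.algebraMap_eq_smul_one, coeff_smul_apply, one_def, coeff_single, Finsupp.single_apply, if_neg,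
      smul_zero]
    rintro rfl
    exact hx (one_mem H)

theorem mem_suppIn {H : Subgroup G} {a : k[G]} : a ∈ suppIn k H ↔ ∀ x, x ∉ H → a.coeff x = 0 := Iff.rfl

/-- The centre of `k[H]` inside `k[G]`. -/
noncomputable def centerIn (k : Type*) [Field k] {G : Type*} [Group G] [Finite G] (H : Subgroup G) :
    Subalgebra k k[G] := suppIn k H ⊓ fixedBy k H

theorem mem_centerIn {H : Subgroup G} {a : k[G]} :
    a ∈ centerIn k H ↔ a ∈ suppIn k H ∧ a ∈ fixedBy k H := Iff.rfl

theorem centerIn_commute {H : Subgroup G} {a b : k[G]} (ha : a ∈ suppIn k H) (hb : b ∈ fixedBy k H) :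
    a * b = b * a := by
  have := Fintype.ofFinite G
  ext x
  rw [coeff_mul_apply_left, coeff_mul_apply_right, Finsupp.sum_fintype _ _ fun _ => zero_mul _,
    Finsupp.sum_fintype _ _ fun _ => mul_zero _]
  refine Finset.sum_congr rfl fun y _ => ?_
  by_cases hy : y ∈ H
  · have h := mem_fixedBy_iff_coeff.1 hb y hy (y⁻¹ * x)
    rw [mul_inv_cancel_left] at h
    rw [← h, mul_comm]
  · rw [ha y hy]; ring

noncomputable instance centerInCommRing (H : Subgroup G) : CommRing (centerIn k H) :=
  { (inferInstance : Ring (centerIn k H)) with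
    mul_comm := fun a b => Subtype.ext (centerIn_commute a.2.1 b.2.2) }

/-- `e` is a block idempotent of the subgroup `H`. -/
def IsBlockIdem (H : Subgroup G) (e : k[G]) : Prop :=
  e ∈ centerIn k H ∧ e * e = e ∧ e ≠ 0 ∧ ∀ z ∈ centerIn k H, ∃ c : k, IsNilpotent (z * e - c • e)

theorem eq_zero_of_idem_nilpotent {R : Type*} [MonoidWithZero R] {e : R} (he : e * e = e)
    (hn : IsNilpotent e) : e = 0 := by
  obtain ⟨n, hn⟩ := hn
  have h : ∀ m : ℕ, e ^ (m + 1) = e := by
    intro m
    induction m with
    | zero => simp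
    | succ m ih => rw [pow_succ, ih, he]
  rcases n with _ | m
  · rw [pow_zero] at hn
    rw [← one_mul e, hn, zero_mul]
  · rw [← h m, hn]

namespace IsBlockIdem

variable {H : Subgroup G} {e f : k[G]}

theorem mem (he : IsBlockIdem H e) : e ∈ centerIn k H := he.1

theorem idem (he : IsBlockIdem H e) : e * e = e := he.2.1

theorem ne_zero (he : IsBlockIdem H e) : e ≠ 0 := he.2.2.1

theorem not_nilpotent_smul (he : IsBlockIdem H e) {c : k} (h : IsNilpotent (c • e)) : c = 0 := by
  by_contra hc
  refine he.ne_zero (eq_zero_of_idem_nilpotent he.idem ?_)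
  have h1 := h.smul c⁻¹
  rwa [smul_smul, inv_mul_cancel₀ hc, one_smul] at h1

theorem exists_unique_omega (he : IsBlockIdem H e) {z : k[G]} {c d : k} (hz : z ∈ centerIn k H)
    (hc : IsNilpotent (z * e - c • e)) (hd : IsNilpotent (z * e - d • e)) : c = d := by
  apply eq_of_sub_eq_zero
  apply he.not_nilpotent_smul
  have hmem : ∀ r : k, z * e - r • e ∈ centerIn k H := fun r =>
    sub_mem (mul_mem hz he.mem) (Subalgebra.smul_mem _ he.mem r)
  have hcomm : Commute (z * e - d • e) (z * e - c • e) := centerIn_commute (hmem d).1 (hmem c).2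
  have h := hcomm.isNilpotent_sub hd hc
  rwa [sub_sub_sub_cancel_left, ← sub_smul] at h

/-- An idempotent of the centre times a block idempotent is `0` or the block idempotent. -/
theorem mul_eq_zero_or_self (he : IsBlockIdem H e) {z : k[G]} (hz : z ∈ centerIn k H) (hzz : z * z = z) :
    z * e = 0 ∨ z * e = e := by
  obtain ⟨c, hc⟩ := he.2.2.2 z hz
  have hcomm : z * e = e * z := centerIn_commute hz.1 he.mem.2
  have hidem : (z * e) * (z * e) = z * e := by
    rw [mul_assoc, ← mul_assoc e z e, ← hcomm, mul_assoc z e e, he.idem, ← mul_assoc, hzz]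
  by_cases h0 : c = 0
  · left
    rw [h0, zero_smul, sub_zero] at hc
    exact eq_zero_of_idem_nilpotent hidem hc
  · right
    have hw : e - z * e ∈ centerIn k H := sub_mem he.mem (mul_mem hz he.mem)
    have hwidem : (e - z * e) * (e - z * e) = e - z * e := by
      rw [sub_mul, mul_sub, mul_sub, he.idem, hidem, mul_assoc z e e, he.idem, ← mul_assoc, ← hcomm,
        mul_assoc z e e, he.idem]
      abel
    have hnil : IsNilpotent ((e - z * e) * (z * e - c • e)) :=
      Commute.isNilpotent_mul_left (centerIn_commute hw.1 (sub_mem (mul_mem hz he.mem)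
        (Subalgebra.smul_mem _ he.mem c)).2) hc
    have hcalc : (e - z * e) * (z * e - c • e) = (-c) • (e - z * e) := by
      rw [mul_sub, sub_mul e (z * e) (z * e), hidem, ← mul_assoc, ← hcomm, mul_assoc z e e, he.idem, sub_self,
        zero_sub, mul_smul_comm, sub_mul, he.idem, mul_assoc z e e, he.idem, neg_smul]
    rw [hcalc] at hnil
    have h1 := hnil.smul (-c)⁻¹
    rw [smul_smul, inv_mul_cancel₀ (neg_ne_zero.2 h0), one_smul] at h1
    exact (sub_eq_zero.1 (eq_zero_of_idem_nilpotent hwidem h1)).symm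

theorem mul_eq_self_of_ne (he : IsBlockIdem H e) {z : k[G]} (hz : z ∈ centerIn k H) (hzz : z * z = z)
    (h : z * e ≠ 0) : z * e = e :=
  (he.mul_eq_zero_or_self hz hzz).resolve_left h

theorem eq_of_mul_ne_zero (he : IsBlockIdem H e) (hf : IsBlockIdem H f) (h : f * e ≠ 0) : e = f := by
  have h1 := he.mul_eq_self_of_ne hf.mem hf.idem h
  have hcomm : f * e = e * f := centerIn_commute hf.mem.1 he.mem.2
  rw [← h1, hcomm, hf.mul_eq_self_of_ne he.mem he.idem (hcomm ▸ h)]

theorem mul_eq_zero_of_ne (he : IsBlockIdem H e) (hf : IsBlockIdem H f) (h : e ≠ f) : f * e = 0 :=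
  by_contra fun h1 => h (he.eq_of_mul_ne_zero hf h1)

end IsBlockIdem

/-- The central character of the block idempotent `e` of `H`. -/
noncomputable def omega (e z : k[G]) : k :=
  if h : ∃ c : k, IsNilpotent (z * e - c • e) then h.choose else 0

namespace IsBlockIdem

variable {H : Subgroup G} {e : k[G]}

theorem omega_spec (he : IsBlockIdem H e) {z : k[G]} (hz : z ∈ centerIn k H) :
    IsNilpotent (z * e - omega e z • e) := by
  have h := he.2.2.2 z hz
  rw [omega, dif_pos h]
  exact h.choose_spec

theorem omega_eq (he : IsBlockIdem H e) {z : k[G]} (hz : z ∈ centerIn k H) {c : k}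
    (hc : IsNilpotent (z * e - c • e)) : omega e z = c :=
  he.exists_unique_omega hz (he.omega_spec hz) hc

theorem omega_eq_zero_iff (he : IsBlockIdem H e) {z : k[G]} (hz : z ∈ centerIn k H) :
    omega e z = 0 ↔ IsNilpotent (z * e) := by
  constructor
  · intro h
    simpa [h] using he.omega_spec hz
  · intro h
    exact he.omega_eq hz (by simpa using h)

theorem omega_self (he : IsBlockIdem H e) : omega e e = 1 :=
  he.omega_eq he.mem (by rw [he.idem, one_smul, sub_self]; exact IsNilpotent.zero)

theorem omega_add (he : IsBlockIdem H e) {z w : k[G]} (hz : z ∈ centerIn k H) (hw : w ∈ centerIn k H) :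
    omega e (z + w) = omega e z + omega e w := by
  refine he.omega_eq (add_mem hz hw) ?_
  have hmem : ∀ y ∈ centerIn k H, y * e - omega e y • e ∈ centerIn k H := fun y hy =>
    sub_mem (mul_mem hy he.mem) (Subalgebra.smul_mem _ he.mem _)
  have hcomm : Commute (z * e - omega e z • e) (w * e - omega e w • e) :=
    centerIn_commute (hmem z hz).1 (hmem w hw).2
  have h := hcomm.isNilpotent_add (he.omega_spec hz) (he.omega_spec hw)
  convert h using 1
  rw [add_mul, add_smul]
  abel

theorem omega_smul (he : IsBlockIdem H e) {z : k[G]} (hz : z ∈ centerIn k H) (r : k) :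
    omega e (r • z) = r * omega e z := by
  refine he.omega_eq (Subalgebra.smul_mem _ hz r) ?_
  rw [smul_mul_assoc, ← smul_smul, ← smul_sub]
  exact (he.omega_spec hz).smul r

theorem omega_sum (he : IsBlockIdem H e) {ι : Type*} (s : Finset ι) (z : ι → k[G])
    (hz : ∀ i ∈ s, z i ∈ centerIn k H) : omega e (∑ i ∈ s, z i) = ∑ i ∈ s, omega e (z i) := by
  induction s using Finset.induction_on with
  | empty =>
    simp only [Finset.sum_empty]
    exact he.omega_eq (zero_mem _) (by simp)
  | insert a s ha ih =>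
    rw [Finset.sum_insert ha, Finset.sum_insert ha, he.omega_add (hz a (Finset.mem_insert_self a s))
      (sum_mem fun i hi => hz i (Finset.mem_insert_of_mem hi)),
      ih fun i hi => hz i (Finset.mem_insert_of_mem hi)]

/-- An element with nonzero central character is invertible in the block: `e = z * v`. -/
theorem exists_mul_eq_self (he : IsBlockIdem H e) {z : k[G]} (hz : z ∈ centerIn k H)
    (h : omega e z ≠ 0) : ∃ v ∈ centerIn k H, e = z * v := by
  obtain ⟨n, hn⟩ := he.omega_spec hz
  set c := omega e z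
  set E : centerIn k H := ⟨e, he.mem⟩ with hE
  set Z : centerIn k H := ⟨z, hz⟩ with hZ
  set C : centerIn k H := algebraMap k (centerIn k H) c
  have h0 : (Z * E - C * E) ^ (n + 1) = 0 := by
    apply Subtype.ext
    have hval : ((Z * E - C * E : centerIn k H) : k[G]) = z * e - c • e := by
      simp [hE, hZ, C, Algebra.smul_def]
    rw [SubmonoidClass.coe_pow, hval, pow_succ, hn, zero_mul]
    rfl
  have hEp : ∀ m : ℕ, E ^ (m + 1) = E := by
    intro m
    induction m with
    | zero => simp
    | succ m ih => rw [pow_succ, ih]; exact Subtype.ext he.idem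
  obtain ⟨w, hw⟩ := sub_dvd_pow_sub_pow (Z * E - C * E) (-(C * E)) (n + 1)
  rw [h0, zero_sub, neg_pow (C * E), mul_pow, hEp, sub_neg_eq_add, sub_add_cancel] at hw
  set u : centerIn k H := algebraMap k (centerIn k H) (-((-1) ^ (n + 1) * c ^ (n + 1)))⁻¹
  refine ⟨(u * E * w : centerIn k H), (u * E * w).2, ?_⟩
  have hu : u * algebraMap k (centerIn k H) (-((-1) ^ (n + 1) * c ^ (n + 1))) = 1 := by
    rw [← map_mul, inv_mul_cancel₀ (by simp [h]), map_one]
  have hkey : E = Z * (u * E * w) := by
    calc E = u * algebraMap k (centerIn k H) (-((-1) ^ (n + 1) * c ^ (n + 1))) * E := by rw [hu, one_mul]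
      _ = u * -((-1) ^ (n + 1) * (C ^ (n + 1) * E)) := by simp [C]; ring
      _ = u * (Z * E * w) := by rw [hw]
      _ = Z * (u * E * w) := by ring
  exact congrArg Subtype.val hkey

end IsBlockIdem

/-- The block idempotents of `H` sum to `1`. -/
def HasBlocks (k : Type*) [Field k] {G : Type*} [Group G] [Finite G] (H : Subgroup G) : Prop :=
  ∃ s : Finset k[G], (∀ f ∈ s, IsBlockIdem H f) ∧ ∑ f ∈ s, f = 1

theorem mem_blocks {H : Subgroup G} {s : Finset k[G]} (hs : ∀ f ∈ s, IsBlockIdem H f)
    (h1 : ∑ f ∈ s, f = 1) {e : k[G]} (he : IsBlockIdem H e) : e ∈ s := by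
  by_contra hns
  apply he.ne_zero
  rw [← one_mul e, ← h1, Finset.sum_mul]
  exact Finset.sum_eq_zero fun f hf => he.mul_eq_zero_of_ne (hs f hf) fun e' => hns (e' ▸ hf)

/-! ### Transport by conjugation -/

theorem map_conj_centralizer (g : G) (P : Subgroup G) :
    (Subgroup.centralizer (P : Set G)).map (MulAut.conj g).toMonoidHom =
      Subgroup.centralizer ((P.map (MulAut.conj g).toMonoidHom : Subgroup G) : Set G) := by
  ext x
  simp only [Subgroup.mem_map_equiv, Subgroup.mem_centralizer_iff, Subgroup.coe_map, Set.forall_mem_image,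
    MulEquiv.coe_toMonoidHom, MulAut.conj_apply, MulAut.conj_symm_apply]
  refine forall₂_congr fun u _ => ?_
  constructor <;> intro h
  · calc g * u * g⁻¹ * x = g * (u * (g⁻¹ * x * g)) * g⁻¹ := by group
      _ = g * ((g⁻¹ * x * g) * u) * g⁻¹ := by rw [h]
      _ = x * (g * u * g⁻¹) := by group
  · calc u * (g⁻¹ * x * g) = g⁻¹ * (g * u * g⁻¹ * x) * g := by group
      _ = g⁻¹ * (x * (g * u * g⁻¹)) * g := by rw [h]
      _ = (g⁻¹ * x * g) * u := by group

theorem conjEl_mem_suppIn (g : G) {H : Subgroup G} {a : k[G]} (ha : a ∈ suppIn k H) :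
    conjEl g a ∈ suppIn k (H.map (MulAut.conj g).toMonoidHom) := by
  intro x hx
  rw [coeff_conjEl]
  apply ha
  intro h
  exact hx (Subgroup.mem_map_equiv.2 (by simpa using h))

theorem conjEl_mem_fixedBy (g : G) {H : Subgroup G} {a : k[G]} (ha : a ∈ fixedBy k H) :
    conjEl g a ∈ fixedBy k (H.map (MulAut.conj g).toMonoidHom) := by
  rintro _ ⟨h, hh, rfl⟩
  rw [← conjEl_mul]
  conv_rhs => rw [← ha h hh, ← conjEl_mul]
  congr 2
  simp

theorem conjEl_mem_centerIn (g : G) {H : Subgroup G} {a : k[G]} (ha : a ∈ centerIn k H) :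
    conjEl g a ∈ centerIn k (H.map (MulAut.conj g).toMonoidHom) :=
  ⟨conjEl_mem_suppIn g ha.1, conjEl_mem_fixedBy g ha.2⟩

theorem map_conj_map_conj_inv (g : G) (H : Subgroup G) :
    (H.map (MulAut.conj g).toMonoidHom).map (MulAut.conj g⁻¹).toMonoidHom = H := by
  rw [Subgroup.map_map]
  convert Subgroup.map_id H using 2
  ext x
  simp [mul_assoc]

theorem IsBlockIdem.conj {H : Subgroup G} {e : k[G]} (he : IsBlockIdem H e) (g : G) :
    IsBlockIdem (H.map (MulAut.conj g).toMonoidHom) (conjEl g e) := by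
  refine ⟨conjEl_mem_centerIn g he.mem, by rw [← map_mul, he.idem],
    (map_ne_zero_iff _ (conjEl g).injective).2 he.ne_zero, fun z hz => ?_⟩
  have hz' : conjEl g⁻¹ z ∈ centerIn k H := by
    have h := conjEl_mem_centerIn g⁻¹ hz
    rwa [map_conj_map_conj_inv] at h
  obtain ⟨c, hc⟩ := he.2.2.2 _ hz'
  refine ⟨c, ?_⟩
  have h := hc.map (conjEl (k := k) g)
  rwa [map_sub, map_mul, map_smul, ← conjEl_mul, mul_inv_cancel, conjEl_one] at h

/-! ### The Brauer map on centres of subgroup algebras -/

theorem br_mem_centerIn {H P : Subgroup G} {z : k[G]} (hz : z ∈ centerIn k H) :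
    br P z ∈ centerIn k (H ⊓ Subgroup.centralizer (P : Set G)) := by
  refine ⟨fun x hx => ?_, br_mem_fixedBy hz.2 inf_le_left
    (inf_le_right.trans (Subgroup.centralizer_le_normalizer (P : Set G)))⟩
  rw [coeff_br]
  split_ifs with h
  · exact hz.1 x fun h' => hx ⟨h', h⟩
  · rfl

theorem br_conjEl_of_mem {P : Subgroup G} (a : k[G]) {u : G} (hu : u ∈ P) :
    br P (conjEl u a) = br P a := by
  ext x
  rw [coeff_br, coeff_br, coeff_conjEl]
  split_ifs with h
  · rw [mul_assoc, ← Subgroup.mem_centralizer_iff.1 h u hu, inv_mul_cancel_left]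
  · rfl

variable {p : ℕ} [Fact p.Prime] [CharP k p]

/-- Exactly one `P`-fixed block idempotent of `H` has Brauer image containing a given block
idempotent of `C_H(P)`. -/
theorem existsUnique_fixed_block {H P : Subgroup G} (hP : IsPGroup p P)
    (hPH : P ≤ Subgroup.normalizer (H : Set G)) (hH : HasBlocks k H) {e : k[G]}
    (he : IsBlockIdem (H ⊓ Subgroup.centralizer (P : Set G)) e) :
    ∃! f : k[G], IsBlockIdem H f ∧ f ∈ fixedBy k P ∧ br P f * e = e := by
  obtain ⟨s, hs, h1⟩ := hH
  have hperm : ∀ u ∈ P, ∀ f ∈ s, conjEl u f ∈ s := by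
    intro u hu f hf
    have h := (hs f hf).conj u
    rw [map_conj_eq_of_mem_normalizer (hPH hu)] at h
    exact mem_blocks hs h1 h
  let inst : MulAction P s :=
    { smul := fun u f => ⟨conjEl (u : G) (f : k[G]), hperm _ u.2 _ f.2⟩
      one_smul := fun f => Subtype.ext (conjEl_one _)
      mul_smul := fun u v f => Subtype.ext (conjEl_mul _ _ _) }
  have hsum : ∑ f : s, (if f ∈ MulAction.fixedPoints P s then br P (f : k[G]) else 0) = 1 := by
    rw [← br_one (k := k) P, ← h1, ← Finset.sum_coe_sort s, map_sum]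
    ext x
    simp only [coeff_sum, Finsupp.finsetSum_apply]
    rw [sum_eq_sum_fixed (P := P) hP (fun f : s => (br P (f : k[G])).coeff x)]
    · exact Finset.sum_congr rfl fun f _ => by split_ifs <;> simp
    · intro u f
      show (br P (conjEl (u : G) (f : k[G]))).coeff x = _
      rw [br_conjEl_of_mem _ u.2]
  have hmul : e = ∑ f : s, (if f ∈ MulAction.fixedPoints P s then br P (f : k[G]) * e else 0) := by
    conv_lhs => rw [← one_mul e, ← hsum, Finset.sum_mul]
    exact Finset.sum_congr rfl fun f _ => by split_ifs <;> simp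
  obtain ⟨f, hf⟩ : ∃ f : s, f ∈ MulAction.fixedPoints P s ∧ br P (f : k[G]) * e ≠ 0 := by
    by_contra hno
    apply he.ne_zero
    rw [hmul]
    refine Finset.sum_eq_zero fun f _ => ?_
    split_ifs with h
    · exact by_contra fun h' => hno ⟨f, h, h'⟩
    · rfl
  have hfix : ∀ g : s, g ∈ MulAction.fixedPoints P s → (g : k[G]) ∈ fixedBy k P :=
    fun g hg u hu => congrArg Subtype.val (hg ⟨u, hu⟩)
  have hbr : ∀ g : k[G], IsBlockIdem H g → g ∈ fixedBy k P →
      br P g * e = 0 ∨ br P g * e = e := fun g hg hgP =>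
    he.mul_eq_zero_or_self (br_mem_centerIn hg.mem) (by rw [← br_mul hP hgP hgP, hg.idem])
  refine ⟨f, ⟨hs _ f.2, hfix f hf.1, (hbr _ (hs _ f.2) (hfix f hf.1)).resolve_left hf.2⟩, ?_⟩
  rintro g ⟨hg, hgP, hge⟩
  by_contra hne
  apply he.ne_zero
  have h0 : g * (f : k[G]) = 0 := (hs _ f.2).mul_eq_zero_of_ne hg (Ne.symm hne)
  have h2 := br_mul hP hgP (hfix f hf.1)
  rw [h0, map_zero] at h2
  conv_lhs => rw [← hge, ← (hbr _ (hs _ f.2) (hfix f hf.1)).resolve_left hf.2, ← mul_assoc, ← h2, zero_mul]

end Cfsg.Agent.BrauerPairs
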