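import Cfsg.Agent.Lib.Blocks.CentralChar
import Cfsg.Agent.Lib.BrauerPairs.Idem
import Cfsg.Prelude.Def_BrauerPairs

/-!
# From ordinary characters to block idempotents modulo `M`, and transport along isomorphisms

`blk M H e` is the reduction modulo `M` of the idempotent of a block `e` of the subgroup `H`, read
in `(AlgInt/M)[G]`; it is a block idempotent (`isBlockIdem_blk`) and every block idempotent arises
so (`exists_eq_blk`).
-/

set_option autoImplicit false
set_option linter.unusedSectionVars false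

open MonoidAlgebra Cfsg
open scoped Classical Cfsg.Agent.Blocks

namespace Cfsg.Agent.BrauerPairs

open Cfsg.Agent

universe u v

/-! ### Blocks as classes -/

section Basic

variable {G : Type u} [Group G] {M : Ideal AlgInt} [M.IsMaximal]

theorem sameBlock_refl (χ : G → ℂ) : SameBlock M χ χ := fun g => by
  rw [sub_self]; exact Blocks.memLocalIdeal_zero

theorem sameBlock_symm {χ ψ : G → ℂ} (h : SameBlock M χ ψ) : SameBlock M ψ χ := fun g => by
  have h1 := Blocks.MemLocalIdeal.neg (h g)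
  rwa [neg_sub] at h1

theorem sameBlock_trans {χ ψ φ : G → ℂ} (h : SameBlock M χ ψ) (h' : SameBlock M ψ φ) :
    SameBlock M χ φ := fun g => by
  have h1 := Blocks.MemLocalIdeal.add (h g) (h' g)
  rwa [sub_add_sub_cancel] at h1

theorem eq_blockOf_of_mem {B : Set (IrrCharacter G)} (hB : IsPBlock M B) {χ : IrrCharacter G}
    (hχ : χ ∈ B) : B = blockOf M (χ : G → ℂ) := by
  obtain ⟨ψ, rfl⟩ := hB
  ext φ
  exact ⟨fun h => sameBlock_trans (sameBlock_symm hχ) h, fun h => sameBlock_trans hχ h⟩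

theorem mem_blockOf_self (χ : IrrCharacter G) : χ ∈ blockOf M (χ : G → ℂ) := sameBlock_refl _

theorem nonempty_of_isPBlock {B : Set (IrrCharacter G)} (hB : IsPBlock M B) : B.Nonempty := by
  obtain ⟨χ, rfl⟩ := hB
  exact ⟨χ, mem_blockOf_self χ⟩

theorem isPBlock_blockOf (χ : IrrCharacter G) : IsPBlock M (blockOf M (χ : G → ℂ)) := ⟨χ, rfl⟩

theorem trivialChar_mem_principalBlock : Char.trivialChar G ∈ principalBlock M G := sameBlock_refl _

theorem isPBlock_principalBlock : IsPBlock M (principalBlock M G) := ⟨Char.trivialChar G, rfl⟩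

variable [Finite G]

theorem omega_sub_mem {χ ψ : IrrCharacter G} (h : SameBlock M χ.1 ψ.1) {z : MonoidAlgebra ℂ G}
    (hz : Blocks.IsCentralElt z) (hS : Blocks.SCoeff M z) :
    MemLocalIdeal M (Blocks.omega χ.1 z - Blocks.omega ψ.1 z) := by
  haveI := Fintype.ofFinite (ConjClasses G)
  rw [Blocks.omega_eq_sum_classes χ hz, Blocks.omega_eq_sum_classes ψ hz, ← Finset.sum_sub_distrib]
  exact Blocks.MemLocalIdeal.sum _ fun C _ => by
    rw [← mul_sub]
    exact Blocks.MemLocalIdeal.mul_left (hS _) (h _)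

/-- Integrality of the block idempotent. -/
theorem scoeff_blockIdem {B : Set (IrrCharacter G)} (hB : IsPBlock M B) :
    Blocks.SCoeff M (Blocks.blockIdem B) := by
  obtain ⟨χ₀, rfl⟩ := hB
  set A := blockOf M (χ₀ : G → ℂ) with hA
  suffices key : ∀ s : Finset (IrrCharacter G), (∀ ψ ∈ s, ψ ∉ A) → ∃ u : MonoidAlgebra ℂ G,
      Blocks.IsCentralElt u ∧ Blocks.SCoeff M u ∧
        (∀ χ ∈ A, ¬ MemLocalIdeal M (Blocks.omega χ.1 u)) ∧ ∀ ψ ∈ s, Blocks.omega ψ.1 u = 0 by
    obtain ⟨u, hu, huS, h1, h0⟩ := key (Finset.univ.filter (· ∉ A)) fun ψ h => (Finset.mem_filter.1 h).2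
    obtain ⟨w, -, hwS, hw⟩ := Blocks.exists_mul_eq_blockIdem hu huS h1
      (fun χ hχ => h0 χ (Finset.mem_filter.2 ⟨Finset.mem_univ χ, hχ⟩))
    rw [← hw]
    exact Blocks.SCoeff.mul huS hwS
  intro s
  induction s using Finset.induction with
  | empty => exact fun _ => ⟨1, Blocks.isCentralElt_one, Blocks.scoeff_one, fun χ _ => by
      rw [Blocks.omega_one]; exact Blocks.not_memLocalIdeal_one, by simp⟩
  | insert ψ s hψ ih =>
    intro hs
    obtain ⟨u, hu, huS, h1, h0⟩ := ih fun φ hφ => hs φ (Finset.mem_insert_of_mem hφ)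
    have hne : ¬ SameBlock M χ₀.1 ψ.1 := hs ψ (Finset.mem_insert_self ψ s)
    obtain ⟨g, hg⟩ := not_forall.1 hne
    set c := centralChar ψ.1 g
    set f := Blocks.classSum ℂ g - c • (1 : MonoidAlgebra ℂ G)
    have hf : Blocks.IsCentralElt f := Blocks.IsCentralElt.sub (Blocks.isCentralElt_classSum g)
      (Blocks.IsCentralElt.smul _ Blocks.isCentralElt_one)
    have hfω : ∀ χ : IrrCharacter G, Blocks.omega χ.1 f = centralChar χ.1 g - c := fun χ => by
      rw [Blocks.omega_sub, Blocks.omega_smul, Blocks.omega_one, mul_one,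
        Blocks.omega_classSum (Blocks.irr_classFun χ)]
    refine ⟨u * f, Blocks.IsCentralElt.mul hu hf, Blocks.SCoeff.mul huS (Blocks.SCoeff.sub
      (Blocks.scoeff_classSum g) (Blocks.SCoeff.smul (Blocks.memLocalRing_centralChar ψ g) Blocks.scoeff_one)),
      fun χ hχ => ?_, fun φ hφ => ?_⟩
    · rw [Blocks.omega_mul χ hu, hfω]
      refine Blocks.not_memLocalIdeal_mul (Blocks.memLocalRing_omega χ hu huS)
        (Blocks.MemLocalRing.sub (Blocks.memLocalRing_centralChar χ g) (Blocks.memLocalRing_centralChar ψ g))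
        (h1 χ hχ) fun h => hg ?_
      have h' := Blocks.MemLocalIdeal.add (hχ g) h
      rwa [sub_add_sub_cancel] at h'
    · rw [Blocks.omega_mul φ hu, hfω]
      rcases Finset.mem_insert.1 hφ with rfl | hφ
      · rw [sub_self, mul_zero]
      · rw [h0 φ hφ, zero_mul]

theorem memLocalRing_blockCoeff {B : Set (IrrCharacter G)} (hB : IsPBlock M B) (g : G) :
    MemLocalRing M (blockCoeff B g) := by
  have h := scoeff_blockIdem hB g
  rwa [Blocks.coeff_blockIdem] at h

theorem blockCoeff_conj (B : Set (IrrCharacter G)) (g x : G) :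
    blockCoeff B (x * g * x⁻¹) = blockCoeff B g := by
  have h := Blocks.isCentralElt_blockIdem B g x
  rwa [Blocks.coeff_blockIdem, Blocks.coeff_blockIdem] at h

variable (M) in
/-- The idempotent of a block in `(AlgInt/M)[G]`. -/
noncomputable def blkG (B : Set (IrrCharacter G)) : MonoidAlgebra (AlgInt ⧸ M) G :=
  Blocks.redA M (Blocks.blockIdem B)

theorem coeff_blkG (B : Set (IrrCharacter G)) (g : G) :
    (blkG M B).coeff g = Blocks.red M (blockCoeff B g) := by
  rw [blkG, Blocks.coeff_redA, Blocks.coeff_blockIdem]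

theorem blkG_mul_self {B : Set (IrrCharacter G)} (hB : IsPBlock M B) : blkG M B * blkG M B = blkG M B := by
  rw [blkG, ← Blocks.redA_mul (scoeff_blockIdem hB) (scoeff_blockIdem hB), Blocks.blockIdem_mul_self]

theorem blkG_ne_zero {B : Set (IrrCharacter G)} (hB : IsPBlock M B) : blkG M B ≠ 0 := by
  intro h
  obtain ⟨χ, hχ⟩ := nonempty_of_isPBlock hB
  have h1 := Blocks.memLocalIdeal_omega χ (Blocks.isCentralElt_blockIdem B)
    ((Blocks.redA_eq_zero_iff (scoeff_blockIdem hB)).1 h)
  rw [Blocks.omega_blockIdem, if_pos hχ] at h1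
  exact Blocks.not_memLocalIdeal_one h1

theorem blkG_mul_eq_zero {A B : Set (IrrCharacter G)} (hA : IsPBlock M A) (hB : IsPBlock M B)
    (h : A ≠ B) : blkG M A * blkG M B = 0 := by
  rw [blkG, blkG, ← Blocks.redA_mul (scoeff_blockIdem hA) (scoeff_blockIdem hB), Blocks.blockIdem_mul,
    Set.eq_empty_iff_forall_notMem.2 fun χ (hχ : χ ∈ A ∩ B) =>
      h ((eq_blockOf_of_mem hA hχ.1).trans (eq_blockOf_of_mem hB hχ.2).symm)]
  have : Blocks.blockIdem (∅ : Set (IrrCharacter G)) = 0 :=
    Blocks.alg_ext fun g => by simp [Blocks.coeff_blockIdem, blockCoeff]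
  rw [this, Blocks.redA_zero]

theorem blkG_injective {A B : Set (IrrCharacter G)} (hA : IsPBlock M A) (hB : IsPBlock M B)
    (h : blkG M A = blkG M B) : A = B := by
  by_contra hne
  have h1 := blkG_mul_eq_zero hA hB hne
  rw [h, blkG_mul_self hB] at h1
  exact blkG_ne_zero hB h1

theorem sum_blkG :
    ∑ B ∈ (Finset.univ.image fun χ : IrrCharacter G => blockOf M (χ : G → ℂ)), blkG M B = 1 := by
  have hsum : ∑ B ∈ (Finset.univ.image fun χ : IrrCharacter G => blockOf M (χ : G → ℂ)),
      Blocks.blockIdem B = 1 := by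
    refine Blocks.central_ext (Blocks.IsCentralElt.sum _ fun B _ => Blocks.isCentralElt_blockIdem B)
      Blocks.isCentralElt_one fun χ => ?_
    rw [Blocks.omega_sum, Blocks.omega_one, Finset.sum_eq_single (blockOf M χ.1)]
    · rw [Blocks.omega_blockIdem, if_pos (mem_blockOf_self χ)]
    · intro B hB hne
      obtain ⟨ψ, -, rfl⟩ := Finset.mem_image.1 hB
      rw [Blocks.omega_blockIdem, if_neg fun h => hne (eq_blockOf_of_mem (isPBlock_blockOf ψ) h)]
    · exact fun h => absurd (Finset.mem_image_of_mem _ (Finset.mem_univ χ)) h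
  refine Blocks.alg_ext fun g => ?_
  rw [coeff_sum, Finsupp.finsetSum_apply, ← Blocks.redA_one, Blocks.coeff_redA, ← hsum, coeff_sum,
    Finsupp.finsetSum_apply, Blocks.red_sum _ fun B hB => ?_]
  · exact Finset.sum_congr rfl fun B _ => by rw [blkG, Blocks.coeff_redA]
  · obtain ⟨ψ, -, rfl⟩ := Finset.mem_image.1 hB
    exact scoeff_blockIdem (isPBlock_blockOf ψ) g

/-- Locality: every central element is a scalar plus nilpotent on a block. -/
theorem isNilpotent_redA_sub {B : Set (IrrCharacter G)} (hB : IsPBlock M B) {χ : IrrCharacter G}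
    (hχ : χ ∈ B) {z : MonoidAlgebra ℂ G} (hz : Blocks.IsCentralElt z) (hS : Blocks.SCoeff M z) :
    IsNilpotent (Blocks.redA M z * blkG M B - Blocks.red M (Blocks.omega χ.1 z) • blkG M B) := by
  set E := Blocks.blockIdem B with hE
  have hEc := Blocks.isCentralElt_blockIdem (G := G) B
  have hES := scoeff_blockIdem hB
  set w := z * E - Blocks.omega χ.1 z • E with hw
  have hωS := Blocks.memLocalRing_omega χ hz hS
  have hwS : Blocks.SCoeff M w := Blocks.SCoeff.sub (Blocks.SCoeff.mul hS hES) (Blocks.SCoeff.smul hωS hES)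
  have hwc : Blocks.IsCentralElt w :=
    Blocks.IsCentralElt.sub (Blocks.IsCentralElt.mul hz hEc) (Blocks.IsCentralElt.smul _ hEc)
  have hω : ∀ ψ : IrrCharacter G, MemLocalIdeal M (Blocks.omega ψ.1 w) := by
    intro ψ
    rw [hw, Blocks.omega_sub, Blocks.omega_mul ψ hz, Blocks.omega_smul, hE, Blocks.omega_blockIdem]
    split_ifs with hψ
    · rw [mul_one, mul_one]
      refine omega_sub_mem ?_ hz hS
      have hBeq := eq_blockOf_of_mem hB hχ
      rw [hBeq] at hψ
      exact sameBlock_symm hψ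
    · rw [mul_zero, mul_zero, sub_zero]; exact Blocks.memLocalIdeal_zero
  refine ⟨Fintype.card (IrrCharacter G), ?_⟩
  have h := (Blocks.redA_eq_zero_iff (Blocks.SCoeff.pow hwS _)).2 (Blocks.mcoeff_pow_of_omega hwc hwS hω)
  rwa [Blocks.redA_pow hwS, hw, Blocks.redA_sub (Blocks.SCoeff.mul hS hES) (Blocks.SCoeff.smul hωS hES),
    Blocks.redA_mul hS hES, Blocks.redA_smul hωS hES] at h

/-- A central lift of a central element of `(AlgInt/M)[G]`. -/
theorem exists_lift {z : MonoidAlgebra (AlgInt ⧸ M) G} (hz : ∀ g h : G, z.coeff (h * g * h⁻¹) = z.coeff g) :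
    ∃ w : MonoidAlgebra ℂ G, Blocks.IsCentralElt w ∧ Blocks.SCoeff M w ∧ Blocks.redA M w = z := by
  refine ⟨Blocks.ofFun fun g => ((Blocks.red_surjective (z.coeff g)).choose : ℂ),
    Blocks.isCentralElt_ofFun fun g h => ?_, Blocks.scoeff_ofFun fun g => Blocks.memLocalRing_coe _, ?_⟩
  · simp only [hz g h]
  · refine Blocks.alg_ext fun g => ?_
    rw [Blocks.coeff_redA, Blocks.coeff_ofFun]
    exact (Blocks.red_surjective (z.coeff g)).choose_spec

theorem isBlockIdem_blkG {B : Set (IrrCharacter G)} (hB : IsPBlock M B) :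
    IsBlockIdem (⊤ : Subgroup G) (blkG M B) := by
  have hc : ∀ g h : G, (blkG M B).coeff (h * g * h⁻¹) = (blkG M B).coeff g := fun g h => by
    rw [coeff_blkG, coeff_blkG, blockCoeff_conj]
  refine ⟨⟨fun x hx => absurd (Subgroup.mem_top x) hx, mem_fixedBy_iff_coeff.2 fun h _ g => hc g h⟩,
    blkG_mul_self hB, blkG_ne_zero hB, fun z hz => ?_⟩
  obtain ⟨w, hw, hwS, rfl⟩ := exists_lift fun g h => mem_fixedBy_iff_coeff.1 hz.2 h (Subgroup.mem_top h) g
  obtain ⟨χ, hχ⟩ := nonempty_of_isPBlock hB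
  exact ⟨_, isNilpotent_redA_sub hB hχ hw hwS⟩

theorem omega_blkG {B : Set (IrrCharacter G)} (hB : IsPBlock M B) {χ : IrrCharacter G} (hχ : χ ∈ B)
    {w : MonoidAlgebra ℂ G} (hw : Blocks.IsCentralElt w) (hwS : Blocks.SCoeff M w) :
    omega (blkG M B) (Blocks.redA M w) = Blocks.red M (Blocks.omega χ.1 w) :=
  (isBlockIdem_blkG hB).omega_eq
    ⟨fun x hx => absurd (Subgroup.mem_top x) hx, mem_fixedBy_iff_coeff.2 fun h _ g => by
      rw [Blocks.coeff_redA, Blocks.coeff_redA, hw g h]⟩
    (isNilpotent_redA_sub hB hχ hw hwS)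

end Basic

/-! ### Blocks of subgroups -/

section Subgroups

variable {G : Type u} [Group G] [Finite G] {M : Ideal AlgInt} [M.IsMaximal] (H : Subgroup G)

/-- The inclusion `(AlgInt/M)[H] → (AlgInt/M)[G]`. -/
noncomputable def incl (k : Type*) [CommRing k] : MonoidAlgebra k H →ₐ[k] MonoidAlgebra k G :=
  MonoidAlgebra.mapDomainAlgHom k k H.subtype

theorem coeff_incl_coe {k : Type*} [CommRing k] (a : MonoidAlgebra k H) (h : H) :
    (incl H k a).coeff (h : G) = a.coeff h :=
  Finsupp.mapDomain_apply H.subtype_injective a.coeff h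

theorem coeff_incl_of_notMem {k : Type*} [CommRing k] (a : MonoidAlgebra k H) {g : G} (hg : g ∉ H) :
    (incl H k a).coeff g = 0 :=
  Finsupp.mapDomain_of_notMem_range (f := (H.subtype : H → G)) a.coeff g
    (fun ⟨h, hh⟩ => hg (hh ▸ h.2))

theorem incl_injective {k : Type*} [CommRing k] : Function.Injective (incl H k) := fun a b h => by
  ext x
  rw [← coeff_incl_coe, h, coeff_incl_coe]

theorem exists_eq_incl {k : Type*} [Field k] {z : MonoidAlgebra k G} (hz : z ∈ centerIn k H) :
    ∃ w : MonoidAlgebra k H, (∀ g h : H, w.coeff (h * g * h⁻¹) = w.coeff g) ∧ incl H k w = z := by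
  refine ⟨Blocks.ofFun fun h => z.coeff h, fun g h => ?_, ?_⟩
  · simp only [Blocks.coeff_ofFun, Subgroup.coe_mul, Subgroup.coe_inv]
    exact mem_fixedBy_iff_coeff.1 hz.2 h h.2 g
  · refine Blocks.alg_ext fun g => ?_
    by_cases hg : g ∈ H
    · rw [show g = ((⟨g, hg⟩ : H) : G) from rfl, coeff_incl_coe, Blocks.coeff_ofFun]
    · rw [coeff_incl_of_notMem H _ hg, hz.1 g hg]

theorem incl_mem_centerIn {k : Type*} [Field k] {w : MonoidAlgebra k H}
    (hw : ∀ g h : H, w.coeff (h * g * h⁻¹) = w.coeff g) : incl H k w ∈ centerIn k H := by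
  refine ⟨fun x hx => coeff_incl_of_notMem H w hx, mem_fixedBy_iff_coeff.2 fun h hh x => ?_⟩
  by_cases hx : x ∈ H
  · have h1 := hw ⟨x, hx⟩ ⟨h, hh⟩
    rw [← coeff_incl_coe H w, ← coeff_incl_coe H w] at h1
    simpa using h1
  · rw [coeff_incl_of_notMem H w hx, coeff_incl_of_notMem H w]
    exact fun h' => hx (by simpa [mul_assoc] using mul_mem (mul_mem (inv_mem hh) h') hh)

variable (M) in
/-- The idempotent modulo `M` of a block of the subgroup `H`, in `(AlgInt/M)[G]`. -/
noncomputable def blk (e : Set (IrrCharacter H)) : MonoidAlgebra (AlgInt ⧸ M) G :=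
  incl H (AlgInt ⧸ M) (blkG M e)

theorem coeff_blk (e : Set (IrrCharacter H)) (g : G) :
    (blk M H e).coeff g = Blocks.red M (subgroupBlockCoeff H e g) := by
  unfold blk subgroupBlockCoeff
  by_cases hg : g ∈ H
  · rw [dif_pos hg]
    exact (coeff_incl_coe H _ (⟨g, hg⟩ : H)).trans (coeff_blkG e _)
  · rw [dif_neg hg, coeff_incl_of_notMem H _ hg, Blocks.red_zero]

theorem isBlockIdem_blk {e : Set (IrrCharacter H)} (he : IsPBlock M e) : IsBlockIdem H (blk M H e) := by
  refine ⟨incl_mem_centerIn H fun g h => by rw [coeff_blkG, coeff_blkG, blockCoeff_conj],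
    by rw [blk, ← map_mul, blkG_mul_self he], ?_, fun z hz => ?_⟩
  · intro h
    exact blkG_ne_zero he (incl_injective H (by rw [map_zero]; exact h))
  · obtain ⟨w, hw, rfl⟩ := exists_eq_incl H hz
    obtain ⟨w', hw', hwS, rfl⟩ := exists_lift hw
    obtain ⟨χ, hχ⟩ := nonempty_of_isPBlock he
    refine ⟨Blocks.red M (Blocks.omega χ.1 w'), ?_⟩
    have h := (isNilpotent_redA_sub he hχ hw' hwS).map (incl H (AlgInt ⧸ M))
    rwa [map_sub, map_mul, map_smul] at h

theorem omega_blk {e : Set (IrrCharacter H)} (he : IsPBlock M e) {ξ : IrrCharacter H} (hξ : ξ ∈ e)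
    {w : MonoidAlgebra ℂ H} (hw : Blocks.IsCentralElt w) (hwS : Blocks.SCoeff M w) :
    omega (blk M H e) (incl H (AlgInt ⧸ M) (Blocks.redA M w)) = Blocks.red M (Blocks.omega ξ.1 w) := by
  refine (isBlockIdem_blk H he).omega_eq (incl_mem_centerIn H fun g h => by
    rw [Blocks.coeff_redA, Blocks.coeff_redA, hw g h]) ?_
  have h := (isNilpotent_redA_sub he hξ hw hwS).map (incl H (AlgInt ⧸ M))
  rwa [map_sub, map_mul, map_smul] at h

theorem blk_injective {A B : Set (IrrCharacter H)} (hA : IsPBlock M A) (hB : IsPBlock M B)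
    (h : blk M H A = blk M H B) : A = B :=
  blkG_injective hA hB (incl_injective H h)

variable (M) in
theorem hasBlocks : HasBlocks (AlgInt ⧸ M) H := by
  refine ⟨(Finset.univ.image fun χ : IrrCharacter H => blockOf M (χ : H → ℂ)).image (blk M H), ?_, ?_⟩
  · intro f hf
    obtain ⟨B, hB, rfl⟩ := Finset.mem_image.1 hf
    obtain ⟨χ, -, rfl⟩ := Finset.mem_image.1 hB
    exact isBlockIdem_blk H (isPBlock_blockOf χ)
  · rw [Finset.sum_image]
    · show ∑ B ∈ _, incl H (AlgInt ⧸ M) (blkG M B) = 1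
      rw [← map_sum, sum_blkG, map_one]
    · intro A hA B hB h
      simp only [Finset.coe_image, Set.mem_image] at hA hB
      obtain ⟨χ, -, rfl⟩ := hA
      obtain ⟨ψ, -, rfl⟩ := hB
      exact blk_injective H (isPBlock_blockOf χ) (isPBlock_blockOf ψ) h

/-- Every block idempotent of `H` is that of a block of `H`. -/
theorem exists_eq_blk {f : MonoidAlgebra (AlgInt ⧸ M) G} (hf : IsBlockIdem H f) :
    ∃ e : Set (IrrCharacter H), IsPBlock M e ∧ blk M H e = f := by
  obtain ⟨s, hs, h1⟩ := hasBlocks M H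
  by_contra hno
  apply hf.ne_zero
  rw [← one_mul f, ← map_one (incl H (AlgInt ⧸ M)), ← sum_blkG, map_sum, Finset.sum_mul]
  refine Finset.sum_eq_zero fun B hB => ?_
  obtain ⟨χ, -, rfl⟩ := Finset.mem_image.1 hB
  exact hf.mul_eq_zero_of_ne (isBlockIdem_blk H (isPBlock_blockOf χ))
    fun h => hno ⟨_, isPBlock_blockOf χ, h.symm⟩

end Subgroups

/-! ### Transport along isomorphisms -/

section Iso

variable {H : Type u} {K : Type v} [Group H] [Group K] (e : H ≃* K)

/-- Pull back an irreducible character along an isomorphism. -/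
noncomputable def compIrr : IrrCharacter K ≃ IrrCharacter H where
  toFun χ := ⟨fun h => χ.1 (e h), Char.IsIrrCharacter.comp_surjective χ.2 e.toMonoidHom e.surjective⟩
  invFun χ := ⟨fun k => χ.1 (e.symm k),
    Char.IsIrrCharacter.comp_surjective χ.2 e.symm.toMonoidHom e.symm.surjective⟩
  left_inv χ := Subtype.ext (funext fun k => by simp)
  right_inv χ := Subtype.ext (funext fun h => by simp)

@[simp] theorem compIrr_apply (χ : IrrCharacter K) (h : H) : (compIrr e χ).1 h = χ.1 (e h) := rfl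

/-- Pull back a set of characters. -/
noncomputable def mapBlock (A : Set (IrrCharacter K)) : Set (IrrCharacter H) := compIrr e '' A

variable [Finite H] [Finite K]

theorem index_centralizer_map (h : H) :
    (Subgroup.centralizer ({h} : Set H)).index = (Subgroup.centralizer ({e h} : Set K)).index := by
  rw [← Blocks.card_isConj_eq_index, ← Blocks.card_isConj_eq_index]
  refine Nat.card_congr (Equiv.subtypeEquiv e.toEquiv fun x => ?_)
  constructor
  · exact fun hc => e.toMonoidHom.map_isConj hc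
  · intro hc
    have := e.symm.toMonoidHom.map_isConj hc
    simpa using this

theorem centralChar_compIrr (χ : IrrCharacter K) (h : H) :
    centralChar (compIrr e χ).1 h = centralChar χ.1 (e h) := by
  simp [centralChar, index_centralizer_map e h]

variable {M : Ideal AlgInt} [M.IsMaximal]

theorem sameBlock_compIrr (χ ψ : IrrCharacter K) :
    SameBlock M (compIrr e χ).1 (compIrr e ψ).1 ↔ SameBlock M χ.1 ψ.1 := by
  unfold SameBlock
  constructor
  · intro h k
    have h1 := h (e.symm k)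
    rwa [centralChar_compIrr, centralChar_compIrr, MulEquiv.apply_symm_apply] at h1
  · intro h x
    rw [centralChar_compIrr, centralChar_compIrr]
    exact h (e x)

theorem mapBlock_blockOf (χ : IrrCharacter K) :
    mapBlock e (blockOf M χ.1) = blockOf M (compIrr e χ).1 := by
  ext ψ
  constructor
  · rintro ⟨φ, hφ, rfl⟩
    exact (sameBlock_compIrr e χ φ).2 hφ
  · intro hψ
    refine ⟨(compIrr e).symm ψ, (sameBlock_compIrr e χ _).1 ?_, (compIrr e).apply_symm_apply ψ⟩
    rwa [Equiv.apply_symm_apply]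

theorem isPBlock_mapBlock {A : Set (IrrCharacter K)} (hA : IsPBlock M A) : IsPBlock M (mapBlock e A) := by
  obtain ⟨χ, rfl⟩ := hA
  exact ⟨compIrr e χ, mapBlock_blockOf e χ⟩

theorem blockCoeff_mapBlock (A : Set (IrrCharacter K)) (h : H) :
    blockCoeff (mapBlock e A) h = blockCoeff A (e h) := by
  unfold blockCoeff mapBlock
  rw [finsum_mem_image (compIrr e).injective.injOn, Nat.card_congr e.toEquiv]
  simp

theorem mapBlock_principalBlock : mapBlock e (principalBlock M K) = principalBlock M H :=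
  mapBlock_blockOf e (Char.trivialChar K)

end Iso

/-! ### Conjugation of blocks of subgroups -/

section Conj

variable {G : Type u} [Group G] [Finite G] {M : Ideal AlgInt} [M.IsMaximal]

/-- Conjugation by `x⁻¹` as an isomorphism `H' ≃* H` when `H' = xHx⁻¹`. -/
def conjIso (x : G) {H H' : Subgroup G} (hH : ∀ c, c ∈ H' ↔ x⁻¹ * c * x ∈ H) : H' ≃* H where
  toFun c := ⟨x⁻¹ * c * x, (hH c).1 c.2⟩
  invFun c := ⟨x * c * x⁻¹, (hH _).2 (by simp [mul_assoc])⟩
  left_inv c := Subtype.ext (by simp [mul_assoc])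
  right_inv c := Subtype.ext (by simp [mul_assoc])
  map_mul' a b := Subtype.ext (by simp [mul_assoc])

theorem blk_mapBlock_conjIso (x : G) {H H' : Subgroup G} (hH : ∀ c, c ∈ H' ↔ x⁻¹ * c * x ∈ H)
    (f : Set (IrrCharacter H)) : blk M H' (mapBlock (conjIso x hH) f) = conjEl x (blk M H f) := by
  refine Blocks.alg_ext fun g => ?_
  rw [coeff_conjEl, coeff_blk, coeff_blk]
  unfold subgroupBlockCoeff
  by_cases hg : g ∈ H'
  · rw [dif_pos hg, dif_pos ((hH g).1 hg), blockCoeff_mapBlock]
    rfl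
  · rw [dif_neg hg, dif_neg (mt (hH g).2 hg)]

end Conj

end Cfsg.Agent.BrauerPairs
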