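import Cfsg.Agent.Lib.BrauerPairs.Sub
import Cfsg.Agent.Lib.Blocks.Nilpotent

/-!
# Local structure of a block below a maximal Brauer pair

For a pair `(Q, f) ≤ (P, e)` with `(P, e)` maximal: `f` is a block idempotent of its stabiliser
`stabOf Q f` in `N(Q)`; `N_P(Q)` and `C_P(Q)` lie in defect groups of `f` in that stabiliser and in `C(Q)`,
and are defect groups after a suitable conjugation.
-/

set_option autoImplicit false
set_option linter.unusedSectionVars false

open MonoidAlgebra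
open scoped Classical

namespace Cfsg.Agent.BrauerPairs

universe u

variable {k : Type*} [Field k] {G : Type u} [Group G] [Finite G] {p : ℕ} [Fact p.Prime] [CharP k p]

/-- The stabiliser of `f` in the normalizer of `Q`. -/
noncomputable def stabOf (Q : Subgroup G) (f : MonoidAlgebra k G) : Subgroup G where
  carrier := {g | g ∈ Subgroup.normalizer (Q : Set G) ∧ conjEl g f = f}
  one_mem' := ⟨one_mem _, conjEl_one f⟩
  mul_mem' := fun {g h} hg hh => ⟨mul_mem hg.1 hh.1, by rw [conjEl_mul, hh.2, hg.2]⟩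
  inv_mem' := fun {g} hg => ⟨inv_mem hg.1, by
    have h := conjEl_inv_conjEl g f
    rwa [hg.2] at h⟩

theorem mem_stabOf {Q : Subgroup G} {f : MonoidAlgebra k G} {g : G} :
    g ∈ stabOf Q f ↔ g ∈ Subgroup.normalizer (Q : Set G) ∧ conjEl g f = f := Iff.rfl

theorem stabOf_le (Q : Subgroup G) (f : MonoidAlgebra k G) : stabOf Q f ≤ Subgroup.normalizer (Q : Set G) :=
  fun _ h => h.1

theorem stabOf_fixes (Q : Subgroup G) (f : MonoidAlgebra k G) : f ∈ fixedBy k (stabOf Q f) :=
  fun _ h => h.2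

theorem centralizer_le_stabOf {Q : Subgroup G} {f : MonoidAlgebra k G}
    (hf : IsBlockIdem (Subgroup.centralizer (Q : Set G)) f) :
    Subgroup.centralizer (Q : Set G) ≤ stabOf Q f :=
  fun c hc => ⟨Subgroup.centralizer_le_normalizer _ hc, hf.mem.2 c hc⟩

theorem self_le_stabOf {Q : Subgroup G} {f : MonoidAlgebra k G}
    (hf : IsBlockIdem (Subgroup.centralizer (Q : Set G)) f) : Q ≤ stabOf Q f :=
  fun c hc => ⟨Subgroup.le_normalizer hc, mem_fixedBy_of_supp_centralizer hf.mem.1 c hc⟩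

theorem map_conj_normalizer' (x : G) (Q : Subgroup G) :
    (Subgroup.normalizer (Q : Set G)).map (MulAut.conj x).toMonoidHom =
      Subgroup.normalizer ((Q.map (MulAut.conj x).toMonoidHom : Subgroup G) : Set G) :=
  Subgroup.map_equiv_normalizer_eq Q (MulAut.conj x)

theorem map_conj_stabOf (x : G) (Q : Subgroup G) (f : MonoidAlgebra k G) :
    (stabOf Q f).map (MulAut.conj x).toMonoidHom =
      stabOf (Q.map (MulAut.conj x).toMonoidHom) (conjEl x f) := by
  ext g
  rw [Subgroup.mem_map_equiv, MulAut.conj_symm_apply, mem_stabOf, mem_stabOf,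
    ← map_conj_normalizer', Subgroup.mem_map_equiv, MulAut.conj_symm_apply]
  refine and_congr_right fun _ => ⟨fun h => ?_, fun h => ?_⟩
  · have h1 := congrArg (conjEl x) h
    rwa [← conjEl_mul, show x * (x⁻¹ * g * x) = g * x by group, conjEl_mul] at h1
  · rw [← conjEl_mul] at h
    have h1 := congrArg (conjEl x⁻¹) h
    rwa [← conjEl_mul, conjEl_inv_conjEl, show x⁻¹ * (g * x) = x⁻¹ * g * x by group] at h1

theorem centralizer_sup_eq (Q D : Subgroup G) :
    Subgroup.centralizer ((Q ⊔ D : Subgroup G) : Set G) =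
      Subgroup.centralizer (Q : Set G) ⊓ Subgroup.centralizer (D : Set G) := by
  refine le_antisymm (le_inf (Subgroup.centralizer_le (SetLike.coe_subset_coe.2 le_sup_left))
    (Subgroup.centralizer_le (SetLike.coe_subset_coe.2 le_sup_right))) ?_
  rw [Subgroup.le_centralizer_iff]
  exact sup_le (Subgroup.le_centralizer_iff.1 inf_le_left) (Subgroup.le_centralizer_iff.1 inf_le_right)

/-- An element supported in `C(Q)` has the same Brauer image at `D` and at `Q ⊔ D`. -/
theorem br_sup_eq {Q : Subgroup G} (D : Subgroup G) {a : MonoidAlgebra k G}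
    (ha : a ∈ suppIn k (Subgroup.centralizer (Q : Set G))) : br (Q ⊔ D) a = br D a := by
  refine Blocks.alg_ext fun x => ?_
  rw [coeff_br, coeff_br, centralizer_sup_eq]
  by_cases hx : x ∈ Subgroup.centralizer (Q : Set G)
  · exact if_congr (by rw [Subgroup.mem_inf]; exact and_iff_right hx) rfl rfl
  · simp [ha x hx]

theorem br_ne_zero_mono {R R₀ : Subgroup G} (h : R ≤ R₀) {a : MonoidAlgebra k G} (hne : br R₀ a ≠ 0) :
    br R a ≠ 0 := fun h0 => hne (by rw [← br_br h a, h0, map_zero])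

/-! ### `f` is a block idempotent of its stabiliser -/

variable (p) in
/-- A central element of `k[T]` differs from its Brauer image at a normal `p`-subgroup by a nilpotent. -/
theorem isNilpotent_sub_br {Q T : Subgroup G} (hQ : IsPGroup p Q) (hQT : Q ≤ T)
    (hTN : T ≤ Subgroup.normalizer (Q : Set G)) {z : MonoidAlgebra k G} (hz : z ∈ centerIn k T) :
    IsNilpotent (z - br Q z) := by
  have hd : z - br Q z ∈ centerIn k T := by
    refine sub_mem hz ⟨fun x hx => ?_, br_mem_fixedBy hz.2 le_rfl hTN⟩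
    rw [coeff_br]
    simp [hz.1 x hx]
  obtain ⟨w, hw, hweq⟩ := exists_eq_incl T hd
  rw [← hweq]
  refine IsNilpotent.map ?_ (incl T k)
  haveI : (Q.subgroupOf T).Normal := by
    refine ⟨fun q hq t => ?_⟩
    rw [Subgroup.mem_subgroupOf] at hq ⊢
    simp only [Subgroup.coe_mul, Subgroup.coe_inv]
    exact (Subgroup.mem_normalizer_iff.1 (hTN t.2) _).1 hq
  refine Blocks.isNilpotent_of_central (p := p) (Q.subgroupOf T)
    (hQ.of_equiv (Subgroup.subgroupOfEquivOfLe hQT).symm) hw fun x hx => ?_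
  rw [← coeff_incl_coe T w, hweq, MonoidAlgebra.coeff_sub, Finsupp.sub_apply, sub_eq_zero,
    coeff_br_of_mem z ?_]
  refine Subgroup.mem_centralizer_iff.2 fun q hq => ?_
  exact congrArg Subtype.val (Subgroup.mem_centralizer_iff.1 hx ⟨q, hQT hq⟩ hq)

variable (p) in
theorem isBlockIdem_of_stab {Q T : Subgroup G} (hQ : IsPGroup p Q) {f : MonoidAlgebra k G}
    (hf : IsBlockIdem (Subgroup.centralizer (Q : Set G)) f) (hCT : Subgroup.centralizer (Q : Set G) ≤ T)
    (hQT : Q ≤ T) (hTN : T ≤ Subgroup.normalizer (Q : Set G)) (hfix : f ∈ fixedBy k T) :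
    IsBlockIdem T f := by
  have hfT : f ∈ centerIn k T := ⟨suppIn_mono hCT hf.mem.1, hfix⟩
  refine ⟨hfT, hf.idem, hf.ne_zero, fun z hz => ?_⟩
  set z' := br Q z with hz'
  have hz'T : z' ∈ centerIn k T :=
    ⟨fun x hx => coeff_br_of_notMem z (fun h => hx (hCT h)), br_mem_fixedBy hz.2 le_rfl hTN⟩
  have hz'C : z' ∈ centerIn k (Subgroup.centralizer (Q : Set G)) :=
    ⟨fun x hx => coeff_br_of_notMem z hx, fixedBy_anti hCT hz'T.2⟩
  have hd : z - z' ∈ centerIn k T := sub_mem hz hz'T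
  have hnil : IsNilpotent (z - z') := isNilpotent_sub_br p hQ hQT hTN hz
  obtain ⟨c, hc⟩ := hf.2.2.2 z' hz'C
  refine ⟨c, ?_⟩
  have hcd : Commute (z - z') f := centerIn_commute hd.1 hfT.2
  have hcomm : Commute ((z - z') * f) (z' * f - c • f) := by
    have h1 : Commute (z - z') z' := centerIn_commute hd.1 hz'T.2
    have h2 : Commute z' f := centerIn_commute hz'T.1 hfT.2
    exact ((h1.mul_right hcd).mul_left (h2.symm.mul_right (Commute.refl f))).sub_right
      ((hcd.smul_right c).mul_left ((Commute.refl f).smul_right c))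
  have h := hcomm.isNilpotent_add (hcd.isNilpotent_mul_right hnil) hc
  rwa [show (z - z') * f + (z' * f - c • f) = z * f - c • f by rw [sub_mul]; abel] at h

theorem isBlockIdem_stabOf {Q : Subgroup G} {f : MonoidAlgebra k G} (h : IsPair p (Q, f)) :
    IsBlockIdem (stabOf Q f) f :=
  isBlockIdem_of_stab p h.1 h.2 (centralizer_le_stabOf h.2) (self_le_stabOf h.2) (stabOf_le Q f)
    (stabOf_fixes Q f)

/-! ### Pairs below a maximal pair -/

section Below

variable {B e : MonoidAlgebra k G} {P Q : Subgroup G} {f : MonoidAlgebra k G}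

theorem conjPair_self_of_mem {P : Subgroup G} {e : MonoidAlgebra k G} (ha : IsPair p (P, e)) {u : G}
    (hu : u ∈ P) : conjPair u (P, e) = (P, e) :=
  Prod.ext (map_conj_eq_of_mem_normalizer (Subgroup.le_normalizer hu))
    (mem_fixedBy_of_supp_centralizer ha.2.mem.1 u hu)

theorem conjEl_eq_of_ple (hblk : ∀ H : Subgroup G, HasBlocks k H) (ha : IsPair p (P, e))
    (hle : PLE p (Q, f) (P, e)) {u : G} (hu : u ∈ Subgroup.normalizer (Q : Set G))
    (hle' : PLE p (conjPair u (Q, f)) (P, e)) : conjEl u f = f := by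
  rw [show conjPair u (Q, f) = (Q, conjEl u f) from Prod.ext (map_conj_eq_of_mem_normalizer hu) rfl] at hle'
  exact ple_unique hblk ha Q _ _ hle' hle

theorem inf_normalizer_le_stabOf (hblk : ∀ H : Subgroup G, HasBlocks k H) (ha : IsPair p (P, e))
    (hle : PLE p (Q, f) (P, e)) : P ⊓ Subgroup.normalizer (Q : Set G) ≤ stabOf Q f := by
  rintro u ⟨huP, huN⟩
  refine ⟨huN, conjEl_eq_of_ple hblk ha hle huN ?_⟩
  have h := hle.conj u
  rwa [conjPair_self_of_mem ha huP] at h

/-- The pair at `R` sits above `(Q, f)` when `Q ≤ R ≤ P` normalizes `Q`. -/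
theorem exists_step_of_le (hblk : ∀ H : Subgroup G, HasBlocks k H) (ha : IsPair p (P, e))
    (hle : PLE p (Q, f) (P, e)) {R : Subgroup G} (hQR : Q ≤ R) (hRP : R ≤ P)
    (hRN : R ≤ Subgroup.normalizer (Q : Set G)) :
    ∃ r, Step p (Q, f) (R, r) ∧ PLE p (R, r) (P, e) := by
  obtain ⟨r, hr⟩ := exists_ple hblk ha R hRP
  obtain ⟨f', hf'⟩ := exists_ple hblk (hr.isPair_left ha) Q hQR
  obtain rfl : f' = f := ple_unique hblk ha Q _ _ (Relation.ReflTransGen.trans hf' hr) hle
  exact ⟨r, hf'.step_of_le_normalizer hblk (hf'.isPair_left (hr.isPair_left ha)) hRN, hr⟩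

theorem Step.br_ne_zero {a b : Subgroup G × MonoidAlgebra k G} (h : Step p a b) : br b.1 a.2 ≠ 0 :=
  fun h0 => h.2.1.2.ne_zero (by rw [← h.2.2.2.2.2, h0, zero_mul])

theorem br_inf_normalizer_ne_zero (hblk : ∀ H : Subgroup G, HasBlocks k H) (ha : IsPair p (P, e))
    (hle : PLE p (Q, f) (P, e)) : br (P ⊓ Subgroup.normalizer (Q : Set G)) f ≠ 0 := by
  obtain ⟨r, hr, -⟩ := exists_step_of_le hblk ha hle (le_inf hle.le Subgroup.le_normalizer) inf_le_left
    inf_le_right
  exact hr.br_ne_zero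

theorem br_inf_centralizer_ne_zero (hblk : ∀ H : Subgroup G, HasBlocks k H) (ha : IsPair p (P, e))
    (hle : PLE p (Q, f) (P, e)) : br (P ⊓ Subgroup.centralizer (Q : Set G)) f ≠ 0 :=
  br_ne_zero_mono (inf_le_inf_left P (Subgroup.centralizer_le_normalizer _))
    (br_inf_normalizer_ne_zero hblk ha hle)

theorem exists_defectIn_stabOf (hblk : ∀ H : Subgroup G, HasBlocks k H) (ha : IsPair p (P, e))
    (hle : PLE p (Q, f) (P, e)) :
    ∃ D, DefectIn p (stabOf Q f) f D ∧ P ⊓ Subgroup.normalizer (Q : Set G) ≤ D :=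
  exists_defectIn hblk (isBlockIdem_stabOf (hle.isPair_left ha)) (ha.1.to_le inf_le_left)
    (inf_normalizer_le_stabOf hblk ha hle) (br_inf_normalizer_ne_zero hblk ha hle)

theorem exists_defectIn_centralizer (hblk : ∀ H : Subgroup G, HasBlocks k H) (ha : IsPair p (P, e))
    (hle : PLE p (Q, f) (P, e)) :
    ∃ D, DefectIn p (Subgroup.centralizer (Q : Set G)) f D ∧
      P ⊓ Subgroup.centralizer (Q : Set G) ≤ D :=
  exists_defectIn hblk (hle.isPair_left ha).2 (ha.1.to_le inf_le_left) inf_le_right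
    (br_inf_centralizer_ne_zero hblk ha hle)

/-- A pair above `(Q, f)` conjugated below the maximal pair. -/
theorem exists_conj_of_step (hblk : ∀ H : Subgroup G, HasBlocks k H) (hB : IsBlockIdem ⊤ B)
    (ha : IsMax p B (P, e)) (hle : PLE p (Q, f) (P, e)) {D : Subgroup G} (hD : IsPGroup p D) (hQD : Q ≤ D)
    (hDT : D ≤ stabOf Q f) (hne : br D f ≠ 0) :
    ∃ (g : MonoidAlgebra k G) (x : G), Step p (Q, f) (D, g) ∧ PLE p (conjPair x (D, g)) (P, e) ∧
      PLE p (conjPair x (Q, f)) (P, e) := by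
  have hQf := hle.isPair_left ha.1.1
  have hfix : f ∈ fixedBy k D := fun u hu => (hDT hu).2
  obtain ⟨g, hg, hne'⟩ := exists_blockIdem_mul_ne_zero hblk (Subgroup.centralizer (D : Set G)) hne
  have hmem : br D f ∈ centerIn k (Subgroup.centralizer (D : Set G)) := by
    have h := br_mem_centerIn (P := D) hQf.2.mem
    rwa [centralizer_inf_of_le hQD] at h
  have hstep : Step p (Q, f) (D, g) := ⟨hQf, ⟨hD, hg⟩, hQD, fun u hu => (hDT hu).1, hfix,
    hg.mul_eq_self_of_ne hmem (by rw [← br_mul hD hfix hfix, hQf.2.idem]) hne'⟩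
  have hpair : IsPairOf p B (D, g) :=
    (step_isPairOf_iff hB hstep).2 ((ple_isPairOf_iff hB hle).1 ha.1)
  obtain ⟨x, hx⟩ := exists_conj_ple hblk hB ha hpair
  exact ⟨g, x, hstep, hx, Relation.ReflTransGen.trans (Relation.ReflTransGen.single (hstep.conj x)) hx⟩

/-- After a suitable conjugation, `N_P(Q)` is a defect group of `f` in its stabiliser. -/
theorem exists_conj_defectIn_stabOf (hblk : ∀ H : Subgroup G, HasBlocks k H) (hB : IsBlockIdem ⊤ B)
    (ha : IsMax p B (P, e)) (hle : PLE p (Q, f) (P, e)) :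
    ∃ x : G, PLE p (conjPair x (Q, f)) (P, e) ∧
      DefectIn p (stabOf (Q.map (MulAut.conj x).toMonoidHom) (conjEl x f)) (conjEl x f)
        (P ⊓ Subgroup.normalizer ((Q.map (MulAut.conj x).toMonoidHom : Subgroup G) : Set G)) := by
  obtain ⟨D, hD, hRD⟩ := exists_defectIn_stabOf hblk ha.1.1 hle
  obtain ⟨g, x, hstep, hxD, hxQ⟩ := exists_conj_of_step hblk hB ha hle hD.1
    ((le_inf hle.le Subgroup.le_normalizer).trans hRD) hD.2.1 hD.2.2.1
  refine ⟨x, hxQ, ?_⟩
  have hD' := hD.conj x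
  rw [map_conj_stabOf] at hD'
  refine hD'.of_card_le (stabOf_fixes _ _) (ha.1.1.1.to_le inf_le_left)
    (inf_normalizer_le_stabOf hblk ha.1.1 hxQ) (br_inf_normalizer_ne_zero hblk ha.1.1 hxQ)
    (Subgroup.card_le_of_le (le_inf hxD.le ?_))
  exact hD'.2.1.trans (stabOf_le _ _)

/-- After a suitable conjugation, `C_P(Q)` is a defect group of `f` in `C(Q)`. -/
theorem exists_conj_defectIn_centralizer (hblk : ∀ H : Subgroup G, HasBlocks k H) (hB : IsBlockIdem ⊤ B)
    (ha : IsMax p B (P, e)) (hle : PLE p (Q, f) (P, e)) :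
    ∃ x : G, PLE p (conjPair x (Q, f)) (P, e) ∧
      DefectIn p (Subgroup.centralizer ((Q.map (MulAut.conj x).toMonoidHom : Subgroup G) : Set G))
        (conjEl x f)
        (P ⊓ Subgroup.centralizer ((Q.map (MulAut.conj x).toMonoidHom : Subgroup G) : Set G)) := by
  have hQf := hle.isPair_left ha.1.1
  obtain ⟨D, hD, -⟩ := exists_defectIn_centralizer hblk ha.1.1 hle
  have hsup : IsPGroup p (Q ⊔ D : Subgroup G) :=
    hQf.1.to_sup_of_normal_left' hD.1 (hD.2.1.trans (Subgroup.centralizer_le_normalizer _))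
  obtain ⟨g, x, hstep, hxD, hxQ⟩ := exists_conj_of_step hblk hB ha hle hsup le_sup_left
    (sup_le (self_le_stabOf hQf.2) (hD.2.1.trans (centralizer_le_stabOf hQf.2)))
    (by rw [br_sup_eq D hQf.2.mem.1]; exact hD.2.2.1)
  refine ⟨x, hxQ, ?_⟩
  have hD' := hD.conj x
  rw [map_conj_centralizer] at hD'
  refine hD'.of_card_le ((hxQ.isPair_left ha.1.1).2.mem.2) (ha.1.1.1.to_le inf_le_left) inf_le_right
    (br_inf_centralizer_ne_zero hblk ha.1.1 hxQ) (Subgroup.card_le_of_le (le_inf ?_ hD'.2.1))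
  exact (Subgroup.map_mono le_sup_right).trans hxD.le

/-- If `N_P(Q)` is a defect group of `f` in its stabiliser, `C_P(Q)` is one in `C(Q)`. -/
theorem defectIn_centralizer_of_stabOf (hblk : ∀ H : Subgroup G, HasBlocks k H) (ha : IsPair p (P, e))
    (hle : PLE p (Q, f) (P, e))
    (h : DefectIn p (stabOf Q f) f (P ⊓ Subgroup.normalizer (Q : Set G))) :
    DefectIn p (Subgroup.centralizer (Q : Set G)) f (P ⊓ Subgroup.centralizer (Q : Set G)) := by
  have hQf := hle.isPair_left ha
  obtain ⟨D, hD, hCD⟩ := exists_defectIn_centralizer hblk ha hle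
  refine hD.of_card_le hQf.2.mem.2 (ha.1.to_le inf_le_left) inf_le_right
    (br_inf_centralizer_ne_zero hblk ha hle) ?_
  obtain ⟨t, ht, htD⟩ := h.2.2.2 D hD.1 (hD.2.1.trans (centralizer_le_stabOf hQf.2)) hD.2.2.1
  rw [← card_map_conj t D]
  refine Subgroup.card_le_of_le (le_inf (htD.trans inf_le_left) ((Subgroup.map_mono hD.2.1).trans ?_))
  rw [map_conj_centralizer, map_conj_eq_of_mem_normalizer ht.1]

end Below

end Cfsg.Agent.BrauerPairs
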