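import Mathlib.Algebra.MonoidAlgebra.Basic
import Mathlib.GroupTheory.PGroup
import Mathlib.GroupTheory.Sylow
import Mathlib.GroupTheory.GroupAction.ConjAct
import Mathlib.GroupTheory.Subgroup.Centralizer
import Mathlib.Algebra.CharP.Invertible
import Mathlib.Algebra.Algebra.Subalgebra.Basic

/-!
# The Brauer map on a group algebra in characteristic `p`

* `conjEl g`: conjugation by `g` as an algebra automorphism of `k[G]`.
* `fixedBy H`: the subalgebra of elements fixed by conjugation by `H`.
* `trunc S`, `br P = trunc (centralizer P)`: the Brauer map; multiplicative on `fixedBy P` (`br_mul`),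
  `brHom` as an algebra map, transitivity `br_br`.
* `relTr Q H`: the relative trace on `fixedBy Q`; `br_relTr` (compatibility with `br`).
* `exists_relTr_eq`: an `H`-fixed element supported on `C(P)` that is killed by `br R` for all
  `p`-subgroups `R` with `P < R ≤ H` is a relative trace from `P`.
-/

set_option autoImplicit false

open MonoidAlgebra
open scoped Classical
set_option linter.unusedSectionVars false

namespace Cfsg.Agent.BrauerPairs

variable {k : Type*} [CommRing k] {G : Type*} [Group G]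

/-! ### Sums over `p`-group actions -/

/-- In characteristic `p`, the sum of an invariant function over a set with an action of a `p`-group
is the sum over the fixed points. -/
theorem sum_eq_sum_fixed {p : ℕ} [Fact p.Prime] [CharP k p] {P : Type*} [Group P] (hP : IsPGroup p P)
    {X : Type*} [Fintype X] [MulAction P X] (f : X → k) (hf : ∀ (u : P) (x : X), f (u • x) = f x) :
    ∑ x, f x = ∑ x, if x ∈ MulAction.fixedPoints P X then f x else 0 := by
  rw [← Finset.sum_fiberwise Finset.univ (fun x => (Quotient.mk (MulAction.orbitRel P X) x)) f,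
    ← Finset.sum_fiberwise Finset.univ (fun x => (Quotient.mk (MulAction.orbitRel P X) x))
      (fun x => if x ∈ MulAction.fixedPoints P X then f x else 0)]
  refine Finset.sum_congr rfl fun q _ => ?_
  induction q using Quotient.inductionOn with
  | h x =>
    set S := Finset.univ.filter fun y => Quotient.mk (MulAction.orbitRel P X) y =
      Quotient.mk (MulAction.orbitRel P X) x with hS
    have hmem : ∀ y, y ∈ S ↔ y ∈ MulAction.orbit P x := by
      intro y
      simp only [hS, Finset.mem_filter, Finset.mem_univ, true_and, Quotient.eq]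
      exact MulAction.orbitRel_apply
    by_cases hx : x ∈ MulAction.fixedPoints P X
    · refine Finset.sum_congr rfl fun y hy => ?_
      obtain ⟨u, rfl⟩ := (hmem y).1 hy
      have hux : u • x = x := hx u
      simp [hux, hx]
    · have h0 : ∀ y ∈ S, y ∉ MulAction.fixedPoints P X := by
        intro y hy hfix
        obtain ⟨u, rfl⟩ := (hmem y).1 hy
        apply hx
        intro v
        have h1 := hfix u⁻¹
        rw [inv_smul_smul] at h1
        rw [h1]
        exact hfix v
      rw [Finset.sum_congr rfl (g := fun _ => f x) (fun y hy => ?_),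
        Finset.sum_congr rfl (g := fun _ => (0 : k)) (fun y hy => if_neg (h0 y hy))]
      swap
      · obtain ⟨u, rfl⟩ := (hmem y).1 hy
        exact hf u x
      rw [Finset.sum_const, Finset.sum_const_zero, nsmul_eq_mul]
      obtain ⟨n, hn⟩ := hP.card_orbit x
      have hcard : S.card = p ^ n := by
        rw [← hn, ← Nat.card_eq_finsetCard]
        exact Nat.card_congr (Equiv.subtypeEquivRight hmem)
      have hn0 : n ≠ 0 := by
        rintro rfl
        apply hx
        rw [MulAction.mem_fixedPoints_iff_card_orbit_eq_one, ← Nat.card_eq_fintype_card]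
        simpa using hn
      rw [hcard, Nat.cast_pow, CharP.cast_eq_zero k p, zero_pow hn0, zero_mul]

/-! ### Conjugation and fixed elements -/

/-- Conjugation by `g` on the group algebra. -/
noncomputable def conjEl (g : G) : k[G] ≃ₐ[k] k[G] := domCongr k k (MulAut.conj g)

theorem coeff_conjEl (g : G) (a : k[G]) (x : G) : (conjEl g a).coeff x = a.coeff (g⁻¹ * x * g) := by
  simp [conjEl]

theorem conjEl_one (a : k[G]) : conjEl (1 : G) a = a := by
  ext x; simp [coeff_conjEl]

theorem conjEl_mul (g h : G) (a : k[G]) : conjEl (g * h) a = conjEl g (conjEl h a) := by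
  ext x; simp [coeff_conjEl, mul_assoc]

theorem conjEl_inv_conjEl (g : G) (a : k[G]) : conjEl g⁻¹ (conjEl g a) = a := by
  rw [← conjEl_mul, inv_mul_cancel, conjEl_one]

/-- The elements of `k[G]` fixed under conjugation by `H`. -/
noncomputable def fixedBy (k : Type*) [CommRing k] {G : Type*} [Group G] (H : Subgroup G) :
    Subalgebra k k[G] where
  carrier := {a | ∀ h ∈ H, conjEl h a = a}
  mul_mem' ha hb h hh := by rw [map_mul, ha h hh, hb h hh]
  one_mem' h _ := map_one _
  add_mem' ha hb h hh := by rw [map_add, ha h hh, hb h hh]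
  zero_mem' h _ := map_zero _
  algebraMap_mem' r h _ := AlgEquiv.commutes _ r

theorem mem_fixedBy {H : Subgroup G} {a : k[G]} : a ∈ fixedBy k H ↔ ∀ h ∈ H, conjEl h a = a :=
  Iff.rfl

theorem mem_fixedBy_iff_coeff {H : Subgroup G} {a : k[G]} :
    a ∈ fixedBy k H ↔ ∀ h ∈ H, ∀ x : G, a.coeff (h * x * h⁻¹) = a.coeff x := by
  constructor
  · intro ha h hh x
    conv_lhs => rw [← ha h hh]
    rw [coeff_conjEl]
    simp [mul_assoc]
  · intro ha h hh
    ext x
    rw [coeff_conjEl]
    simpa using ha h⁻¹ (inv_mem hh) x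

theorem fixedBy_anti {H K : Subgroup G} (h : H ≤ K) : fixedBy k K ≤ fixedBy k H :=
  fun _ ha x hx => ha x (h hx)

theorem mem_fixedBy_top_iff {a : k[G]} : a ∈ fixedBy k (⊤ : Subgroup G) ↔ a ∈ Subalgebra.center k k[G] := by
  rw [Subalgebra.mem_center_iff]
  have key : ∀ (g : G) (r : k) (b : k[G]), conjEl g b = b → single g r * b = b * single g r := by
    intro g r b hb
    ext x
    rw [coeff_single_mul_apply, coeff_mul_single_apply, mul_comm]
    congr 1
    conv_rhs => rw [← hb]
    rw [coeff_conjEl]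
    simp [mul_assoc]
  constructor
  · intro ha b
    induction b using MonoidAlgebra.induction_linear with
    | zero => simp
    | add x y hx hy => rw [add_mul, mul_add, hx, hy]
    | single g r => exact key g r a (ha g (Subgroup.mem_top g))
  · intro ha g _
    ext x
    rw [coeff_conjEl]
    have h := congrArg (fun b : k[G] => b.coeff (x * g)) (ha (single g 1))
    simp only [coeff_single_mul_apply, coeff_mul_single_apply, one_mul, mul_one] at h
    simpa [mul_assoc] using h

/-! ### Truncation and the Brauer map -/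

/-- Keep the coefficients at the elements of `S`. -/
noncomputable def trunc (S : Set G) : k[G] →ₗ[k] k[G] where
  toFun a := ofCoeff (a.coeff.filter (· ∈ S))
  map_add' a b := by ext x; simp [Finsupp.filter_apply]
  map_smul' r a := by ext x; simp [Finsupp.filter_apply]

theorem coeff_trunc (S : Set G) (a : k[G]) (x : G) :
    (trunc S a).coeff x = if x ∈ S then a.coeff x else 0 := by
  simp [trunc, Finsupp.filter_apply]

/-- The Brauer map at `P`: truncation to the centraliser of `P`. -/
noncomputable def br (P : Subgroup G) : k[G] →ₗ[k] k[G] := trunc (Subgroup.centralizer (P : Set G) : Set G)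

theorem coeff_br (P : Subgroup G) (a : k[G]) (x : G) :
    (br P a).coeff x = if x ∈ Subgroup.centralizer (P : Set G) then a.coeff x else 0 :=
  coeff_trunc _ _ _

theorem coeff_br_of_mem {P : Subgroup G} (a : k[G]) {x : G}
    (hx : x ∈ Subgroup.centralizer (P : Set G)) : (br P a).coeff x = a.coeff x := by
  rw [coeff_br, if_pos hx]

theorem coeff_br_of_notMem {P : Subgroup G} (a : k[G]) {x : G}
    (hx : x ∉ Subgroup.centralizer (P : Set G)) : (br P a).coeff x = 0 := by
  rw [coeff_br, if_neg hx]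

theorem br_one (P : Subgroup G) : br P (1 : k[G]) = 1 := by
  ext x
  rw [coeff_br]
  split_ifs with h
  · rfl
  · rw [one_def, coeff_single, Finsupp.single_apply, if_neg]
    rintro rfl
    exact h (one_mem _)

theorem br_eq_self {P : Subgroup G} {a : k[G]}
    (ha : ∀ x, x ∉ Subgroup.centralizer (P : Set G) → a.coeff x = 0) : br P a = a := by
  ext x
  rw [coeff_br]
  split_ifs with h
  · rfl
  · exact (ha x h).symm

theorem br_br_self (P : Subgroup G) (a : k[G]) : br P (br P a) = br P a :=
  br_eq_self fun _ hx => coeff_br_of_notMem a hx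

/-- Transitivity: for `Q ≤ P`, `Br_P ∘ Br_Q = Br_P`. -/
theorem br_br {P Q : Subgroup G} (h : Q ≤ P) (a : k[G]) : br P (br Q a) = br P a := by
  ext x
  simp only [coeff_br]
  split_ifs with h1 h2
  · rfl
  · exact absurd (Subgroup.centralizer_le h h1) h2
  · rfl

theorem conjEl_br (g : G) {P : Subgroup G} (a : k[G]) :
    conjEl g (br P a) = br (P.map (MulAut.conj g).toMonoidHom) (conjEl g a) := by
  ext x
  rw [coeff_conjEl, coeff_br, coeff_br, coeff_conjEl]
  refine if_congr ?_ rfl rfl
  simp only [Subgroup.mem_centralizer_iff, Subgroup.coe_map, Set.forall_mem_image, MulEquiv.coe_toMonoidHom,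
    MulAut.conj_apply]
  refine forall₂_congr fun u _ => ?_
  constructor <;> intro h
  · calc g * u * g⁻¹ * x = g * (u * (g⁻¹ * x * g)) * g⁻¹ := by group
      _ = g * ((g⁻¹ * x * g) * u) * g⁻¹ := by rw [h]
      _ = x * (g * u * g⁻¹) := by group
  · calc u * (g⁻¹ * x * g) = g⁻¹ * (g * u * g⁻¹ * x) * g := by group
      _ = g⁻¹ * (x * (g * u * g⁻¹)) * g := by rw [h]
      _ = (g⁻¹ * x * g) * u := by group

theorem map_conj_eq_of_mem_normalizer {P : Subgroup G} {g : G} (hg : g ∈ Subgroup.normalizer (P : Set G)) :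
    P.map (MulAut.conj g).toMonoidHom = P := by
  ext y
  rw [Subgroup.mem_map_equiv]
  simpa [mul_assoc] using ((Subgroup.mem_normalizer_iff''.1 hg) y).symm

theorem mem_normalizer_of_conj_le [Finite G] {P : Subgroup G} {g : G} (h : ∀ u ∈ P, g * u * g⁻¹ ∈ P) :
    g ∈ Subgroup.normalizer (P : Set G) := by
  have he : P.map (MulAut.conj g).toMonoidHom = P := by
    apply Subgroup.eq_of_le_of_card_ge
    · rintro _ ⟨u, hu, rfl⟩
      exact h u hu
    · rw [Nat.card_congr (P.equivMapOfInjective (MulAut.conj g).toMonoidHom (MulAut.conj g).injective).toEquiv]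
  rw [Subgroup.mem_normalizer_iff]
  intro y
  conv_rhs => rw [← he]
  exact (Subgroup.mem_map_iff_mem (MulAut.conj g).injective).symm

/-- `Br_P` of an element fixed by `H` is fixed by the part of `H` normalising `P`. -/
theorem br_mem_fixedBy {H K P : Subgroup G} {a : k[G]} (ha : a ∈ fixedBy k H) (hK : K ≤ H)
    (hKP : K ≤ Subgroup.normalizer (P : Set G)) : br P a ∈ fixedBy k K := by
  intro g hg
  rw [conjEl_br, map_conj_eq_of_mem_normalizer (hKP hg), ha g (hK hg)]

variable [Finite G]

/-- The Brauer map is multiplicative on the elements fixed by the `p`-group `P`. -/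
theorem br_mul {p : ℕ} [Fact p.Prime] [CharP k p] {P : Subgroup G} (hP : IsPGroup p P) {a b : k[G]}
    (ha : a ∈ fixedBy k P) (hb : b ∈ fixedBy k P) : br P (a * b) = br P a * br P b := by
  have := Fintype.ofFinite G
  set C := Subgroup.centralizer (P : Set G) with hC
  have expand : ∀ (u v : k[G]) (c : G), (u * v).coeff c = ∑ x, u.coeff x * v.coeff (x⁻¹ * c) := by
    intro u v c
    rw [coeff_mul_apply_left]
    exact Finsupp.sum_fintype _ _ fun _ => zero_mul _
  ext c
  rw [coeff_br, expand, expand]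
  split_ifs with hc
  · let P' : Subgroup (ConjAct G) := P.map (ConjAct.toConjAct : G ≃* ConjAct G).toMonoidHom
    have hP' : IsPGroup p P' := hP.map _
    have hfix' : ∀ x : G, x ∈ MulAction.fixedPoints P' G ↔ x ∈ C := by
      intro x
      rw [MulAction.mem_fixedPoints, hC, Subgroup.mem_centralizer_iff]
      constructor
      · intro h u hu
        have h1 := h ⟨ConjAct.toConjAct u, Subgroup.mem_map_of_mem _ hu⟩
        simp only [Subgroup.smul_def, ConjAct.toConjAct_smul] at h1
        exact mul_inv_eq_iff_eq_mul.1 h1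
      · rintro h ⟨w, hw⟩
        obtain ⟨u, hu, rfl⟩ := Subgroup.mem_map.1 hw
        simp only [Subgroup.smul_def, MulEquiv.coe_toMonoidHom, ConjAct.toConjAct_smul]
        exact mul_inv_eq_iff_eq_mul.2 (h u hu)
    rw [sum_eq_sum_fixed hP' (fun x => a.coeff x * b.coeff (x⁻¹ * c))]
    · refine Finset.sum_congr rfl fun x _ => ?_
      rw [coeff_br, coeff_br]
      simp only [hfix']
      by_cases hx : x ∈ C
      · rw [if_pos hx, if_pos hx, if_pos (mul_mem (inv_mem hx) hc)]
      · rw [if_neg hx, if_neg hx, zero_mul]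
    · rintro ⟨w, hw⟩ x
      obtain ⟨u, hu, rfl⟩ := Subgroup.mem_map.1 hw
      simp only [Subgroup.smul_def, MulEquiv.coe_toMonoidHom, ConjAct.toConjAct_smul]
      rw [mem_fixedBy_iff_coeff.1 ha u hu x]
      have e : (u * x * u⁻¹)⁻¹ * c = u * (x⁻¹ * c) * u⁻¹ := by
        rw [mul_inv_rev, mul_inv_rev, inv_inv]
        simp only [mul_assoc]
        rw [← Subgroup.mem_centralizer_iff.1 hc u⁻¹ (inv_mem hu)]
      rw [e, mem_fixedBy_iff_coeff.1 hb u hu]
  · symm
    refine Finset.sum_eq_zero fun x _ => ?_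
    rw [coeff_br, coeff_br]
    by_cases hx : x ∈ C
    · rw [if_pos hx, if_neg, mul_zero]
      exact fun h => hc (by simpa using mul_mem hx h)
    · rw [if_neg hx, zero_mul]

/-- The Brauer map as an algebra homomorphism on the `P`-fixed subalgebra. -/
noncomputable def brHom {p : ℕ} [Fact p.Prime] [CharP k p] {P : Subgroup G} (hP : IsPGroup p P) :
    fixedBy k P →ₐ[k] k[G] :=
  AlgHom.ofLinearMap ((br P).comp (fixedBy k P).val.toLinearMap) (br_one P)
    fun a b => br_mul hP a.2 b.2

/-- The augmentation of a `P`-fixed element is that of its Brauer image. -/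
theorem sum_coeff_br {p : ℕ} [Fact p.Prime] [CharP k p] [Fintype G] {P : Subgroup G} (hP : IsPGroup p P)
    {a : k[G]} (ha : a ∈ fixedBy k P) : ∑ x, (br P a).coeff x = ∑ x, a.coeff x := by
  let P' : Subgroup (ConjAct G) := P.map (ConjAct.toConjAct : G ≃* ConjAct G).toMonoidHom
  rw [sum_eq_sum_fixed (hP.map _ : IsPGroup p P') (fun x => a.coeff x)]
  · refine Finset.sum_congr rfl fun x _ => ?_
    rw [coeff_br]
    refine if_congr ?_ rfl rfl
    rw [MulAction.mem_fixedPoints, Subgroup.mem_centralizer_iff]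
    constructor
    · rintro h ⟨w, hw⟩
      obtain ⟨u, hu, rfl⟩ := Subgroup.mem_map.1 hw
      simp only [Subgroup.smul_def, MulEquiv.coe_toMonoidHom, ConjAct.toConjAct_smul]
      exact mul_inv_eq_iff_eq_mul.2 (h u hu)
    · intro h u hu
      have h1 := h ⟨ConjAct.toConjAct u, Subgroup.mem_map_of_mem _ hu⟩
      simp only [Subgroup.smul_def, ConjAct.toConjAct_smul] at h1
      exact mul_inv_eq_iff_eq_mul.1 h1
  · rintro ⟨w, hw⟩ x
    obtain ⟨u, hu, rfl⟩ := Subgroup.mem_map.1 hw
    simp only [Subgroup.smul_def, MulEquiv.coe_toMonoidHom, ConjAct.toConjAct_smul]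
    exact mem_fixedBy_iff_coeff.1 ha u hu x

/-! ### Relative trace -/

/-- The relative trace from `Q` to `H`: the sum of the conjugates of `a` by representatives of the
cosets of `Q` in `H`. Independent of the representatives when `a` is fixed by `Q`. -/
noncomputable def relTr (Q H : Subgroup G) (a : k[G]) : k[G] :=
  letI := Fintype.ofFinite (H ⧸ Q.subgroupOf H)
  ∑ q : H ⧸ Q.subgroupOf H, conjEl ((q.out : H) : G) a

theorem conjEl_eq_of_quotient_eq {Q H : Subgroup G} {a : k[G]} (ha : a ∈ fixedBy k Q) {h h' : H}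
    (e : (h : H ⧸ Q.subgroupOf H) = h') : conjEl (h : G) a = conjEl (h' : G) a := by
  rw [QuotientGroup.eq, Subgroup.mem_subgroupOf] at e
  conv_lhs => rw [← ha _ e]
  rw [← conjEl_mul]
  simp

theorem coset_smul_eq {Q H : Subgroup G} (h : H) (q : H ⧸ Q.subgroupOf H) :
    h • q = ((h * q.out : H) : H ⧸ Q.subgroupOf H) := by
  conv_lhs => rw [← QuotientGroup.out_eq' q]
  rfl

theorem relTr_mem_fixedBy {Q H : Subgroup G} {a : k[G]} (ha : a ∈ fixedBy k Q) :
    relTr Q H a ∈ fixedBy k H := by
  letI := Fintype.ofFinite (H ⧸ Q.subgroupOf H)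
  intro h hh
  rw [relTr, map_sum]
  refine Fintype.sum_equiv (MulAction.toPerm (⟨h, hh⟩ : H)) _ _ fun q => ?_
  have e : (((⟨h, hh⟩ : H) * q.out : H) : H ⧸ Q.subgroupOf H) =
      ((((⟨h, hh⟩ : H) • q).out : H) : H ⧸ Q.subgroupOf H) := by
    rw [QuotientGroup.out_eq', coset_smul_eq]
  have h1 := conjEl_eq_of_quotient_eq ha e
  rw [← conjEl_mul]
  simpa using h1

/-- An `H`-fixed factor can be moved inside the relative trace. -/
theorem relTr_mul {Q H : Subgroup G} (a : k[G]) {z : k[G]} (hz : z ∈ fixedBy k H) :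
    relTr Q H a * z = relTr Q H (a * z) := by
  rw [relTr, relTr, Finset.sum_mul]
  refine Finset.sum_congr rfl fun q _ => ?_
  rw [map_mul, hz _ (q.out : H).2]

theorem mul_relTr {Q H : Subgroup G} (a : k[G]) {z : k[G]} (hz : z ∈ fixedBy k H) :
    z * relTr Q H a = relTr Q H (z * a) := by
  rw [relTr, relTr, Finset.mul_sum]
  refine Finset.sum_congr rfl fun q _ => ?_
  rw [map_mul, hz _ (q.out : H).2]

/-- The Brauer map at `R ≤ H` of a relative trace from `Q`: the cosets `hQ` with `R ≤ hQh⁻¹`. -/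
theorem br_relTr {p : ℕ} [Fact p.Prime] [CharP k p] {Q H R : Subgroup G} (hR : IsPGroup p R)
    (hRH : R ≤ H) {a : k[G]} (ha : a ∈ fixedBy k Q) [Fintype (H ⧸ Q.subgroupOf H)] :
    br R (relTr Q H a) = ∑ q : H ⧸ Q.subgroupOf H,
      if ∀ u ∈ R, ((q.out : H) : G)⁻¹ * u * ((q.out : H) : G) ∈ Q
        then br R (conjEl ((q.out : H) : G) a) else 0 := by
  ext c
  have hsum : (br R (relTr Q H a)).coeff c =
      ∑ q : H ⧸ Q.subgroupOf H, (br R (conjEl ((q.out : H) : G) a)).coeff c := by
    rw [relTr, map_sum, coeff_sum, Finsupp.finsetSum_apply]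
    refine Finset.sum_congr (Finset.ext fun _ => by simp) fun _ _ => rfl
  rw [hsum, coeff_sum, Finsupp.finsetSum_apply]
  rw [sum_eq_sum_fixed (P := R.subgroupOf H) (hR.of_equiv (Subgroup.subgroupOfEquivOfLe hRH).symm)]
  · refine Finset.sum_congr rfl fun q _ => ?_
    have hiff : q ∈ MulAction.fixedPoints (R.subgroupOf H) (H ⧸ Q.subgroupOf H) ↔
        ∀ u ∈ R, ((q.out : H) : G)⁻¹ * u * ((q.out : H) : G) ∈ Q := by
      rw [MulAction.mem_fixedPoints]
      constructor
      · intro h u hu
        have h1 := h ⟨⟨u, hRH hu⟩, hu⟩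
        conv_rhs at h1 => rw [← QuotientGroup.out_eq' q]
        conv_lhs at h1 => rw [← QuotientGroup.out_eq' q]
        have h2 : ((⟨u, hRH hu⟩ * q.out : H) : H ⧸ Q.subgroupOf H) = (q.out : H) := h1
        rw [eq_comm, QuotientGroup.eq, Subgroup.mem_subgroupOf] at h2
        simpa [mul_assoc] using h2
      · rintro h ⟨⟨u, huH⟩, hu⟩
        conv_rhs => rw [← QuotientGroup.out_eq' q]
        conv_lhs => rw [← QuotientGroup.out_eq' q]
        show ((⟨u, huH⟩ * q.out : H) : H ⧸ Q.subgroupOf H) = (q.out : H)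
        rw [eq_comm, QuotientGroup.eq, Subgroup.mem_subgroupOf]
        simpa [mul_assoc] using h u hu
    by_cases h : q ∈ MulAction.fixedPoints (R.subgroupOf H) (H ⧸ Q.subgroupOf H)
    · rw [if_pos h, if_pos (hiff.1 h)]
    · rw [if_neg h, if_neg (mt hiff.2 h)]
      rfl
  · rintro ⟨⟨u, huH⟩, hu⟩ q
    have e : ((((⟨⟨u, huH⟩, hu⟩ : R.subgroupOf H) • q).out : H) : H ⧸ Q.subgroupOf H) =
        ((⟨u, huH⟩ * q.out : H) : H ⧸ Q.subgroupOf H) := by
      rw [QuotientGroup.out_eq']
      exact coset_smul_eq (⟨u, huH⟩ : H) q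
    rw [conjEl_eq_of_quotient_eq ha e]
    show (br R (conjEl (u * ((q.out : H) : G)) a)).coeff c = _
    rw [conjEl_mul, coeff_br, coeff_br, coeff_conjEl]
    split_ifs with hc
    · congr 1
      rw [mul_assoc, ← Subgroup.mem_centralizer_iff.1 hc u hu]
      simp
    · rfl

/-- If `R` is not conjugate in `H` into `Q`, then `Br_R` kills relative traces from `Q`. -/
theorem br_relTr_eq_zero {p : ℕ} [Fact p.Prime] [CharP k p] {Q H R : Subgroup G} (hR : IsPGroup p R)
    (hRH : R ≤ H) {a : k[G]} (ha : a ∈ fixedBy k Q)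
    (h : ∀ g ∈ H, ¬ ∀ u ∈ R, g⁻¹ * u * g ∈ Q) : br R (relTr Q H a) = 0 := by
  letI := Fintype.ofFinite (H ⧸ Q.subgroupOf H)
  rw [br_relTr hR hRH ha]
  exact Finset.sum_eq_zero fun q _ => if_neg (h _ (q.out : H).2)

/-- `Br_P ∘ Tr_P^H = Tr_P^{N_H(P)} ∘ Br_P`. -/
theorem br_relTr_self {p : ℕ} [Fact p.Prime] [CharP k p] {P H : Subgroup G} (hP : IsPGroup p P)
    (hPH : P ≤ H) {a : k[G]} (ha : a ∈ fixedBy k P) :
    br P (relTr P H a) = relTr P (H ⊓ Subgroup.normalizer (P : Set G)) (br P a) := by
  set N : Subgroup G := H ⊓ Subgroup.normalizer (P : Set G) with hN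
  letI := Fintype.ofFinite (H ⧸ P.subgroupOf H)
  letI := Fintype.ofFinite (N ⧸ P.subgroupOf N)
  rw [br_relTr hP hPH ha, ← Finset.sum_filter]
  have hbra : br P a ∈ fixedBy k P := br_mem_fixedBy ha le_rfl Subgroup.le_normalizer
  have hnorm : ∀ g : G, (∀ u ∈ P, g⁻¹ * u * g ∈ P) ↔ g ∈ Subgroup.normalizer (P : Set G) := by
    intro g
    constructor
    · intro h
      rw [← inv_mem_iff (H := Subgroup.normalizer (P : Set G))]
      exact mem_normalizer_of_conj_le fun u hu => by simpa using h u hu
    · intro hg u hu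
      exact (Subgroup.mem_normalizer_iff''.1 hg u).1 hu
  let φ : N ⧸ P.subgroupOf N → H ⧸ P.subgroupOf H :=
    fun q => ((⟨((q.out : N) : G), (q.out : N).2.1⟩ : H) : H ⧸ P.subgroupOf H)
  have hout : ∀ h : H, ∃ u ∈ P, (((h : H ⧸ P.subgroupOf H).out : H) : G) = h * u := by
    intro h
    have e : ((((h : H ⧸ P.subgroupOf H).out : H)) : H ⧸ P.subgroupOf H) = (h : H ⧸ P.subgroupOf H) :=
      QuotientGroup.out_eq' _
    rw [eq_comm, QuotientGroup.eq, Subgroup.mem_subgroupOf] at e
    exact ⟨_, e, by simp⟩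
  symm
  rw [relTr]
  refine Finset.sum_bij (fun q _ => φ q) (fun q _ => ?_) (fun q₁ _ q₂ _ e => ?_) (fun r hr => ?_)
    (fun q _ => ?_)
  · simp only [Finset.mem_filter, Finset.mem_univ, true_and, hnorm]
    obtain ⟨u, hu, e⟩ := hout ⟨((q.out : N) : G), (q.out : N).2.1⟩
    rw [e]
    exact mul_mem (q.out : N).2.2 (Subgroup.le_normalizer hu)
  · simp only [φ, QuotientGroup.eq, Subgroup.mem_subgroupOf] at e
    rw [← QuotientGroup.out_eq' q₁, ← QuotientGroup.out_eq' q₂]
    show ((q₁.out : N) : N ⧸ P.subgroupOf N) = ((q₂.out : N) : N ⧸ P.subgroupOf N)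
    rw [QuotientGroup.eq, Subgroup.mem_subgroupOf]
    simpa using e
  · simp only [Finset.mem_filter, Finset.mem_univ, true_and, hnorm] at hr
    refine ⟨((⟨((r.out : H) : G), (r.out : H).2, hr⟩ : N) : N ⧸ P.subgroupOf N), Finset.mem_univ _, ?_⟩
    conv_rhs => rw [← QuotientGroup.out_eq' r]
    simp only [φ]
    have e : (((((⟨((r.out : H) : G), (r.out : H).2, hr⟩ : N) : N ⧸ P.subgroupOf N)).out : N) :
        N ⧸ P.subgroupOf N) = ((⟨((r.out : H) : G), (r.out : H).2, hr⟩ : N) : N ⧸ P.subgroupOf N) :=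
      QuotientGroup.out_eq' _
    rw [QuotientGroup.eq, Subgroup.mem_subgroupOf] at e
    show ((_ : H) : H ⧸ P.subgroupOf H) = ((r.out : H) : H ⧸ P.subgroupOf H)
    rw [QuotientGroup.eq, Subgroup.mem_subgroupOf]
    simpa using e
  · obtain ⟨u, hu, e⟩ := hout ⟨((q.out : N) : G), (q.out : N).2.1⟩
    rw [e, conjEl_mul, ha u hu, conjEl_br, map_conj_eq_of_mem_normalizer (q.out : N).2.2]

/-- Trace criterion: an `H`-fixed element supported on `C(P)` whose Brauer images at the
`p`-subgroups properly containing `P` (inside `H`) vanish is a relative trace from `P`. -/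
theorem exists_relTr_eq {p : ℕ} [Fact p.Prime] [CharP k p] {P H : Subgroup G} (hP : IsPGroup p P)
    (hPH : P ≤ H) {z : k[G]} (hz : z ∈ fixedBy k H)
    (hsupp : ∀ x, x ∉ Subgroup.centralizer (P : Set G) → z.coeff x = 0)
    (hR : ∀ R : Subgroup G, IsPGroup p R → P < R → R ≤ H → br R z = 0) :
    ∃ a : k[G], a ∈ fixedBy k P ∧ (∀ x, z.coeff x = 0 → a.coeff x = 0) ∧ relTr P H a = z := by
  have := Fintype.ofFinite G
  have hp : p.Prime := Fact.out
  letI := Fintype.ofFinite (H ⧸ P.subgroupOf H)
  -- the orbit setoid of conjugation by `H`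
  let s : Setoid G := MulAction.orbitRel (H.map (ConjAct.toConjAct : G ≃* ConjAct G).toMonoidHom) G
  have hs : ∀ x y : G, s.r x y ↔ ∃ h ∈ H, h * y * h⁻¹ = x := by
    intro x y
    show x ∈ MulAction.orbit _ y ↔ _
    constructor
    · rintro ⟨⟨w, hw⟩, rfl⟩
      obtain ⟨h, hh, rfl⟩ := Subgroup.mem_map.1 hw
      exact ⟨h, hh, (ConjAct.toConjAct_smul h y).symm⟩
    · rintro ⟨h, hh, rfl⟩
      exact ⟨⟨_, Subgroup.mem_map_of_mem _ hh⟩, ConjAct.toConjAct_smul h y⟩
  let rep : G → G := fun x => (Quotient.mk s x).out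
  have hrep : ∀ x, ∃ h ∈ H, h * x * h⁻¹ = rep x := fun x => (hs _ _).1 (Quotient.mk_out (s := s) x)
  let stab : G → Finset (H ⧸ P.subgroupOf H) := fun r => Finset.univ.filter fun q =>
    ((q.out : H) : G)⁻¹ * r * ((q.out : H) : G) = r
  -- if `z r ≠ 0` then `#stab r` is prime to `p`
  have hcard : ∀ r, z.coeff r ≠ 0 → IsUnit ((stab r).card : k) := by
    intro r hr
    rw [CharP.isUnit_natCast_iff hp]
    intro hdvd
    have hrC : r ∈ Subgroup.centralizer (P : Set G) := by
      by_contra h
      exact hr (hsupp r h)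
    set S : Subgroup G := H ⊓ Subgroup.centralizer ({r} : Set G) with hS
    have hPS : P ≤ S := le_inf hPH fun u hu => Subgroup.mem_centralizer_singleton_iff.2
      (Subgroup.mem_centralizer_iff.1 hrC u hu)
    have hidx : (stab r).card = (P.subgroupOf S).index := by
      rw [Subgroup.index_eq_card, ← Nat.card_eq_finsetCard]
      symm
      refine Nat.card_congr (Equiv.ofBijective (fun q => ⟨((⟨((q.out : S) : G), (q.out : S).2.1⟩ : H) :
          H ⧸ P.subgroupOf H), ?_⟩) ⟨?_, ?_⟩)
      · simp only [stab, Finset.mem_filter, Finset.mem_univ, true_and]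
        set h : H := ⟨((q.out : S) : G), (q.out : S).2.1⟩ with hh
        have e : ((((h : H ⧸ P.subgroupOf H).out : H)) : H ⧸ P.subgroupOf H) = (h : H ⧸ P.subgroupOf H) :=
          QuotientGroup.out_eq' _
        rw [eq_comm, QuotientGroup.eq, Subgroup.mem_subgroupOf] at e
        have hm : (((h : H ⧸ P.subgroupOf H).out : H) : G) ∈ Subgroup.centralizer ({r} : Set G) := by
          have h1 := mul_mem (q.out : S).2.2 (hPS e).2
          simpa [hh] using h1
        have h2 := Subgroup.mem_centralizer_singleton_iff.1 hm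
        rw [mul_assoc, ← h2, inv_mul_cancel_left]
      · intro q₁ q₂ e
        simp only [Subtype.mk.injEq, QuotientGroup.eq, Subgroup.mem_subgroupOf] at e
        rw [← QuotientGroup.out_eq' q₁, ← QuotientGroup.out_eq' q₂]
        show ((q₁.out : S) : S ⧸ P.subgroupOf S) = ((q₂.out : S) : S ⧸ P.subgroupOf S)
        rw [QuotientGroup.eq, Subgroup.mem_subgroupOf]
        simpa using e
      · rintro ⟨q, hq⟩
        simp only [stab, Finset.mem_filter, Finset.mem_univ, true_and] at hq
        have hqS : ((q.out : H) : G) ∈ S := by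
          refine ⟨(q.out : H).2, Subgroup.mem_centralizer_singleton_iff.2 ?_⟩
          calc ((q.out : H) : G) * r
              = ((q.out : H) : G) * (((q.out : H) : G)⁻¹ * r * ((q.out : H) : G)) := by rw [hq]
            _ = r * ((q.out : H) : G) := by group
        refine ⟨((⟨_, hqS⟩ : S) : S ⧸ P.subgroupOf S), Subtype.ext ?_⟩
        refine Eq.trans ?_ (QuotientGroup.out_eq' q)
        show ((_ : H) : H ⧸ P.subgroupOf H) = ((q.out : H) : H ⧸ P.subgroupOf H)
        have e : ((((⟨_, hqS⟩ : S) : S ⧸ P.subgroupOf S).out : S) : S ⧸ P.subgroupOf S) =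
            ((⟨_, hqS⟩ : S) : S ⧸ P.subgroupOf S) := QuotientGroup.out_eq' _
        rw [QuotientGroup.eq, Subgroup.mem_subgroupOf] at e ⊢
        simpa using e
    rw [hidx] at hdvd
    -- a Sylow subgroup of `S` above `P` is bigger than `P`
    obtain ⟨T, hT⟩ := (hP.of_equiv (Subgroup.subgroupOfEquivOfLe hPS).symm).exists_le_sylow
    have hTne : (T : Subgroup S) ≠ P.subgroupOf S := by
      intro e
      exact T.not_dvd_index (by rw [e]; exact hdvd)
    set R : Subgroup G := (T : Subgroup S).map S.subtype with hRdef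
    have hPR : P < R := by
      refine lt_of_le_of_ne ?_ ?_
      · intro u hu
        exact Subgroup.mem_map.2 ⟨⟨u, hPS hu⟩, hT hu, rfl⟩
      · intro e
        apply hTne
        rw [e]
        exact (Subgroup.comap_map_eq_self_of_injective S.subtype_injective _).symm
    have h0 := congrArg (fun b : k[G] => b.coeff r)
      (hR R (T.isPGroup'.map _) hPR ((Subgroup.map_subtype_le _).trans inf_le_left))
    rw [coeff_br_of_mem] at h0
    · exact hr (by simpa using h0)
    · rw [Subgroup.mem_centralizer_iff]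
      intro u hu
      obtain ⟨v, _, rfl⟩ := Subgroup.mem_map.1 hu
      exact Subgroup.mem_centralizer_singleton_iff.1 v.2.2
  let w : G → k := fun r => Ring.inverse ((stab r).card : k)
  let a : k[G] := ofCoeff (Finsupp.equivFunOnFinite.symm fun x => if rep x = x then z.coeff x * w x else 0)
  have hacoeff : ∀ x, a.coeff x = if rep x = x then z.coeff x * w x else 0 := fun x => rfl
  have hza : ∀ x, z.coeff x = 0 → a.coeff x = 0 := by
    intro x hx
    rw [hacoeff, hx, zero_mul, ite_self]
  have haP : a ∈ fixedBy k P := by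
    rw [mem_fixedBy_iff_coeff]
    intro u hu x
    by_cases hx : x ∈ Subgroup.centralizer (P : Set G)
    · rw [Subgroup.mem_centralizer_iff.1 hx u hu, mul_inv_cancel_right]
    · rw [hza x (hsupp x hx), hza]
      rw [mem_fixedBy_iff_coeff.1 hz u (hPH hu), hsupp x hx]
  refine ⟨a, haP, hza, ?_⟩
  ext x
  rw [relTr, coeff_sum, Finsupp.finsetSum_apply]
  obtain ⟨h₀, hh₀, hx₀⟩ := hrep x
  set r := rep x with hr_def
  have hrr : rep r = r := by
    show (Quotient.mk s r).out = r
    rw [hr_def]
    show (Quotient.mk s (Quotient.mk s x).out).out = (Quotient.mk s x).out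
    rw [Quotient.out_eq]
  have hzr : z.coeff r = z.coeff x := by rw [← hx₀, mem_fixedBy_iff_coeff.1 hz h₀ hh₀]
  have hterm : ∀ q : H ⧸ P.subgroupOf H, (conjEl ((q.out : H) : G) a).coeff x =
      if ((q.out : H) : G)⁻¹ * x * ((q.out : H) : G) = r then z.coeff r * w r else 0 := by
    intro q
    rw [coeff_conjEl, hacoeff]
    have hrepy : rep (((q.out : H) : G)⁻¹ * x * ((q.out : H) : G)) = r := by
      show (Quotient.mk s _).out = (Quotient.mk s x).out
      congr 1
      exact Quotient.sound ((hs _ _).2 ⟨((q.out : H) : G)⁻¹, inv_mem (q.out : H).2, by group⟩)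
    rw [hrepy]
    by_cases hy : ((q.out : H) : G)⁻¹ * x * ((q.out : H) : G) = r
    · rw [if_pos hy.symm, if_pos hy, hy]
    · rw [if_neg (fun e => hy e.symm), if_neg hy]
  rw [Finset.sum_congr rfl (fun q _ => hterm q), ← Finset.sum_filter, Finset.sum_const, nsmul_eq_mul,
    ← hzr]
  by_cases hz0 : z.coeff r = 0
  · simp [hz0]
  have hc : (Finset.univ.filter fun q : H ⧸ P.subgroupOf H =>
      ((q.out : H) : G)⁻¹ * x * ((q.out : H) : G) = r).card = (stab r).card := by
    refine Finset.card_equiv (MulAction.toPerm (⟨h₀, hh₀⟩ : H)) fun q => ?_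
    simp only [stab, Finset.mem_filter, Finset.mem_univ, true_and, MulAction.toPerm_apply]
    set q' := (⟨h₀, hh₀⟩ : H) • q with hq'
    have e : ((q'.out : H) : H ⧸ P.subgroupOf H) = ((⟨h₀, hh₀⟩ * q.out : H) : H ⧸ P.subgroupOf H) := by
      rw [QuotientGroup.out_eq', hq', coset_smul_eq]
    rw [eq_comm, QuotientGroup.eq, Subgroup.mem_subgroupOf] at e
    set u := (((⟨h₀, hh₀⟩ * q.out)⁻¹ * q'.out : H) : G) with hu_def
    have hq'u : ((q'.out : H) : G) = h₀ * ((q.out : H) : G) * u := by simp [hu_def, mul_assoc]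
    have hrC : r ∈ Subgroup.centralizer (P : Set G) := by
      by_contra h
      exact hz0 (hsupp r h)
    have hcomm : u * r = r * u := Subgroup.mem_centralizer_iff.1 hrC u e
    rw [hq'u, mul_inv_rev, mul_inv_rev]
    constructor
    · intro hy
      calc u⁻¹ * (((q.out : H) : G)⁻¹ * h₀⁻¹) * r * (h₀ * ((q.out : H) : G) * u)
          = u⁻¹ * (((q.out : H) : G)⁻¹ * (h₀⁻¹ * r * h₀) * ((q.out : H) : G)) * u := by group
        _ = u⁻¹ * (((q.out : H) : G)⁻¹ * x * ((q.out : H) : G)) * u := by
            congr 3; rw [← hx₀]; group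
        _ = u⁻¹ * r * u := by rw [hy]
        _ = r := by rw [mul_assoc, ← hcomm, inv_mul_cancel_left]
    · intro hy
      calc ((q.out : H) : G)⁻¹ * x * ((q.out : H) : G)
          = ((q.out : H) : G)⁻¹ * (h₀⁻¹ * r * h₀) * ((q.out : H) : G) := by
            congr 2; rw [← hx₀]; group
        _ = u * (u⁻¹ * (((q.out : H) : G)⁻¹ * h₀⁻¹) * r * (h₀ * ((q.out : H) : G) * u)) * u⁻¹ := by group
        _ = r := by rw [hy, hcomm, mul_inv_cancel_right]
  rw [hc, mul_left_comm, Ring.mul_inverse_cancel _ (hcard r hz0), mul_one]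

end Cfsg.Agent.BrauerPairs
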