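import Cfsg.Agent.Lib.BrauerPairs.LocalBridge

/-!
# The Brauer correspondence over a subgroup containing `N(P)`
-/

set_option autoImplicit false
set_option linter.unusedSectionVars false

open MonoidAlgebra
open scoped Classical

namespace Cfsg.Agent.BrauerPairs

universe u

variable {k : Type*} [Field k] {G : Type u} [Group G] [Finite G] {p : ℕ} [Fact p.Prime] [CharP k p]
  {H P : Subgroup G}

theorem le_sub_of_normalizer_le (hNH : Subgroup.normalizer (P : Set G) ≤ H) :
    P ≤ H ∧ Subgroup.centralizer (P : Set G) ≤ H :=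
  ⟨Subgroup.le_normalizer.trans hNH, (Subgroup.centralizer_le_normalizer _).trans hNH⟩

theorem br_mem_centerIn_sub (hCH : Subgroup.centralizer (P : Set G) ≤ H) {f : MonoidAlgebra k G}
    (hf : IsBlockIdem H f) : br P f ∈ centerIn k (Subgroup.centralizer (P : Set G)) := by
  have h := br_mem_centerIn (P := P) hf.mem
  rwa [inf_eq_right.2 hCH] at h

theorem br_idem_sub (hP : IsPGroup p P) (hPH : P ≤ H) {f : MonoidAlgebra k G} (hf : IsBlockIdem H f) :
    br P f * br P f = br P f := by
  rw [← br_mul hP (fixedBy_anti hPH hf.mem.2) (fixedBy_anti hPH hf.mem.2), hf.idem]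

theorem existsUnique_block_sub (hblk : ∀ L : Subgroup G, HasBlocks k L)
    (hNH : Subgroup.normalizer (P : Set G) ≤ H) {e : MonoidAlgebra k G} (he : IsPair p (P, e)) :
    ∃! f, IsBlockIdem H f ∧ br P f * e = e := by
  obtain ⟨hPH, hCH⟩ := le_sub_of_normalizer_le hNH
  obtain ⟨f, ⟨hf, -, hfe⟩, hu⟩ := existsUnique_fixed_block (p := p) (H := H) he.1
    (hPH.trans Subgroup.le_normalizer) (hblk H) (e := e) (by rw [inf_eq_right.2 hCH]; exact he.2)
  exact ⟨f, ⟨hf, hfe⟩, fun g hg => hu g ⟨hg.1, fixedBy_anti hPH hg.1.mem.2, hg.2⟩⟩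

/-- A pair that is maximal in `G` gives a defect group of its block of `H`. -/
theorem defectIn_of_max (hblk : ∀ L : Subgroup G, HasBlocks k L)
    (hNH : Subgroup.normalizer (P : Set G) ≤ H) {e f : MonoidAlgebra k G} (he : IsPair p (P, e))
    (hf : IsBlockIdem H f) (hfe : br P f * e = e) (hmax : ∀ b, Step p (P, e) b → b.1 = P) :
    DefectIn p H f P := by
  obtain ⟨hPH, hCH⟩ := le_sub_of_normalizer_le hNH
  obtain ⟨f₀, rfl⟩ := exists_incl_eq_of_supp hf.mem.1
  have hf₀ : IsBlockIdem (⊤ : Subgroup H) f₀ := (isBlockIdem_incl_iff ⊤ f₀).1 (by rwa [map_subtype_top])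
  obtain ⟨e₀, rfl⟩ := exists_incl_eq_of_supp (suppIn_mono hCH he.2.mem.1)
  have eP := Subgroup.map_subgroupOf_eq_of_le hPH
  have hpair : IsPairOf p f₀ (P.subgroupOf H, e₀) := by
    refine ⟨⟨he.1.of_equiv (Subgroup.subgroupOfEquivOfLe hPH).symm, ?_⟩, ?_⟩
    · have h : IsBlockIdem (Subgroup.centralizer (P : Set G)) (incl H k e₀) := he.2
      rw [← inf_eq_right.2 hCH, ← eP, ← map_centralizer_sub, isBlockIdem_incl_iff] at h
      exact h
    · rw [← eP, br_incl, ← map_mul] at hfe
      exact incl_injective H hfe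
  have hIsMax : IsMax p f₀ (P.subgroupOf H, e₀) := by
    refine ⟨hpair, fun b hb => Subgroup.map_injective H.subtype_injective ?_⟩
    have h1 := hb.of_incl (H := H) (by rw [eP]; exact hCH)
    rw [show inclPair (P.subgroupOf H, e₀) = (P, incl H k e₀) from Prod.ext eP rfl] at h1
    exact (hmax _ h1).trans eP.symm
  have h2 := (defectIn_incl_iff f₀ _).2 ((exists_isMax_iff (fun K : Subgroup H => hasBlocks_sub hblk K) hf₀ _).1 ⟨e₀, hIsMax⟩)
  rwa [eP] at h2

/-- Conversely, a defect pair of `H` is maximal in `G`. -/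
theorem max_of_defectIn (hNH : Subgroup.normalizer (P : Set G) ≤ H) {e f : MonoidAlgebra k G}
    (hf : IsBlockIdem H f) (hfe : br P f * e = e) (hD : DefectIn p H f P) {b : Subgroup G × MonoidAlgebra k G}
    (hb : Step p (P, e) b) : b.1 = P := by
  obtain ⟨hPH, -⟩ := le_sub_of_normalizer_le hNH
  obtain ⟨⟨hP, he⟩, hR, hPR, hRN, hfix, hbr⟩ := hb
  have hRH : b.1 ≤ H := hRN.trans hNH
  have h1 : br b.1 f * b.2 = b.2 := by
    conv_rhs => rw [← hbr, ← hfe]
    rw [br_mul hR.1 (br_mem_fixedBy hf.mem.2 hRH hRN) hfix, br_br hPR, mul_assoc, hbr]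
  refine (Subgroup.eq_of_le_of_card_ge hPR (hD.card_le hR.1 hRH fun h0 => ?_)).symm
  rw [h0, zero_mul] at h1
  exact hR.2.ne_zero h1.symm

/-- The Brauer images at `P` of corresponding blocks agree. -/
theorem br_eq_of_common_pair (hblk : ∀ L : Subgroup G, HasBlocks k L)
    (hNH : Subgroup.normalizer (P : Set G) ≤ H) {B e f : MonoidAlgebra k G} (hB : IsBlockIdem ⊤ B)
    (ha : IsMax p B (P, e)) (hf : IsBlockIdem H f) (hfe : br P f * e = e) : br P B = br P f := by
  obtain ⟨hPH, hCH⟩ := le_sub_of_normalizer_le hNH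
  have hD := defectIn_of_max hblk hNH ha.1.1 hf hfe ha.2
  have hzB : br P B ∈ centerIn k (Subgroup.centralizer (P : Set G)) := br_top_mem hB.mem
  have hzBB : br P B * br P B = br P B := by
    rw [← br_mul ha.1.1.1 (mem_fixedBy_of_top hB.mem _) (mem_fixedBy_of_top hB.mem _), hB.idem]
  have key : ∀ e' : MonoidAlgebra k G, IsBlockIdem (Subgroup.centralizer (P : Set G)) e' →
      br P B * e' = br P f * e' := by
    intro e' he'
    have horb : br P B * e' = e' ↔ br P f * e' = e' := by
      constructor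
      · intro h
        obtain ⟨g, hg⟩ := exists_conj_ple hblk hB ha (b := (P, e')) ⟨⟨ha.1.1.1, he'⟩, h⟩
        have hgP : P.map (MulAut.conj g).toMonoidHom = P :=
          Subgroup.eq_of_le_of_card_ge hg.le (card_map_conj g P).ge
        have hge : conjEl g e' = e := congrArg Prod.snd (hg.eq_of_fst_eq hgP)
        have hgN : g ∈ Subgroup.normalizer (P : Set G) :=
          mem_normalizer_of_conj_le fun u hu => hgP.le ⟨u, hu, rfl⟩
        apply (conjEl g).injective
        rw [map_mul, hge, conjEl_br, hgP, hf.mem.2 g (hNH hgN), hfe]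
      · intro h
        obtain ⟨g, hgH, hg⟩ := exists_conj_ple_sub hblk hf (a := (P, e)) (b := (P, e')) ha.1.1 hPH hCH hfe hD
          ⟨ha.1.1.1, he'⟩ hPH hCH h
        have hgP : P.map (MulAut.conj g).toMonoidHom = P :=
          Subgroup.eq_of_le_of_card_ge hg.le (card_map_conj g P).ge
        have hge : conjEl g e' = e := congrArg Prod.snd (hg.eq_of_fst_eq hgP)
        apply (conjEl g).injective
        rw [map_mul, hge, conjEl_br, hgP, conjEl_eq_self_of_top hB.mem, ha.1.2]
    rcases he'.mul_eq_zero_or_self hzB hzBB with h1 | h1 <;>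
      rcases he'.mul_eq_zero_or_self (br_mem_centerIn_sub hCH hf) (br_idem_sub ha.1.1.1 hPH hf) with h2 | h2
    · rw [h1, h2]
    · exact absurd ((horb.2 h2).symm.trans h1) he'.ne_zero
    · exact absurd ((horb.1 h1).symm.trans h2) he'.ne_zero
    · rw [h1, h2]
  obtain ⟨s, hs, h1⟩ := hblk (Subgroup.centralizer (P : Set G))
  rw [← mul_one (br P B), ← mul_one (br P f), ← h1, Finset.mul_sum, Finset.mul_sum]
  exact Finset.sum_congr rfl fun e' he' => key e' (hs e' he')

end Cfsg.Agent.BrauerPairs
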