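import Cfsg.Prelude.Def_BlockLocal
import Cfsg.Agent.Lib.BrauerPairs.Local
import Cfsg.Agent.Lib.BrauerPairs.Bridge
import Cfsg.Agent.Lib.BrauerPairs.LocalBridge

/-!
# Induced blocks inside a subgroup and pairs
-/

set_option autoImplicit false
set_option linter.unusedSectionVars false

open scoped Cfsg.Agent.Blocks

namespace Cfsg.Agent.BrauerPairs

universe u

variable {G : Type u} [Group G] [Finite G] {p : ℕ} [Fact p.Prime] {M : Ideal AlgInt} [M.IsMaximal]
  [CharP (AlgInt ⧸ M) p] {H P : Subgroup G}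

/-- A block of `H` whose Brauer image at `P` contains the block `c` of `C(P) ≤ H` is induced by `c`. -/
theorem isInducedBlockIn_of_br (hP : IsPGroup p P) (hPH : P ≤ H)
    (hC : Subgroup.centralizer (P : Set G) ≤ H)
    {c : Set (IrrCharacter (Subgroup.centralizer (P : Set G)))} (hc : IsPBlock M c)
    {f : Set (IrrCharacter H)} (hf : IsPBlock M f)
    (hbr : br P (blk M H f) * blk M _ c = blk M _ c) :
    IsInducedBlockIn M H (Subgroup.centralizer (P : Set G)) c f := by
  classical
  refine ⟨hc, hf, fun ξ hξ χ hχ h => ?_⟩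
  haveI := Fintype.ofFinite (Subgroup.centralizer (P : Set G))
  set β : G → ℂ := fun y => if ∃ x : H, (x : G) * y * (x : G)⁻¹ = h then 1 else 0 with hβdef
  have hβ : ∀ y, MemLocalRing M (β y) := fun y => by
    rw [hβdef]; dsimp only; split_ifs
    exacts [Blocks.memLocalRing_one, Blocks.memLocalRing_zero]
  have hβc : ∀ u y : Subgroup.centralizer (P : Set G), β ((u : G) * y * (u : G)⁻¹) = β y := fun u y => by
    refine if_congr ⟨fun ⟨x, hx⟩ => ⟨x * ⟨u, hC u.2⟩, ?_⟩, fun ⟨x, hx⟩ => ⟨x * ⟨u, hC u.2⟩⁻¹, ?_⟩⟩ rfl rfl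
    · rw [← hx]; simp only [Subgroup.coe_mul]; group
    · rw [← hx]; simp only [Subgroup.coe_mul, Subgroup.coe_inv]; group
  set w : MonoidAlgebra ℂ H := Blocks.classSum ℂ h with hw
  set z : MonoidAlgebra (AlgInt ⧸ M) G := incl H (AlgInt ⧸ M) (Blocks.redA M w) with hz
  have hwc : Blocks.IsCentralElt w := Blocks.isCentralElt_classSum h
  have hwS : Blocks.SCoeff M w := Blocks.scoeff_classSum h
  have hzc : ∀ y, z.coeff y = Blocks.red M (β y) := fun y => by
    by_cases hy : y ∈ H
    · refine (coeff_incl_coe H _ (⟨y, hy⟩ : H)).trans ?_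
      rw [Blocks.coeff_redA, hw, Blocks.coeff_classSum]
      refine congrArg _ (if_congr ?_ rfl rfl)
      rw [isConj_comm, isConj_iff]
      exact exists_congr fun x => Subtype.ext_iff
    · rw [hz, coeff_incl_of_notMem H _ hy, hβdef]
      dsimp only
      rw [if_neg, Blocks.red_zero]
      rintro ⟨x, hx⟩
      apply hy
      rw [show y = ((x⁻¹ * h * x : H) : G) by
        simp only [Subgroup.coe_mul, Subgroup.coe_inv, ← hx]; group]
      exact SetLike.coe_mem _
  have hfi := isBlockIdem_blk H hf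
  have hci := isBlockIdem_blk (Subgroup.centralizer (P : Set G)) hc
  have hzmem : z ∈ centerIn (AlgInt ⧸ M) H := incl_mem_centerIn H fun g t => by
    rw [Blocks.coeff_redA, Blocks.coeff_redA, hwc g t]
  have hbz : br P z ∈ centerIn (AlgInt ⧸ M) (Subgroup.centralizer (P : Set G)) := by
    have h1 := br_mem_centerIn (P := P) hzmem
    rwa [inf_eq_right.2 hC] at h1
  obtain ⟨h1, h1'⟩ := omega_blk_br P hc hξ hβ hβc hzc
  have h2 : omega (blk M H f) z = Blocks.red M (centralChar χ.1 h) := by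
    rw [hz, omega_blk H hf hχ hwc hwS, hw, Blocks.omega_classSum (Blocks.irr_classFun χ)]
  have h2' : MemLocalRing M (centralChar χ.1 h) := by
    rw [← Blocks.omega_classSum (Blocks.irr_classFun χ)]
    exact Blocks.memLocalRing_omega χ hwc hwS
  have h3 : omega (blk M _ c) (br P z) = omega (blk M H f) z := by
    set r := omega (blk M H f) z
    refine hci.omega_eq hbz ?_
    obtain ⟨n, hn⟩ := hfi.omega_spec hzmem
    refine ⟨n, ?_⟩
    set u : MonoidAlgebra (AlgInt ⧸ M) G := z * blk M H f - r • blk M H f with hu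
    have hfP : blk M H f ∈ fixedBy (AlgInt ⧸ M) P := fixedBy_anti hPH hfi.mem.2
    have hzP : z ∈ fixedBy (AlgInt ⧸ M) P := fixedBy_anti hPH hzmem.2
    have huP : u ∈ fixedBy (AlgInt ⧸ M) P :=
      sub_mem (mul_mem hzP hfP) (Subalgebra.smul_mem _ hfP r)
    have hbu : br P u * blk M _ c = br P z * blk M _ c - r • blk M _ c := by
      rw [hu, map_sub, br_mul hP hzP hfP, map_smul, sub_mul, mul_assoc, hbr, smul_mul_assoc, hbr]
    have hcomm : Commute (br P u) (blk M _ c) := by
      have h4 := br_mem_centerIn (P := P)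
        (sub_mem (mul_mem hzmem hfi.mem) (Subalgebra.smul_mem _ hfi.mem r) : u ∈ centerIn (AlgInt ⧸ M) H)
      rw [inf_eq_right.2 hC] at h4
      exact centerIn_commute h4.1 hci.mem.2
    rw [← hbu, hcomm.mul_pow, ← br_pow hP huP, hn, map_zero, zero_mul]
  rw [h1, h2, Blocks.red_eq_iff h1' h2'] at h3
  convert h3 using 2
  rw [brauerOmega, finsum_eq_sum_of_fintype, inducedCentralCharIn,
    finsum_mem_eq_sum_of_inter_support_eq _
      (t := Finset.univ.filter fun k : Subgroup.centralizer (P : Set G) =>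
        ∃ x : H, (x : G) * (k : G) * (x : G)⁻¹ = h) (by ext; simp),
    Finset.sum_filter]
  refine Finset.sum_congr rfl fun k _ => ?_
  rw [hβdef]
  dsimp only
  split_ifs <;> simp

/-- Induction inside `H` determines the block. -/
theorem isInducedBlockIn_unique {K : Subgroup G} {c : Set (IrrCharacter K)}
    {f f' : Set (IrrCharacter H)} (h : IsInducedBlockIn M H K c f)
    (h' : IsInducedBlockIn M H K c f') : f = f' := by
  obtain ⟨ξ, hξ⟩ := nonempty_of_isPBlock h.1
  obtain ⟨χ, hχ⟩ := nonempty_of_isPBlock h.2.1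
  obtain ⟨χ', hχ'⟩ := nonempty_of_isPBlock h'.2.1
  rw [eq_blockOf_of_mem h.2.1 hχ, eq_blockOf_of_mem h'.2.1 hχ']
  have hs : SameBlock M χ.1 χ'.1 := fun g => by
    simpa using Blocks.MemLocalIdeal.sub (h'.2.2 ξ hξ χ' hχ' g) (h.2.2 ξ hξ χ hχ g)
  ext ψ
  exact ⟨fun hψ => sameBlock_trans (sameBlock_symm hs) hψ, fun hψ => sameBlock_trans hs hψ⟩


/-- The maximal pair of a block of `H` on a defect group with centraliser in `H`. -/
theorem exists_maximalPair_sub {f : Set (IrrCharacter H)} (hf : IsPBlock M f)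
    (hD : DefectIn p H (blk M H f) P) (hC : Subgroup.centralizer (P : Set G) ≤ H)
    {c : Set (IrrCharacter (Subgroup.centralizer (P : Set G)))} (hc : IsPBlock M c)
    (hbr : br P (blk M H f) * blk M _ c = blk M _ c) :
    ∃ e' : Set (IrrCharacter (Subgroup.centralizer ((P.subgroupOf H : Subgroup H) : Set H))),
      IsMaximalBrauerPair p M f (P.subgroupOf H) e' ∧
      incl H (AlgInt ⧸ M) (blk M _ e') = blk M _ c := by
  have hP := hD.1
  have hmap := Subgroup.map_subgroupOf_eq_of_le hD.2.1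
  have hci := isBlockIdem_blk (Subgroup.centralizer (P : Set G)) hc
  obtain ⟨c₁, hc₁⟩ := exists_incl_eq_of_supp (suppIn_mono hC hci.mem.1)
  have hb : IsBlockIdem (Subgroup.centralizer ((P.subgroupOf H : Subgroup H) : Set H)) c₁ := by
    rw [← isBlockIdem_incl_iff, map_centralizer_sub, hmap, inf_eq_right.2 hC, hc₁]
    exact hci
  obtain ⟨e', he', rfl⟩ := exists_eq_blk _ hb
  refine ⟨e', (isMaximalBrauerPair_iff hf).2 ⟨he', ?_, ?_⟩, hc₁⟩
  · refine ⟨⟨hP.of_equiv (Subgroup.subgroupOfEquivOfLe hD.2.1).symm, hb⟩, incl_injective H ?_⟩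
    rw [map_mul, ← br_incl]
    show br ((P.subgroupOf H).map H.subtype) (blk M H f) * _ = _
    rw [hmap, hc₁, hbr]
  · intro b hb'
    refine (Subgroup.eq_of_le_of_card_ge hb'.2.2.1 ?_).symm
    have h1 : IsDefectGroup p M f (P.subgroupOf H) := (isDefectGroup_subgroupOf_iff hf hD.2.1).2 hD
    have h2 := (isDefectGroup_iff_defectIn_top hf _).1 h1
    refine h2.card_le hb'.2.1.1 le_top ?_
    refine IsPairOf.br_ne_zero ((step_isPairOf_iff (isBlockIdem_blkG hf) hb').2
      ⟨⟨hP.of_equiv (Subgroup.subgroupOfEquivOfLe hD.2.1).symm, hb⟩, incl_injective H ?_⟩)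
    rw [map_mul, ← br_incl]
    show br ((P.subgroupOf H).map H.subtype) (blk M H f) * _ = _
    rw [hmap, hc₁, hbr]

end Cfsg.Agent.BrauerPairs
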