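import Cfsg.Agent.Lib.BrauerPairs.LocalBridge

/-!
# Blocks of a group with a normal `p`-subgroup

* `exists_block_centralizer`: a block `B` of `G` has a block `e` of `C(P)` with `(P, e)` a pair of `B`.
* `blockCoeff_eq_orbitSum`: the idempotent of `B` is exactly the orbit sum of that of `e`.
-/

set_option autoImplicit false
set_option linter.unusedSectionVars false

open MonoidAlgebra Cfsg
open scoped Classical Cfsg.Agent.Blocks

namespace Cfsg.Agent.BrauerPairs

open Cfsg.Agent

universe u

variable {G : Type u} [Group G] [Finite G] {p : ℕ} [Fact p.Prime] {M : Ideal AlgInt} [M.IsMaximal]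
  [CharP (AlgInt ⧸ M) p]

theorem mem_centralizer_normal_iff {P : Subgroup G} [P.Normal] (x c : G) :
    c ∈ Subgroup.centralizer (P : Set G) ↔ x⁻¹ * c * x ∈ Subgroup.centralizer (P : Set G) :=
  mem_iff_conj_mem (normalizer_le_normalizer_centralizer P
    (by rw [Subgroup.normalizer_eq_top]; exact Subgroup.mem_top x)) c

theorem le_normalizer_of_normal (P : Subgroup G) [P.Normal] (H : Subgroup G) :
    H ≤ Subgroup.normalizer (P : Set G) := by
  rw [Subgroup.normalizer_eq_top]; exact le_top

theorem isNilpotent_blkG_sub_br {P : Subgroup G} [P.Normal] (hP : IsPGroup p P) {B : Set (IrrCharacter G)}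
    (hB : IsPBlock M B) : IsNilpotent (blkG M B - br P (blkG M B)) :=
  isNilpotent_sub_br p hP le_top (le_normalizer_of_normal P ⊤) (isBlockIdem_blkG hB).mem

theorem exists_block_centralizer {P : Subgroup G} [P.Normal] (hP : IsPGroup p P) {B : Set (IrrCharacter G)}
    (hB : IsPBlock M B) :
    ∃ e : Set (IrrCharacter (Subgroup.centralizer (P : Set G))), IsPBlock M e ∧
      IsPairOf p (blkG M B) (P, blk M _ e) := by
  have hne : br P (blkG M B) ≠ 0 := by
    intro h0
    have hn := isNilpotent_blkG_sub_br (p := p) hP hB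
    rw [h0, sub_zero] at hn
    exact blkG_ne_zero hB (eq_zero_of_idem_nilpotent (blkG_mul_self hB) hn)
  obtain ⟨e, he⟩ := exists_isPairOf_of_br_ne_zero (fun H => hasBlocks M H) (isBlockIdem_blkG hB) hP hne
  obtain ⟨e', he', rfl⟩ := exists_eq_blk (Subgroup.centralizer (P : Set G)) he.1.2
  exact ⟨e', he', he⟩

theorem blkG_mul_blk {P : Subgroup G} [P.Normal] {B : Set (IrrCharacter G)} (hB : IsPBlock M B)
    {e : MonoidAlgebra (AlgInt ⧸ M) G} (he : IsPairOf p (blkG M B) (P, e)) :
    blkG M B * e = e := by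
  have hbi := isBlockIdem_blkG hB
  have hc : Commute (blkG M B) e :=
    (centerIn_commute (H := (⊤ : Subgroup G)) (fun x hx => absurd (Subgroup.mem_top x) hx) hbi.mem.2).symm
  have hn : IsNilpotent ((blkG M B - br P (blkG M B)) * e) := by
    refine Commute.isNilpotent_mul_right ?_ (isNilpotent_blkG_sub_br he.1.1 hB)
    exact hc.sub_left (centerIn_commute he.1.2.mem.1 (br_top_mem hbi.mem).2).symm
  rw [sub_mul, he.2] at hn
  have hz : e - blkG M B * e = 0 := by
    refine eq_zero_of_idem_nilpotent ?_ (by rw [← neg_sub]; exact hn.neg)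
    have e1 : blkG M B * e * e = blkG M B * e := by rw [mul_assoc, he.1.2.idem]
    have e2 : e * (blkG M B * e) = blkG M B * e := by rw [← mul_assoc, ← hc.eq, e1]
    have e3 : blkG M B * e * (blkG M B * e) = blkG M B * e := by
      rw [mul_assoc (blkG M B), e2, ← mul_assoc, blkG_mul_self hB]
    rw [sub_mul, mul_sub, mul_sub, he.1.2.idem, e2, e1, e3, sub_self, sub_zero]
  exact (sub_eq_zero.1 hz).symm

theorem coeff_incl_blockIdem {H : Subgroup G} (f : Set (IrrCharacter H)) (g : G) :
    (incl H ℂ (Blocks.blockIdem f)).coeff g = subgroupBlockCoeff H f g := by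
  unfold subgroupBlockCoeff
  by_cases hg : g ∈ H
  · rw [dif_pos hg]
    exact (coeff_incl_coe H _ (⟨g, hg⟩ : H)).trans (Blocks.coeff_blockIdem f _)
  · rw [dif_neg hg, coeff_incl_of_notMem H _ hg]

/-- The idempotent of `B` is the orbit sum of the idempotent of `e`. -/
theorem blockCoeff_eq_orbitSum [Fintype G] {P : Subgroup G} [P.Normal] {B : Set (IrrCharacter G)}
    (hB : IsPBlock M B) {e : Set (IrrCharacter (Subgroup.centralizer (P : Set G)))} (he : IsPBlock M e)
    (hBe : IsPairOf p (blkG M B) (P, blk M _ e)) {T : Subgroup G}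
    (hT : ∀ x : G, x ∈ T ↔ conjEl x (blk M _ e) = blk M _ e) (g : G) :
    blockCoeff B g = (Nat.card T : ℂ)⁻¹ *
      ∑ x : G, subgroupBlockCoeff (Subgroup.centralizer (P : Set G)) e (x⁻¹ * g * x) := by
  set o : G → Set (IrrCharacter (Subgroup.centralizer (P : Set G))) :=
    fun x => mapBlock (conjIso x (mem_centralizer_normal_iff x)) e with ho
  have hoB : ∀ x, IsPBlock M (o x) := fun x => isPBlock_mapBlock _ he
  have hblk : ∀ x, blk M _ (o x) = conjEl x (blk M _ e) := fun x =>
    blk_mapBlock_conjIso x (mem_centralizer_normal_iff x) e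
  have hcoef : ∀ x g, subgroupBlockCoeff (Subgroup.centralizer (P : Set G)) (o x) g =
      subgroupBlockCoeff (Subgroup.centralizer (P : Set G)) e (x⁻¹ * g * x) := by
    intro x g
    unfold subgroupBlockCoeff
    by_cases hg : g ∈ Subgroup.centralizer (P : Set G)
    · rw [dif_pos hg, dif_pos ((mem_centralizer_normal_iff x g).1 hg), ho, blockCoeff_mapBlock]
      rfl
    · rw [dif_neg hg, dif_neg fun h => hg ((mem_centralizer_normal_iff x g).2 h)]
  set orb := Finset.univ.image o with horb
  set u : MonoidAlgebra ℂ G := ∑ f ∈ orb, incl (Subgroup.centralizer (P : Set G)) ℂ (Blocks.blockIdem f) with hu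
  have hfib : ∀ f ∈ orb, (Finset.univ.filter fun x => o x = f).card = Nat.card T := by
    intro f hf
    obtain ⟨y, -, rfl⟩ := Finset.mem_image.1 hf
    have hiff : ∀ x, o x = o y ↔ y⁻¹ * x ∈ T := by
      intro x
      rw [hT, conjEl_mul]
      constructor
      · intro h
        have h1 := congrArg (blk M _) h
        rw [hblk, hblk] at h1
        rw [h1, conjEl_inv_conjEl]
      · intro h
        refine blk_injective _ (hoB x) (hoB y) ?_
        rw [hblk, hblk]
        conv_rhs => rw [← h]
        rw [← conjEl_mul, ← conjEl_mul, mul_inv_cancel, one_mul]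
    rw [Nat.card_eq_fintype_card, ← Finset.card_univ]
    refine Finset.card_bij' (fun x hx => (⟨y⁻¹ * x, (hiff x).1 (Finset.mem_filter.1 hx).2⟩ : T))
      (fun t _ => y * (t : G)) (fun _ _ => Finset.mem_univ _)
      (fun t _ => Finset.mem_filter.2 ⟨Finset.mem_univ _, (hiff _).2 (by simp)⟩)
      (fun x _ => by simp) (fun t _ => Subtype.ext (by simp))
  have hucoef : ∀ g, u.coeff g = (Nat.card T : ℂ)⁻¹ *
      ∑ x : G, subgroupBlockCoeff (Subgroup.centralizer (P : Set G)) e (x⁻¹ * g * x) := by
    intro g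
    have hTne : (Nat.card T : ℂ) ≠ 0 := Nat.cast_ne_zero.2 Nat.card_pos.ne'
    rw [eq_inv_mul_iff_mul_eq₀ hTne, hu, coeff_sum, Finsupp.finsetSum_apply, Finset.mul_sum,
      ← Finset.sum_fiberwise_of_maps_to (fun x _ => Finset.mem_image_of_mem o (Finset.mem_univ x))]
    refine Finset.sum_congr rfl fun f hf => ?_
    rw [Finset.sum_congr rfl (g := fun _ => subgroupBlockCoeff (Subgroup.centralizer (P : Set G)) f g)
      (fun x hx => by rw [← hcoef, (Finset.mem_filter.1 hx).2]), Finset.sum_const, hfib f hf, nsmul_eq_mul,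
      coeff_incl_blockIdem]
  have huc : Blocks.IsCentralElt u := by
    intro a h
    rw [hucoef, hucoef]
    congr 1
    refine Fintype.sum_equiv (Equiv.mulLeft h⁻¹) _ _ fun x => ?_
    congr 1
    simp only [Equiv.coe_mulLeft]
    group
  have horbB : ∀ f ∈ orb, IsPBlock M f := fun f hf => by
    obtain ⟨y, -, rfl⟩ := Finset.mem_image.1 hf
    exact hoB y
  have huu : u * u = u := by
    rw [hu, Finset.sum_mul]
    refine Finset.sum_congr rfl fun f hf => ?_
    rw [Finset.mul_sum, Finset.sum_eq_single f]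
    · rw [← map_mul, Blocks.blockIdem_mul_self]
    · intro f' hf' hne
      rw [← map_mul, Blocks.blockIdem_mul, Set.eq_empty_iff_forall_notMem.2 fun χ (hχ : χ ∈ f ∩ f') =>
        hne ((eq_blockOf_of_mem (horbB f' hf') hχ.2).trans (eq_blockOf_of_mem (horbB f hf) hχ.1).symm)]
      have : Blocks.blockIdem (∅ : Set (IrrCharacter (Subgroup.centralizer (P : Set G)))) = 0 :=
        Blocks.alg_ext fun g => by simp [Blocks.coeff_blockIdem, blockCoeff]
      rw [this, map_zero]
    · exact fun h => absurd hf h
  have huS : Blocks.SCoeff M u := by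
    intro g
    rw [hu, coeff_sum, Finsupp.finsetSum_apply]
    refine Blocks.MemLocalRing.sum _ fun f hf => ?_
    rw [coeff_incl_blockIdem]
    unfold subgroupBlockCoeff
    by_cases hg : g ∈ Subgroup.centralizer (P : Set G)
    · rw [dif_pos hg]; exact memLocalRing_blockCoeff (horbB f hf) _
    · rw [dif_neg hg]; exact Blocks.memLocalRing_zero
  have hred : Blocks.redA M u = ∑ f ∈ orb, blk M _ f := by
    refine Blocks.alg_ext fun g => ?_
    rw [Blocks.coeff_redA, hu, coeff_sum, Finsupp.finsetSum_apply, coeff_sum, Finsupp.finsetSum_apply,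
      Blocks.red_sum _ fun f hf => ?_]
    · exact Finset.sum_congr rfl fun f _ => by rw [coeff_incl_blockIdem, coeff_blk]
    · rw [coeff_incl_blockIdem]
      unfold subgroupBlockCoeff
      by_cases hg : g ∈ Subgroup.centralizer (P : Set G)
      · rw [dif_pos hg]; exact memLocalRing_blockCoeff (horbB f hf) _
      · rw [dif_neg hg]; exact Blocks.memLocalRing_zero
  have hbi := isBlockIdem_blkG hB
  have hbz : blkG M B * Blocks.redA M u = Blocks.redA M u := by
    rw [hred, Finset.mul_sum]
    refine Finset.sum_congr rfl fun f hf => ?_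
    obtain ⟨y, -, rfl⟩ := Finset.mem_image.1 hf
    rw [hblk]
    conv_lhs => rw [← conjEl_eq_self_of_top hbi.mem y]
    rw [← map_mul, blkG_mul_blk hB hBe]
  have hz : Blocks.redA M u ∈ centerIn (AlgInt ⧸ M) (⊤ : Subgroup G) :=
    ⟨fun x hx => absurd (Subgroup.mem_top x) hx, mem_fixedBy_iff_coeff.2 fun h _ a => by
      rw [Blocks.coeff_redA, Blocks.coeff_redA, huc a h]⟩
  have hzz : Blocks.redA M u * Blocks.redA M u = Blocks.redA M u := by
    rw [← Blocks.redA_mul huS huS, huu]
  have hzne : Blocks.redA M u ≠ 0 := by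
    intro h0
    have he1 : (Blocks.redA M u) * blk M _ e = blk M _ e := by
      have ho1 : o 1 = e := blk_injective _ (hoB 1) he (by rw [hblk, conjEl_one])
      rw [hred, Finset.sum_mul, Finset.sum_eq_single (o 1)]
      · rw [ho1, (isBlockIdem_blk _ he).idem]
      · intro f hf hne
        exact (isBlockIdem_blk _ he).mul_eq_zero_of_ne (isBlockIdem_blk _ (horbB f hf))
          fun h => hne (by rw [ho1]; exact blk_injective _ (horbB f hf) he h.symm)
      · exact fun h => absurd (Finset.mem_image_of_mem o (Finset.mem_univ 1)) h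
    rw [h0, zero_mul] at he1
    exact (isBlockIdem_blk _ he).ne_zero he1.symm
  have heq : Blocks.redA M u = blkG M B := by
    have hc : Commute (blkG M B) (Blocks.redA M u) := centerIn_commute hbi.mem.1 hz.2
    have h1 := hbi.mul_eq_self_of_ne hz hzz (by rw [← hc.eq, hbz]; exact hzne)
    rw [← hc.eq, hbz] at h1
    exact h1
  have hfin : Blocks.blockIdem B = u :=
    central_idem_ext (Blocks.isCentralElt_blockIdem B) (Blocks.blockIdem_mul_self B) (scoeff_blockIdem hB)
      huc huu huS heq.symm
  rw [← Blocks.coeff_blockIdem, hfin, hucoef]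

end Cfsg.Agent.BrauerPairs
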