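import Cfsg.Agent.Lib.BrauerPairs.LocalBridge
import Mathlib.RingTheory.Artinian.Ring
import Cfsg.Agent.Lib.BrauerPairs.NormalPSub
import Cfsg.Agent.Lib.BlocksX.Normal
import Mathlib.RingTheory.Noetherian.Basic

/-!
# Defect groups of covered blocks, in `k[G]`

If a nonzero central idempotent `e` of `k[T]` lies under the `T`-stable block idempotent `c` of a
normal subgroup `L`, then `br R c ≠ 0` implies `br R e ≠ 0` for `p`-subgroups `R` of `L`.
-/

set_option autoImplicit false
set_option linter.unusedSectionVars false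
set_option linter.style.haveILetI false

open scoped Cfsg.Agent.Blocks

namespace Cfsg.Agent.BrauerPairs

universe u

variable {k : Type*} [Field k] {G : Type u} [Group G] [Finite G] {p : ℕ} [Fact p.Prime] [CharP k p]

theorem exists_coeff_ne_zero_of_mul {a b : MonoidAlgebra k G} {x : G} (h : (a * b).coeff x ≠ 0) :
    ∃ y, a.coeff y ≠ 0 ∧ b.coeff (y⁻¹ * x) ≠ 0 := by
  letI := Fintype.ofFinite G
  rw [Blocks.coeff_mul_eq_sum] at h
  obtain ⟨y, -, hy⟩ := Finset.exists_ne_zero_of_sum_ne_zero h
  exact ⟨y, left_ne_zero_of_mul hy, right_ne_zero_of_mul hy⟩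

theorem mul_single_conjEl (x : G) (r : k) (z : MonoidAlgebra k G) :
    z * MonoidAlgebra.single x r = MonoidAlgebra.single x r * conjEl x⁻¹ z := by
  refine Blocks.alg_ext fun g => ?_
  simp only [Blocks.coeff_mul_single', Blocks.coeff_single_mul', coeff_conjEl, inv_inv]
  rw [mul_inv_cancel_left, mul_comm]

theorem trunc_mul_right {L : Subgroup G} {S : Set G} (hS : ∀ x, ∀ l ∈ L, (x * l ∈ S ↔ x ∈ S))
    (a : MonoidAlgebra k G) {c : MonoidAlgebra k G} (hc : c ∈ suppIn k L) :
    trunc S (a * c) = trunc S a * c := by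
  classical
  letI := Fintype.ofFinite G
  refine Blocks.alg_ext fun g => ?_
  rw [coeff_trunc, Blocks.coeff_mul_eq_sum', Blocks.coeff_mul_eq_sum']
  by_cases hg : g ∈ S
  · rw [if_pos hg]
    refine Finset.sum_congr rfl fun y _ => ?_
    by_cases hy : y ∈ L
    · rw [coeff_trunc, if_pos ((hS g y⁻¹ (inv_mem hy)).2 hg)]
    · rw [hc y hy, mul_zero, mul_zero]
  · rw [if_neg hg]
    refine (Finset.sum_eq_zero fun y _ => ?_).symm
    by_cases hy : y ∈ L
    · rw [coeff_trunc, if_neg fun h => hg ((hS g y⁻¹ (inv_mem hy)).1 h), zero_mul]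
    · rw [hc y hy, mul_zero]

theorem exists_notMem_nilradical_mul_mem {R : Type*} [CommRing R] [IsArtinianRing R] {J : Ideal R}
    (hJ : J ≠ ⊤) : ∃ v, v ∉ J ∧ ∀ z, IsNilpotent z → z * v ∈ J := by
  classical
  obtain ⟨n, hn⟩ := IsArtinianRing.isNilpotent_nilradical (R := R)
  have hex : ∃ j, nilradical R ^ j ≤ J := ⟨n, by rw [hn]; exact bot_le⟩
  have h0 : 0 < Nat.find hex := (Nat.find_pos hex).2 fun h => hJ (top_le_iff.1 (by simpa using h))
  obtain ⟨v, hv, hvJ⟩ := SetLike.not_le_iff_exists.1 (Nat.find_min hex (Nat.sub_lt h0 one_pos))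
  refine ⟨v, hvJ, fun z hz => Nat.find_spec hex ?_⟩
  have h := Ideal.mul_mem_mul (mem_nilradical.2 hz) hv
  rwa [← pow_succ', Nat.sub_add_cancel (show 1 ≤ Nat.find hex from h0)] at h

/-- Some multiple of the centre of `k[L]` detects `e` and kills its nilradical. -/
theorem exists_annihilator (L : Subgroup G) {e : MonoidAlgebra k G} (he : e ≠ 0) :
    ∃ v ∈ centerIn k L, v * e ≠ 0 ∧ ∀ z ∈ centerIn k L, IsNilpotent z → z * v * e = 0 := by
  haveI : Module.Finite k (MonoidAlgebra k G) :=
    Module.Finite.equiv (MonoidAlgebra.coeffLinearEquiv k).symm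
  haveI : Module.Finite k (centerIn k L) :=
    Module.Finite.of_injective (centerIn k L).val.toLinearMap Subtype.val_injective
  haveI : IsArtinianRing (centerIn k L) := IsArtinianRing.of_finite k _
  let J : Ideal (centerIn k L) :=
    { carrier := {v | (v : MonoidAlgebra k G) * e = 0}
      zero_mem' := zero_mul e
      add_mem' := fun {a b} (ha : (a : MonoidAlgebra k G) * e = 0) hb => by
        show ((a + b : centerIn k L) : MonoidAlgebra k G) * e = 0
        rw [Subalgebra.coe_add, add_mul, ha, show (b : MonoidAlgebra k G) * e = 0 from hb, add_zero]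
      smul_mem' := fun a b (hb : (b : MonoidAlgebra k G) * e = 0) => by
        show ((a * b : centerIn k L) : MonoidAlgebra k G) * e = 0
        rw [Subalgebra.coe_mul, mul_assoc, hb, mul_zero] }
  have hJ : J ≠ ⊤ := fun h => he (by
    have h1 : ((1 : centerIn k L) : MonoidAlgebra k G) * e = 0 :=
      (h ▸ Submodule.mem_top : (1 : centerIn k L) ∈ J)
    rwa [OneMemClass.coe_one, one_mul] at h1)
  obtain ⟨v, hv, hmax⟩ := exists_notMem_nilradical_mul_mem hJ
  refine ⟨v, v.2, hv, fun z hz hzn => hmax ⟨z, hz⟩ ?_⟩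
  obtain ⟨m, hm⟩ := hzn
  exact ⟨m, Subtype.ext hm⟩

/-- A central element of `c k[L]` with vanishing Brauer image is nilpotent. -/
theorem isNilpotent_of_br_eq_zero {L R : Subgroup G} {c : MonoidAlgebra k G} (hc : IsBlockIdem L c)
    (hR : IsPGroup p R) (hRL : R ≤ L) (hne : br R c ≠ 0) {s : MonoidAlgebra k G}
    (hs : s ∈ centerIn k L) (hsc : s * c = s) (h0 : br R s = 0) : IsNilpotent s := by
  obtain ⟨n, hn⟩ := hc.omega_spec hs
  set r := omega c s with hr
  have hcR : c ∈ fixedBy k R := fixedBy_anti hRL hc.mem.2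
  have hscR : s * c ∈ fixedBy k R := mul_mem (fixedBy_anti hRL hs.2) hcR
  have hb : (-r) ^ n • br R c ^ n = 0 := by
    have h1 : br R (s * c - r • c) = (-r) • br R c := by
      rw [map_sub, hsc, h0, map_smul, zero_sub, neg_smul]
    rw [← smul_pow, ← h1, ← br_pow hR (sub_mem hscR (Subalgebra.smul_mem _ hcR r)), hn, map_zero]
  have hr0 : r = 0 := by
    have hbn : br R c ^ n ≠ 0 := by
      intro h2
      exact hne (eq_zero_of_idem_nilpotent (by rw [← br_mul hR hcR hcR, hc.idem]) ⟨n, h2⟩)
    simpa using pow_eq_zero_iff'.1 ((smul_eq_zero.1 hb).resolve_right hbn) |>.1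
  rw [hr0, zero_smul, sub_zero, hsc] at hn
  exact ⟨n, hn⟩

/-- **The key lemma.** -/
theorem br_ne_zero_of_under {L T R : Subgroup G} (hLT : L ≤ T)
    (hTN : T ≤ Subgroup.normalizer (L : Set G)) {c e : MonoidAlgebra k G} (hc : IsBlockIdem L c)
    (he : e ∈ centerIn k T) (hee : e * e = e) (hec : e * c = e) (he0 : e ≠ 0)
    (hR : IsPGroup p R) (hRL : R ≤ L) (hne : br R c ≠ 0) : br R e ≠ 0 := by
  classical
  intro hbe
  letI := Fintype.ofFinite G
  letI := Fintype.ofFinite (G ⧸ L)
  obtain ⟨v, hv, hve, hkill⟩ := exists_annihilator L he0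
  set w := v * e with hw
  have hnorm : ∀ t ∈ T, ∀ l ∈ L, t⁻¹ * l * t ∈ L := fun t ht l hl =>
    ((Subgroup.mem_normalizer_iff''.1 (hTN ht)) l).1 hl
  -- nilpotent central elements of `k[L]` kill `k[T] w`
  have hkill' : ∀ z ∈ centerIn k L, IsNilpotent z → ∀ a ∈ suppIn k T, z * (a * w) = 0 := by
    intro z hz hzn a ha
    rw [Blocks.eq_sum_single a, Finset.sum_mul, Finset.mul_sum]
    refine Finset.sum_eq_zero fun x _ => ?_
    by_cases hx : x ∈ T
    · rw [← mul_assoc, mul_single_conjEl, mul_assoc, hw, ← mul_assoc (conjEl x⁻¹ z),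
        hkill _ ?_ (hzn.map (conjEl x⁻¹)), mul_zero]
      have := conjEl_mem_centerIn x⁻¹ hz
      rwa [map_conj_eq_of_mem_normalizer (inv_mem (hTN hx))] at this
    · rw [ha x hx, MonoidAlgebra.single_zero, zero_mul, mul_zero]
  let Sup : G → MonoidAlgebra k G → Prop := fun t a =>
    ∀ x, a.coeff x ≠ 0 → x ∈ T ∧ (x : G ⧸ L) = (t : G ⧸ L)
  have hsupp : ∀ {t a}, Sup t a → a ∈ suppIn k T := fun {t a} h x hx => by
    by_contra hne'
    exact hx (h x hne').1
  have hSup_mul : ∀ {t s a b}, s ∈ T → Sup t a → Sup s b → Sup (t * s) (a * b) := by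
    intro t s a b hs ha hb x hx
    obtain ⟨y, hy1, hy2⟩ := exists_coeff_ne_zero_of_mul hx
    obtain ⟨hyT, hyt⟩ := ha y hy1
    obtain ⟨hzT, hzs⟩ := hb _ hy2
    refine ⟨by simpa using mul_mem hyT hzT, ?_⟩
    rw [QuotientGroup.eq] at hyt hzs ⊢
    have h1 := hnorm s hs _ (inv_mem hyt)
    have h2 := mul_mem (inv_mem hzs) h1
    have : x⁻¹ * (t * s) = (y⁻¹ * x)⁻¹ * s * (s⁻¹ * (y⁻¹ * t) * s) := by group
    rw [this]
    exact mul_mem hzs (hnorm s hs _ hyt)
  -- the homogeneous components
  let comp : G ⧸ L → MonoidAlgebra k G := fun q => trunc {x : G | (x : G ⧸ L) = q} e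
  have hecoeff : ∀ q x, (comp q).coeff x = if (x : G ⧸ L) = q then e.coeff x else 0 := fun q x => by
    simp only [comp, coeff_trunc, Set.mem_setOf_eq]
  have hsum : e = ∑ q, comp q := Blocks.alg_ext fun x => by
    rw [MonoidAlgebra.coeff_sum, Finsupp.finsetSum_apply]
    simp [hecoeff]
  have hcompSup : ∀ (q : G ⧸ L) (t : G), (t : G ⧸ L) = q → Sup t (comp q) := by
    intro q t ht x hx
    rw [hecoeff] at hx
    split_ifs at hx with h
    · exact ⟨by_contra fun hxT => hx (he.1 x hxT), h.trans ht.symm⟩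
    · exact absurd rfl hx
  have hcompL : ∀ q, comp q ∈ fixedBy k L := fun q => mem_fixedBy_iff_coeff.2 fun l hl x => by
    rw [hecoeff, hecoeff, mem_fixedBy_iff_coeff.1 he.2 l (hLT hl) x]
    by_cases hx : x ∈ T
    · refine if_congr ?_ rfl rfl
      rw [show ((l * x * l⁻¹ : G) : G ⧸ L) = x from QuotientGroup.eq.2 ?_]
      rw [show (l * x * l⁻¹)⁻¹ * x = l * (x⁻¹ * l⁻¹ * x) by group]
      exact mul_mem hl (hnorm x hx _ (inv_mem hl))
    · simp [he.1 x hx]
  have hcompbr : ∀ q, br R (comp q) = 0 := fun q => Blocks.alg_ext fun x => by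
    have h := congrArg (fun a => a.coeff x) hbe
    simp only [coeff_br, MonoidAlgebra.coeff_zero, Finsupp.coe_zero, Pi.zero_apply] at h ⊢
    rw [hecoeff]
    split_ifs with h1 h2
    · simpa [h1] using h
    all_goals rfl
  have hcompc : ∀ q, comp q * c = comp q := fun q => by
    rw [← trunc_mul_right (L := L) (fun x l hl => by
      simp only [Set.mem_setOf_eq]
      rw [show ((x * l : G) : G ⧸ L) = x from QuotientGroup.eq.2 (by simpa using inv_mem hl)]) e hc.mem.1,
      hec]
  -- products of more components than cosets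
  have claim : ∀ (j : ℕ) (F : Finset (G ⧸ L)) (t : G) (u : MonoidAlgebra k G), t ∈ T → Sup t u →
      (∀ q ∈ F, ∃ s ∈ T, (s : G ⧸ L) = q ∧ ∃ (r : G) (a b : MonoidAlgebra k G), r ∈ T ∧
        u = a * b ∧ Sup r a ∧ a ∈ fixedBy k L ∧ Sup s b ∧ (r * s : G) = (t : G ⧸ L)) →
      Fintype.card (G ⧸ L) < F.card + j → e ^ j * (u * w) = 0 := by
    intro j
    induction j with
    | zero =>
      intro F t u _ _ _ hcard
      exact absurd (Finset.card_le_univ F) (by omega)
    | succ j ih =>
      intro F t u ht hu hF hcard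
      rw [pow_succ, mul_assoc]
      nth_rewrite 2 [hsum]
      rw [Finset.sum_mul, Finset.mul_sum]
      refine Finset.sum_eq_zero fun q _ => ?_
      induction q using Quotient.inductionOn' with | _ x =>
      change e ^ j * (comp (x : G ⧸ L) * (u * w)) = 0
      by_cases hx : x ∈ T
      swap
      · have : comp (x : G ⧸ L) = 0 := Blocks.alg_ext fun y => by
          rw [MonoidAlgebra.coeff_zero, Finsupp.coe_zero, Pi.zero_apply]
          by_contra hy
          obtain ⟨hyT, hyx⟩ := hcompSup _ x rfl y hy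
          exact hx (by simpa using mul_mem hyT (hLT (QuotientGroup.eq.1 hyx)))
        rw [this, zero_mul, mul_zero]
      have hxu : Sup (x * t) (comp (x : G ⧸ L) * u) := hSup_mul ht (hcompSup _ x rfl) hu
      by_cases hmem : ((x * t : G) : G ⧸ L) ∈ F
      · -- a segment of degree one
        obtain ⟨s, hs, hsq, r, a, b, hr, rfl, hra, haL, hsb, hrs⟩ := hF _ hmem
        have hxr : x * r ∈ L := by
          rw [QuotientGroup.eq] at hsq hrs
          have h1 : s⁻¹ * (x * r)⁻¹ * s ∈ L := by
            rw [show s⁻¹ * (x * r)⁻¹ * s = ((r * s)⁻¹ * t) * ((x * t)⁻¹ * s) by group]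
            exact mul_mem hrs (by simpa using inv_mem hsq)
          exact inv_mem_iff.1 (((Subgroup.mem_normalizer_iff''.1 (hTN hs)) _).2 h1)
        have hseg : Sup (x * r) (comp (x : G ⧸ L) * a) := hSup_mul hr (hcompSup _ x rfl) hra
        set z := comp (x : G ⧸ L) * a with hz
        have hzL : z ∈ centerIn k L := by
          refine ⟨fun y hy => ?_, mul_mem (hcompL _) haL⟩
          by_contra hne'
          have h1 := QuotientGroup.eq.1 (hseg y hne').2
          exact hy (by simpa [mul_assoc] using mul_mem hxr (inv_mem h1))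
        have hzc : z * c = z := by
          rw [← centerIn_commute hc.mem.1 hzL.2, hz, ← mul_assoc,
            centerIn_commute hc.mem.1 (hcompL _), hcompc]
        have hzbr : br R z = 0 := by
          rw [hz, br_mul hR (fixedBy_anti hRL (hcompL _)) (fixedBy_anti hRL haL), hcompbr, zero_mul]
        have hzero := hkill' z hzL (isNilpotent_of_br_eq_zero hc hR hRL hne hzL hzc hzbr) b (hsupp hsb)
        rw [hz] at hzero
        rw [show comp (x : G ⧸ L) * (a * b * w) = comp (x : G ⧸ L) * a * (b * w) by simp only [mul_assoc],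
          hzero, mul_zero]
      · rw [← mul_assoc (comp _) u w]
        refine ih (insert ((x * t : G) : G ⧸ L) F) (x * t) _ (mul_mem hx ht) hxu ?_
          (by rw [Finset.card_insert_of_notMem hmem]; omega)
        intro q hq
        rcases Finset.mem_insert.1 hq with rfl | hq
        · refine ⟨x * t, mul_mem hx ht, rfl, 1, 1, comp (x : G ⧸ L) * u, one_mem T, (one_mul _).symm,
            ?_, one_mem _, hxu, by rw [one_mul]⟩
          intro y hy
          rw [MonoidAlgebra.one_def, MonoidAlgebra.coeff_single, Finsupp.single_apply] at hy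
          split_ifs at hy with h
          · subst h; exact ⟨one_mem T, rfl⟩
          · exact absurd rfl hy
        · obtain ⟨s, hs, hsq, r, a, b, hr, rfl, hra, haL, hsb, hrs⟩ := hF q hq
          refine ⟨s, hs, hsq, x * r, comp (x : G ⧸ L) * a, b, mul_mem hx hr, (mul_assoc _ _ _).symm,
            hSup_mul hr (hcompSup _ x rfl) hra, mul_mem (hcompL _) haL, hsb, ?_⟩
          rw [QuotientGroup.eq] at hrs ⊢
          simpa [mul_assoc] using hrs
  have hone : Sup 1 (1 : MonoidAlgebra k G) := by
    intro y hy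
    rw [MonoidAlgebra.one_def, MonoidAlgebra.coeff_single, Finsupp.single_apply] at hy
    split_ifs at hy with h
    · subst h; exact ⟨one_mem T, rfl⟩
    · exact absurd rfl hy
  have h := claim (Fintype.card (G ⧸ L)) {((1 : G) : G ⧸ L)} 1 1 (one_mem T) hone
    (fun q hq => ⟨1, one_mem T, (Finset.mem_singleton.1 hq).symm, 1, 1, 1, one_mem T, (one_mul 1).symm,
      hone, one_mem _, hone, by rw [one_mul]⟩)
    (by rw [Finset.card_singleton]; omega)
  rw [one_mul] at h
  have hcomm : e * v = v * e := (centerIn_commute (suppIn_mono hLT hv.1) he.2).symm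
  apply hve
  have hpow : e ^ Fintype.card (G ⧸ L) = e := by
    obtain ⟨m, hm⟩ : ∃ m, Fintype.card (G ⧸ L) = m + 1 :=
      ⟨_, (Nat.succ_pred_eq_of_pos Fintype.card_pos).symm⟩
    rw [hm]
    clear hm h
    induction m with
    | zero => rw [pow_one]
    | succ m ih => rw [pow_succ, ih, hee]
  rwa [hpow, hw, ← mul_assoc, hcomm, mul_assoc, hee] at h


/-! ### The stabiliser of a block of a normal subgroup -/

/-- Elements fixing `c`. -/
noncomputable def fixGroup (c : MonoidAlgebra k G) : Subgroup G where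
  carrier := {g | conjEl g c = c}
  one_mem' := conjEl_one c
  mul_mem' {g h} hg hh := by
    simp only [Set.mem_ofPred_eq] at *
    rw [conjEl_mul, hh, hg]
  inv_mem' {g} hg := by
    simp only [Set.mem_ofPred_eq] at *
    conv_lhs => rw [← hg, ← conjEl_mul, inv_mul_cancel, conjEl_one]

theorem mem_fixGroup {c : MonoidAlgebra k G} {g : G} : g ∈ fixGroup c ↔ conjEl g c = c := Iff.rfl

theorem conj_isBlockIdem_normal {N : Subgroup G} [N.Normal] {f : MonoidAlgebra k G}
    (hf : IsBlockIdem N f) (g : G) : IsBlockIdem N (conjEl g f) := by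
  have h := hf.conj g
  rwa [map_conj_eq_of_mem_normalizer (by rw [Subgroup.normalizer_eq_top]; exact Subgroup.mem_top g)] at h

theorem le_fixGroup {N : Subgroup G} {c : MonoidAlgebra k G} (hc : IsBlockIdem N c) : N ≤ fixGroup c :=
  fun g hg => hc.mem.2 g hg

/-- The component of a central idempotent under `c` lives on the stabiliser of `c`. -/
theorem mul_mem_centerIn_fixGroup {N : Subgroup G} [N.Normal] {B c : MonoidAlgebra k G}
    (hB : B ∈ centerIn k (⊤ : Subgroup G)) (hc : IsBlockIdem N c) :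
    B * c ∈ centerIn k (fixGroup c) := by
  classical
  letI := Fintype.ofFinite G
  have hfix : B * c ∈ fixedBy k (fixGroup c) := fun g hg => by
    rw [map_mul, hB.2 g (Subgroup.mem_top g), hg]
  refine ⟨fun x hx => ?_, hfix⟩
  have hcomm : c * B = B * c := centerIn_commute (suppIn_mono le_top hc.mem.1) hB.2
  have e : B * c = ∑ y, (c * MonoidAlgebra.single y (B.coeff y)) * c := by
    calc B * c = c * B * c := by rw [hcomm, mul_assoc, hc.idem]
      _ = _ := by
        conv_lhs => rw [Blocks.eq_sum_single B, Finset.mul_sum, Finset.sum_mul]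
  rw [e, MonoidAlgebra.coeff_sum, Finsupp.finsetSum_apply]
  refine Finset.sum_eq_zero fun y _ => ?_
  by_cases hy : y ∈ fixGroup c
  · by_contra hne
    obtain ⟨a, ha, hb⟩ := exists_coeff_ne_zero_of_mul hne
    rw [Blocks.coeff_mul_single'] at ha
    have ha' : a * y⁻¹ ∈ N := by_contra fun h => ha (by rw [hc.mem.1 _ h, zero_mul])
    have hb' : a⁻¹ * x ∈ N := by_contra fun h => hb (hc.mem.1 _ h)
    have haT : a ∈ fixGroup c := by simpa using mul_mem (le_fixGroup hc ha') hy
    exact hx (by simpa using mul_mem haT (le_fixGroup hc hb'))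
  · rw [mul_single_conjEl, mul_assoc,
      hc.mul_eq_zero_of_ne (conj_isBlockIdem_normal hc y⁻¹) fun h => hy ?_, mul_zero,
      MonoidAlgebra.coeff_zero, Finsupp.coe_zero, Pi.zero_apply]
    exact inv_mem_iff.1 (mem_fixGroup.2 h.symm)

/-- A `p`-subgroup with nonzero Brauer image at `B` fixes a block of `N` with the same property. -/
theorem exists_fixed_block {N P : Subgroup G} [N.Normal] (hblk : HasBlocks k N) (hP : IsPGroup p P)
    {B : MonoidAlgebra k G} (hB : B ∈ centerIn k (⊤ : Subgroup G)) (hne : br P B ≠ 0) :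
    ∃ c, IsBlockIdem N c ∧ c ∈ fixedBy k P ∧ br P (B * c) ≠ 0 := by
  classical
  obtain ⟨s, hs, h1⟩ := hblk
  have hmem : ∀ f, IsBlockIdem N f → f ∈ s := by
    intro f hf
    by_contra hno
    refine hf.ne_zero ?_
    rw [← one_mul f, ← h1, Finset.sum_mul]
    exact Finset.sum_eq_zero fun f' hf' => hf.mul_eq_zero_of_ne (hs f' hf') fun h => hno (h ▸ hf')
  letI : MulAction P s :=
    { smul := fun u f => ⟨conjEl (u : G) (f : MonoidAlgebra k G), hmem _ (conj_isBlockIdem_normal (hs _ f.2) _)⟩
      one_smul := fun f => Subtype.ext (conjEl_one _)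
      mul_smul := fun u v f => Subtype.ext (conjEl_mul _ _ _) }
  by_contra hno
  simp only [not_exists, not_and, not_not] at hno
  apply hne
  refine Blocks.alg_ext fun x => ?_
  rw [MonoidAlgebra.coeff_zero, Finsupp.coe_zero, Pi.zero_apply, coeff_br]
  split_ifs with hx
  swap; · rfl
  conv_lhs => rw [← mul_one B, ← h1, Finset.mul_sum, MonoidAlgebra.coeff_sum, Finsupp.finsetSum_apply,
    ← Finset.sum_coe_sort]
  rw [sum_eq_sum_fixed hP (fun f : s => (B * (f : MonoidAlgebra k G)).coeff x) fun u f => ?_]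
  · refine Finset.sum_eq_zero fun f _ => ?_
    split_ifs with hf
    · have hfix : (f : MonoidAlgebra k G) ∈ fixedBy k P := fun u hu => congrArg Subtype.val (hf ⟨u, hu⟩)
      rw [← coeff_br_of_mem (B * (f : MonoidAlgebra k G)) hx, hno _ (hs _ f.2) hfix,
        MonoidAlgebra.coeff_zero, Finsupp.coe_zero, Pi.zero_apply]
    · rfl
  · show (B * conjEl (u : G) (f : MonoidAlgebra k G)).coeff x = _
    rw [← hB.2 (u : G) (Subgroup.mem_top _), ← map_mul, hB.2 (u : G) (Subgroup.mem_top _), coeff_conjEl]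
    have := Subgroup.mem_centralizer_iff.1 hx (u : G) u.2
    rw [mul_assoc, ← this, inv_mul_cancel_left]

/-- A block of a proper extension by a `p`-group is not a trace from below. -/
theorem exists_pGroup_not_le {N L : Subgroup G} (hblk : ∀ K : Subgroup G, HasBlocks k K) (hNL : N ≤ L)
    (hLN : L ≤ Subgroup.normalizer (N : Set G)) (hidx : p ∣ N.relIndex L) {c : MonoidAlgebra k G}
    (hcN : IsBlockIdem N c) (hcL : IsBlockIdem L c) :
    ∃ R : Subgroup G, IsPGroup p R ∧ R ≤ L ∧ ¬ R ≤ N ∧ br R c ≠ 0 := by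
  classical
  have hbot : br (⊥ : Subgroup G) c ≠ 0 := by
    rw [br_eq_self fun x hx => absurd (Subgroup.mem_centralizer_iff.2 fun y hy => by
      rw [Subgroup.mem_bot.1 hy, one_mul, mul_one]) hx]
    exact hcN.ne_zero
  obtain ⟨D, hD, -⟩ := exists_defectIn (p := p) hblk hcL IsPGroup.of_bot bot_le hbot
  refine ⟨D, hD.1, hD.2.1, fun hDN => ?_, hD.2.2.1⟩
  obtain ⟨A, hAs, hA, hcA⟩ := hD.exists_relTr_eq hblk hcL
  rw [← relTr_trans hDN hNL hA] at hcA
  set a := relTr D N A
  have ha : a ∈ fixedBy k N := relTr_mem_fixedBy hA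
  set a' := trunc (N : Set G) a * c with ha'
  have hta : trunc (N : Set G) a ∈ centerIn k N := by
    refine ⟨fun x hx => by rw [coeff_trunc, if_neg (by simpa using hx)], mem_fixedBy_iff_coeff.2 fun l hl x => ?_⟩
    rw [coeff_trunc, coeff_trunc, mem_fixedBy_iff_coeff.1 ha l hl x]
    refine if_congr ⟨fun h => ?_, fun h => ?_⟩ rfl rfl
    · simpa [mul_assoc] using N.mul_mem (N.mul_mem (N.inv_mem hl) h) hl
    · exact N.mul_mem (N.mul_mem hl h) (N.inv_mem hl)
  letI := Fintype.ofFinite (L ⧸ N.subgroupOf L)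
  have hconj : ∀ q : L ⧸ N.subgroupOf L, ((q.out : L) : G) ∈ Subgroup.normalizer (N : Set G) :=
    fun q => hLN (q.out : L).2
  have hctr : c = relTr N L a' := by
    have e1 : c = trunc (N : Set G) c * c := by
      rw [show trunc (N : Set G) c = c from Blocks.alg_ext fun x => by
        rw [coeff_trunc]; split_ifs with h <;> [rfl; exact (hcN.mem.1 x h).symm], hcN.idem]
    rw [ha', ← relTr_mul _ hcL.mem.2, show relTr N L (trunc (N : Set G) a) = trunc (N : Set G) (relTr N L a) by
      rw [relTr, relTr, map_sum]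
      refine Finset.sum_congr rfl fun q _ => Blocks.alg_ext fun x => ?_
      rw [coeff_conjEl, coeff_trunc, coeff_trunc, coeff_conjEl]
      exact if_congr ((Subgroup.mem_normalizer_iff''.1 (hconj q)) x).symm rfl rfl, ← hcA]
    exact e1
  have ha'mem : a' ∈ centerIn k N := mul_mem hta hcN.mem
  obtain ⟨r, hr⟩ := hcN.2.2.2 a' ha'mem
  rw [ha', mul_assoc, hcN.idem, ← ha'] at hr
  apply hcN.ne_zero
  refine eq_zero_of_idem_nilpotent hcN.idem ?_
  have e : c = ∑ q : L ⧸ N.subgroupOf L, conjEl ((q.out : L) : G) (a' - r • c) := by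
    conv_lhs => rw [hctr, relTr]
    simp only [map_sub, map_smul, hcL.mem.2 _ (SetLike.coe_mem _), Finset.sum_sub_distrib,
      Finset.sum_const, Finset.card_univ]
    rw [← Nat.card_eq_fintype_card, show Nat.card (L ⧸ N.subgroupOf L) = N.relIndex L from rfl,
      ← Nat.cast_smul_eq_nsmul k, (CharP.cast_eq_zero_iff k p _).2 hidx, zero_smul, sub_zero]
  have hmem : ∀ q : L ⧸ N.subgroupOf L,
      conjEl ((q.out : L) : G) (a' - r • c) ∈ centerIn k N := fun q => by
    have h := conjEl_mem_centerIn ((q.out : L) : G) (sub_mem ha'mem (Subalgebra.smul_mem _ hcN.mem r))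
    rwa [map_conj_eq_of_mem_normalizer (hconj q)] at h
  rw [e]
  have h2 : IsNilpotent (∑ q : L ⧸ N.subgroupOf L, (⟨_, hmem q⟩ : centerIn k N)) :=
    isNilpotent_sum fun q _ => by
      obtain ⟨m, hm⟩ := hr.map (conjEl ((q.out : L) : G))
      exact ⟨m, Subtype.ext hm⟩
  simpa using h2.map (centerIn k N).val


section Prelude

open scoped ComplexConjugate

variable {M : Ideal AlgInt} [M.IsMaximal] [CharP (AlgInt ⧸ M) p] {N : Subgroup G} [N.Normal]
  {B : Set (IrrCharacter G)} {c : Set (IrrCharacter N)}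

/-- `B c ≠ 0` gives a covering pair of characters. -/
theorem covers_of_mul_ne_zero [Fintype N] (hB : IsPBlock M B) (hc : IsPBlock M c)
    (hne : blkG M B * blk M N c ≠ 0) :
    ∃ χ ∈ B, ∃ θ ∈ c, classInner (fun n : N => (χ : G → ℂ) n) (θ : N → ℂ) ≠ 0 := by
  classical
  letI := Fintype.ofFinite G
  by_contra hno
  simp only [not_exists, not_and, not_not] at hno
  apply hne
  set u : MonoidAlgebra ℂ G := incl N ℂ (Blocks.blockIdem c) with hu
  have hcS : ∀ g, MemLocalRing M (u.coeff g) := fun g => by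
    rw [hu, coeff_incl_blockIdem]
    unfold subgroupBlockCoeff
    by_cases hg : g ∈ N
    · rw [dif_pos hg]; exact memLocalRing_blockCoeff hc _
    · rw [dif_neg hg]; exact Blocks.memLocalRing_zero
  have hred : Blocks.redA M u = blk M N c := Blocks.alg_ext fun g => by
    rw [Blocks.coeff_redA, coeff_blk, hu, coeff_incl_blockIdem]
  have huu : u * u = u := by rw [hu, ← map_mul, Blocks.blockIdem_mul_self]
  have hzero : ∀ χ ∈ B, ∀ g : G, ∑ y, u.coeff y * χ.1 (y * g) = 0 := by
    intro χ hχ g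
    obtain ⟨m, ρ, hρ⟩ := Char.irr_isCharacter χ
    have htr : Blocks.chiL χ.1 u = 0 := by
      rw [Blocks.chiL_eq_sum]
      calc ∑ y, u.coeff y * χ.1 y = ∑ n : N, (Blocks.blockIdem c).coeff n * Char.resFun N χ.1 n := by
            refine (Fintype.sum_of_injective (Subtype.val : N → G) Subtype.val_injective _ _ ?_ ?_).symm
            · intro y hy
              rw [hu, coeff_incl_of_notMem N _ fun h => hy ⟨⟨y, h⟩, rfl⟩, zero_mul]
            · intro n
              rw [hu, coeff_incl_coe]; rfl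
        _ = ∑ θ : IrrCharacter N, classInner (Char.resFun N χ.1) θ.1 *
              Blocks.chiL θ.1 (Blocks.blockIdem c) := by
            conv_lhs => rw [Char.eq_sum_classInner_smul
              (Char.IsCharacter.isClassFunction (Char.IsCharacter.restrict (Char.irr_isCharacter χ) N) :
                IsClassFunction N (Char.resFun N χ.1))]
            simp only [Finset.sum_apply, Pi.smul_apply, smul_eq_mul, Finset.mul_sum, Blocks.chiL_eq_sum]
            rw [Finset.sum_comm]
            exact Finset.sum_congr rfl fun θ _ => Finset.sum_congr rfl fun n _ => by ring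
        _ = 0 := Finset.sum_eq_zero fun θ _ => by
            rw [Blocks.chiL_blockIdem]
            split_ifs with hθ
            · rw [show classInner (Char.resFun N χ.1) θ.1 = 0 from hno χ hχ θ hθ, zero_mul]
            · rw [mul_zero]
    have hop : ρ.asAlgebraHom u = 0 := by
      have hidem : IsIdempotentElem (ρ.asAlgebraHom u) := by
        rw [IsIdempotentElem, ← map_mul, huu]
      have h := LinearMap.IsProj.trace ((LinearMap.isProj_range_iff_isIdempotentElem _).2 hidem)
      rw [← hρ, Blocks.chiL_character] at htr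
      rw [htr] at h
      have h0 : Module.finrank ℂ (LinearMap.range (ρ.asAlgebraHom u)) = 0 := by exact_mod_cast h.symm
      exact LinearMap.range_eq_bot.1 (Submodule.finrank_eq_zero.1 h0)
    calc ∑ y, u.coeff y * χ.1 (y * g)
        = Blocks.chiL ρ.character (u * MonoidAlgebra.single g 1) := by
          rw [Blocks.chiL_eq_sum, hρ]
          refine Fintype.sum_equiv (Equiv.mulRight g) _ _ fun y => ?_
          simp [Blocks.coeff_mul_single']
      _ = 0 := by rw [Blocks.chiL_character, map_mul, hop, zero_mul, map_zero]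
  have hBu : Blocks.blockIdem B * u = 0 := by
    refine Blocks.alg_ext fun g => ?_
    rw [Blocks.coeff_mul_eq_sum', MonoidAlgebra.coeff_zero, Finsupp.coe_zero, Pi.zero_apply]
    simp only [Blocks.coeff_blockIdem, Blocks.blockCoeff_eq_sum, Finset.mul_sum, Finset.sum_mul]
    rw [Finset.sum_comm]
    refine Finset.sum_eq_zero fun χ hχ => ?_
    calc ∑ y, (Nat.card G : ℂ)⁻¹ * (χ.1 1 * conj (χ.1 (g * y⁻¹))) * u.coeff y
        = (Nat.card G : ℂ)⁻¹ * χ.1 1 * ∑ y, u.coeff y * χ.1 (y * g⁻¹) := by
          rw [Finset.mul_sum]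
          refine Finset.sum_congr rfl fun y _ => ?_
          rw [Char.IsCharacter.conj_apply (Char.irr_isCharacter χ), mul_inv_rev, inv_inv]
          ring
      _ = 0 := by rw [hzero χ (Finset.mem_filter.1 hχ).2, mul_zero]
  show Blocks.redA M (Blocks.blockIdem B) * blk M N c = 0
  rw [← hred, ← Blocks.redA_mul (scoeff_blockIdem hB) hcS, hBu]
  exact Blocks.alg_ext fun g => by simp [Blocks.coeff_redA, Blocks.red_zero]

/-- A covered block has `B c ≠ 0`. -/
theorem mul_ne_zero_of_covers [Fintype G] [Fintype N] (hB : IsPBlock M B) (hc : IsPBlock M c)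
    {χ : IrrCharacter G} (hχ : χ ∈ B) {θ : IrrCharacter N} (hθ : θ ∈ c)
    (hcl : classInner (fun n : N => (χ : G → ℂ) n) (θ : N → ℂ) ≠ 0) :
    blkG M B * blk M N c ≠ 0 := by
  classical
  have hBi := isBlockIdem_blkG hB
  obtain ⟨f', hf', hne⟩ := exists_blockIdem_mul_ne_zero (fun K : Subgroup G => hasBlocks M K) N hBi.ne_zero
  obtain ⟨f, hf, rfl⟩ := exists_eq_blk N hf'
  obtain ⟨χ', hχ', η, hη, hη'⟩ := covers_of_mul_ne_zero hB hf hne
  obtain ⟨g, hg⟩ := BlocksX.exists_conj_mem_of_congr N hc hθ (η := η) fun n => by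
    have h := Blocks.MemLocalIdeal.neg (BlocksX.congr_of_covers N hB hc hχ hθ hcl hχ' hθ n)
    rwa [neg_sub, BlocksX.centralChar_eq_of_constituent N χ' η hη' n] at h
  have hx : ∀ d, d ∈ N ↔ (g⁻¹)⁻¹ * d * g⁻¹ ∈ N := mem_iff_conj_mem
    (by rw [Subgroup.normalizer_eq_top]; exact Subgroup.mem_top _)
  have hmem : Char.conjChar N η g ∈ mapBlock (conjIso g⁻¹ hx) f :=
    ⟨η, hη, Subtype.ext (funext fun n => congrArg η.1 (Subtype.ext (by
      rw [coe_conjIso]
      simp)))⟩
  have hblock : mapBlock (conjIso g⁻¹ hx) f = c :=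
    (eq_blockOf_of_mem (isPBlock_mapBlock _ hf) hmem).trans (eq_blockOf_of_mem hc hg).symm
  rw [← hblock, blk_mapBlock_conjIso, ← conjEl_eq_self_of_top hBi.mem g⁻¹, ← map_mul]
  exact (map_ne_zero_iff _ (conjEl g⁻¹).injective).2 hne

end Prelude

end Cfsg.Agent.BrauerPairs
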