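import Cfsg.Agent.Lib.BrauerPairs.LocalFusion
import Cfsg.Agent.Lib.Fusion.Nilpotent

/-!
# Nilpotent blocks and their fusion systems

* `IsNilpotentPairs`: the stabilisers of all pairs of `B` act as `p`-groups; `isNilpotentBlock_iff`.
* `IsNilpotentPairs.exists_mem_conj`: the fusion system of a nilpotent block is inner.
* `isNilpotentPairs_of_inner`: the converse.
-/

set_option autoImplicit false
set_option linter.unusedSectionVars false

open MonoidAlgebra Cfsg
open scoped Classical Cfsg.Agent.Blocks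

namespace Cfsg.Agent.BrauerPairs

open Cfsg.Agent

universe u

section Abstract

variable {k : Type*} [Field k] {G : Type u} [Group G] [Finite G] {p : ℕ} [Fact p.Prime] [CharP k p]
  {B e : MonoidAlgebra k G} {P : Subgroup G}

variable (p) in
/-- Every `p`-regular element stabilising a pair of `B` centralizes it. -/
def IsNilpotentPairs (B : MonoidAlgebra k G) : Prop :=
  ∀ (Q : Subgroup G) (f : MonoidAlgebra k G), IsPairOf p B (Q, f) →
    ∀ x ∈ stabOf Q f, IsPRegular p x → x ∈ Subgroup.centralizer (Q : Set G)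

theorem exists_pow_eq_mul_centralizer {Q : Subgroup G} {y u : G}
    (hu : u ∈ Subgroup.normalizer (Q : Set G)) (hz : u⁻¹ * y ∈ Subgroup.centralizer (Q : Set G)) (n : ℕ) :
    ∃ c ∈ Subgroup.centralizer (Q : Set G), y ^ n = u ^ n * c := by
  induction n with
  | zero => exact ⟨1, one_mem _, by simp⟩
  | succ n ih =>
    obtain ⟨c, hc, hyc⟩ := ih
    refine ⟨u⁻¹ * c * u * (u⁻¹ * y),
      mul_mem ((Subgroup.mem_normalizer_iff''.1 (normalizer_le_normalizer_centralizer Q hu) c).1 hc) hz, ?_⟩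
    rw [pow_succ, hyc, pow_succ]
    group

/-- If all maps of the system are induced by `P`, the block is nilpotent. -/
theorem isNilpotentPairs_of_inner (hblk : ∀ H : Subgroup G, HasBlocks k H) (hB : IsBlockIdem ⊤ B)
    (ha : IsMax p B (P, e))
    (h : ∀ (g : G) (Q : Subgroup G), BHom p P e g Q → ∃ u ∈ P, ∀ q ∈ Q, g * q * g⁻¹ = u * q * u⁻¹) :
    IsNilpotentPairs p B := by
  intro Q f hQf x hx hreg
  obtain ⟨g, hg⟩ := exists_conj_ple hblk hB ha hQf
  set Q' := Q.map (MulAut.conj g).toMonoidHom with hQ'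
  set y := g * x * g⁻¹ with hy
  have hyT : y ∈ stabOf Q' (conjEl g f) := by
    rw [hQ', ← map_conj_stabOf]
    exact ⟨x, hx, rfl⟩
  have hyH : BHom p P e y Q' := by
    refine (bhom_iff hblk ha.1.1 (f := conjEl g f) hg y).2 ?_
    rw [show conjPair y (Q', conjEl g f) = (Q', conjEl g f) from
      Prod.ext (map_conj_eq_of_mem_normalizer hyT.1) hyT.2]
    exact hg
  obtain ⟨u, hu, hact⟩ := h y Q' hyH
  have huN : u ∈ Subgroup.normalizer (Q' : Set G) := by
    refine mem_normalizer_of_conj_le fun q hq => ?_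
    rw [← hact q hq]
    exact (Subgroup.mem_normalizer_iff.1 hyT.1 q).1 hq
  have hz : u⁻¹ * y ∈ Subgroup.centralizer (Q' : Set G) := by
    rw [Subgroup.mem_centralizer_iff]
    intro q hq
    calc q * (u⁻¹ * y) = u⁻¹ * (u * q * u⁻¹) * y := by group
      _ = u⁻¹ * (y * q * y⁻¹) * y := by rw [hact q hq]
      _ = u⁻¹ * y * q := by group
  obtain ⟨n, hn⟩ := ha.1.1.1 ⟨u, hu⟩
  have hn' : u ^ p ^ n = 1 := congrArg Subtype.val hn
  obtain ⟨c, hc, hyc⟩ := exists_pow_eq_mul_centralizer huN hz (p ^ n)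
  rw [hn', one_mul] at hyc
  have hord : orderOf y = orderOf x :=
    orderOf_injective (MulAut.conj g).toMonoidHom (MulAut.conj g).injective x
  have hcop : (p ^ n).Coprime (orderOf y) :=
    (((Fact.out : p.Prime).coprime_iff_not_dvd).2 (hord ▸ hreg)).pow_left n
  obtain ⟨m, hm⟩ := exists_pow_eq_self_of_coprime hcop
  have hyC : y ∈ Subgroup.centralizer (Q' : Set G) := by
    rw [← hm, hyc]
    exact pow_mem hc m
  rw [hQ', ← map_conj_centralizer] at hyC
  obtain ⟨x', hx', he⟩ := hyC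
  rwa [← (MulAut.conj g).injective (show (MulAut.conj g) x' = (MulAut.conj g) x from he)]

end Abstract

section Prelude

variable {G : Type u} [Group G] [Finite G] {p : ℕ} [Fact p.Prime] {M : Ideal AlgInt} [M.IsMaximal]
  [CharP (AlgInt ⧸ M) p]

theorem isNilpotentBlock_iff {B : Set (IrrCharacter G)} (hB : IsPBlock M B) :
    IsNilpotentBlock p M B ↔ IsNilpotentPairs p (blkG M B) := by
  constructor
  · rintro ⟨-, h⟩ Q f hQf x hx hreg
    obtain ⟨f', hf', rfl⟩ := exists_eq_blk (Subgroup.centralizer (Q : Set G)) hQf.1.2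
    exact h Q f' ((isBrauerPairOf_iff hB).2 ⟨hf', hQf⟩) x hx.1
      ((stabilizesBlock_iff hf' (normalizer_le_normalizer_centralizer Q hx.1)).2 hx.2) hreg
  · refine fun h => ⟨hB, fun Q f hQf x hx hst hreg => ?_⟩
    obtain ⟨hf, hpair⟩ := (isBrauerPairOf_iff hB).1 hQf
    exact h Q _ hpair x ⟨hx, (stabilizesBlock_iff hf (normalizer_le_normalizer_centralizer Q hx)).1 hst⟩ hreg

/-- The fusion system of a nilpotent block is inner. -/
theorem IsNilpotentPairs.exists_mem_conj {B e : MonoidAlgebra (AlgInt ⧸ M) G} {P : Subgroup G}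
    (hnil : IsNilpotentPairs p B) (hblk : ∀ H : Subgroup G, HasBlocks (AlgInt ⧸ M) H)
    (hB : IsBlockIdem ⊤ B) (ha : IsMax p B (P, e)) {g : G} {Q : Subgroup G} (hg : BHom p P e g Q) :
    ∃ u ∈ P, ∀ q ∈ Q, g * q * g⁻¹ = u * q * u⁻¹ := by
  have haut : ∀ R : Subgroup G, R ≤ P → IsPGroup p ((blockSystem hblk ha.1.1).autGroup R) := by
    intro R hR
    obtain ⟨r, hr⟩ := exists_ple hblk ha.1.1 R hR
    rw [autGroup_blockSystem hblk ha.1.1 hr]
    rintro ⟨α, hα⟩
    obtain ⟨t, ht, hact⟩ := Fusion.mem_autInducedBy_iff.1 hα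
    refine ⟨(Nat.card G).factorization p, Subtype.ext ?_⟩
    have hC := hnil R r ((ple_isPairOf_iff hB hr).1 ha.1) _
      (pow_mem ht (p ^ (Nat.card G).factorization p)) (Blocks.isPRegular_pow_of_le t le_rfl)
    have hpow : ∀ (n : ℕ) (x : R), (((α ^ n) x : R) : G) = t ^ n * (x : G) * (t ^ n)⁻¹ := by
      intro n
      induction n with
      | zero => intro x; simp
      | succ n ih =>
        intro x
        rw [pow_succ, MulAut.mul_apply, ih, hact, pow_succ]
        group
    refine MulEquiv.ext fun x => Subtype.ext ?_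
    show (((α ^ p ^ (Nat.card G).factorization p) x : R) : G) = x
    rw [hpow, ← Subgroup.mem_centralizer_iff.1 hC x x.2, mul_inv_cancel_right]
  obtain ⟨u, hu, hx⟩ := Fusion.exists_conj_of_isPGroup ha.1.1.1
    (isSaturated_blockSystem hblk hB ha) haut (φ := conjHom Q g) ⟨g, fun _ => rfl, hg⟩
  exact ⟨u, hu, fun q hq => hx ⟨q, hq⟩⟩

end Prelude

end Cfsg.Agent.BrauerPairs
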