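import Cfsg.Agent.Lib.BrauerPairs.Covering
import Cfsg.Agent.Lib.BrauerPairs.InducedIn
import Cfsg.Agent.Lib.BrauerPairs.Correspondence
import Cfsg.Agent.Lib.Blocks.FirstMain
import Cfsg.Agent.Lib.Blocks.Brauer
import Cfsg.Agent.S4692

/-!
# The Brauer correspondence over a normal subgroup
-/

set_option autoImplicit false
set_option linter.unusedSectionVars false

open scoped Cfsg.Agent.Blocks

namespace Cfsg.Agent.BrauerPairs

universe u

section Abstract

variable {k : Type*} [Field k] {G : Type u} [Group G] [Finite G] {p : ℕ} [Fact p.Prime] [CharP k p]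
  {Q H D : Subgroup G}

/-- A block of a subgroup of `N(Q)` lives on `C(Q)`. -/
theorem br_eq_of_normal (hQ : IsPGroup p Q) (hQH : Q ≤ H) (hH : H ≤ Subgroup.normalizer (Q : Set G))
    {c : MonoidAlgebra k G} (hc : IsBlockIdem H c) : br Q c = c := by
  have hn := isNilpotent_sub_br p hQ hQH hH hc.mem
  have hb : br Q c ∈ centerIn k H :=
    ⟨fun x hx => by rw [coeff_br]; simp [hc.mem.1 x hx], br_mem_fixedBy hc.mem.2 le_rfl hH⟩
  have hbb : br Q c * br Q c = br Q c := by
    rw [← br_mul hQ (fixedBy_anti hQH hc.mem.2) (fixedBy_anti hQH hc.mem.2), hc.idem]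
  have hcomm : Commute c (br Q c) := centerIn_commute hc.mem.1 hb.2
  have h3 : (c - br Q c) * (c - br Q c) * (c - br Q c) = c - br Q c := by
    simp only [sub_mul, mul_sub, mul_assoc, hc.idem, hbb, hcomm.eq]
    rw [← mul_assoc (br Q c) (br Q c), hbb]
    abel
  obtain ⟨n, hn⟩ := hn
  have hpow : ∀ m : ℕ, (c - br Q c) ^ (2 * m + 1) = c - br Q c := fun m => by
    induction m with
    | zero => simp
    | succ m ih =>
      rw [show 2 * (m + 1) + 1 = (2 * m + 1) + 2 by ring, pow_add, ih, pow_two, ← mul_assoc, h3]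
  have h0 : c - br Q c = 0 := by
    rw [← hpow n]
    exact pow_eq_zero_of_le (by omega) hn
  exact (sub_eq_zero.1 h0).symm

/-- A normal `p`-subgroup lies in every defect group. -/
theorem le_defect_of_normal (hQ : IsPGroup p Q) (hQH : Q ≤ H) (hH : H ≤ Subgroup.normalizer (Q : Set G))
    {c : MonoidAlgebra k G} (hc : IsBlockIdem H c) (hD : DefectIn p H c D) : Q ≤ D := by
  obtain ⟨h, hh, hle⟩ := hD.2.2.2 Q hQ hQH (by rw [br_eq_of_normal hQ hQH hH hc]; exact hc.ne_zero)
  rwa [map_conj_eq_of_mem_normalizer (hH hh)] at hle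

/-- A defect pair of a corresponding block is maximal in the group. -/
theorem isMax_of_defectIn (hH : H ≤ Subgroup.normalizer (Q : Set G)) (hND : Subgroup.normalizer (D : Set G) ≤ H)
    (hQD : Q ≤ D) {B c : MonoidAlgebra k G} (hB : IsBlockIdem ⊤ B) (hc : IsBlockIdem H c)
    (hD : DefectIn p H c D) (hbr : br Q B * c = c) {f : MonoidAlgebra k G}
    (hf : IsBlockIdem (Subgroup.centralizer (D : Set G)) f) (hcf : br D c * f = f) :
    IsMax p B (D, f) := by
  have h1 : br D B * br D c = br D c := by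
    conv_rhs => rw [← hbr, br_mul hD.1 (br_mem_fixedBy hB.mem.2 le_top (hD.2.1.trans hH))
      (fixedBy_anti hD.2.1 hc.mem.2), br_br hQD]
  refine ⟨⟨⟨hD.1, hf⟩, ?_⟩, fun b hb => max_of_defectIn hND hc hcf hD hb⟩
  show br D B * f = f
  conv_lhs => rw [← hcf, ← mul_assoc, h1]
  exact hcf

theorem exists_defect_pair (hblk : ∀ L : Subgroup G, HasBlocks k L) (hND : Subgroup.normalizer (D : Set G) ≤ H)
    {c : MonoidAlgebra k G} (hc : IsBlockIdem H c) (hD : DefectIn p H c D) :
    ∃ f, IsBlockIdem (Subgroup.centralizer (D : Set G)) f ∧ br D c * f = f := by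
  obtain ⟨f, hf, hne⟩ := exists_blockIdem_mul_ne_zero hblk (Subgroup.centralizer (D : Set G)) hD.2.2.1
  exact ⟨f, hf, hf.mul_eq_self_of_ne (br_mem_centerIn_sub (le_sub_of_normalizer_le hND).2 hc)
    (br_idem_sub hD.1 hD.2.1 hc) hne⟩

/-- Injectivity of the Brauer correspondence. -/
theorem eq_of_common_br {D' : Subgroup G} (hblk : ∀ L : Subgroup G, HasBlocks k L)
    (hH : H ≤ Subgroup.normalizer (Q : Set G)) {B c c' : MonoidAlgebra k G} (hB : IsBlockIdem ⊤ B)
    (hc : IsBlockIdem H c) (hc' : IsBlockIdem H c') (hD : DefectIn p H c D) (hD' : DefectIn p H c' D')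
    (hQD : Q ≤ D) (hQD' : Q ≤ D')
    (hND : Subgroup.normalizer (D : Set G) ≤ H) (hND' : Subgroup.normalizer (D' : Set G) ≤ H)
    (hconj : ∀ g : G, D'.map (MulAut.conj g).toMonoidHom = D → g ∈ H)
    (hbr : br Q B * c = c) (hbr' : br Q B * c' = c') : c = c' := by
  obtain ⟨f, hf, hcf⟩ := exists_defect_pair hblk hND hc hD
  obtain ⟨f', hf', hcf'⟩ := exists_defect_pair hblk hND' hc' hD'
  obtain ⟨g, hg⟩ := exists_conj_eq_of_isMax hblk hB (isMax_of_defectIn hH hND hQD hB hc hD hbr hf hcf)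
    (isMax_of_defectIn hH hND' hQD' hB hc' hD' hbr' hf' hcf')
  have hgD : D'.map (MulAut.conj g).toMonoidHom = D := congrArg Prod.fst hg
  have hgf : conjEl g f' = f := congrArg Prod.snd hg
  have hgH := hconj g hgD
  obtain ⟨_, -, hu⟩ := existsUnique_block_sub hblk hND (e := f) ⟨hD.1, hf⟩
  refine (hu c ⟨hc, hcf⟩).trans (hu c' ⟨hc', ?_⟩).symm
  rw [← hc'.mem.2 g hgH, ← hgD, ← conjEl_br, ← hgf, ← map_mul, hcf']

/-- Uniqueness in the first main theorem. -/
theorem eq_of_br_defect (hblk : ∀ L : Subgroup G, HasBlocks k L) (hQ : IsPGroup p Q)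
    {B c c' : MonoidAlgebra k G} (hB : IsBlockIdem ⊤ B) (hD : DefectIn p ⊤ B Q)
    (hc : IsBlockIdem (Subgroup.normalizer (Q : Set G)) c) (hc' : IsBlockIdem (Subgroup.normalizer (Q : Set G)) c')
    (hbr : br Q B * c = c) (hbr' : br Q B * c' = c') : c = c' := by
  have key : ∀ e, IsBlockIdem (Subgroup.normalizer (Q : Set G)) e → br Q B * e = e →
      DefectIn p (Subgroup.normalizer (Q : Set G)) e Q := by
    intro e he heB
    have hne : br Q e ≠ 0 := by
      rw [br_eq_of_normal hQ Subgroup.le_normalizer le_rfl he]; exact he.ne_zero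
    refine ⟨hQ, Subgroup.le_normalizer, hne, fun R hR hRH hRne => ⟨1, one_mem _, ?_⟩⟩
    obtain ⟨E, hE, hRE⟩ := exists_defectIn hblk he hR hRH hRne
    have hQE := le_defect_of_normal hQ Subgroup.le_normalizer le_rfl he hE
    have hEB : br E B ≠ 0 := fun h0 => hE.2.2.1 (by
      rw [← heB, br_mul hE.1 (br_mem_fixedBy hB.mem.2 le_top hE.2.1) (fixedBy_anti hE.2.1 he.mem.2),
        br_br hQE, h0, zero_mul])
    rw [Subgroup.eq_of_le_of_card_ge hQE (hD.card_le hE.1 le_top hEB), map_conj_eq_of_mem_normalizer (one_mem _)]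
    exact hRE
  refine eq_of_common_br hblk le_rfl hB hc hc' (key c hc hbr) (key c' hc' hbr') le_rfl le_rfl le_rfl le_rfl
    (fun g hg => mem_normalizer_of_conj_le fun u hu => hg.le ⟨u, hu, rfl⟩) hbr hbr'

/-- The same inside a subgroup. -/
theorem eq_of_br_defect_sub (hblk : ∀ L : Subgroup G, HasBlocks k L) (hQ : IsPGroup p Q)
    {N : Subgroup G} (hQN : Q ≤ N) {d e e' : MonoidAlgebra k G} (hd : IsBlockIdem N d) (hD : DefectIn p N d Q)
    (he : IsBlockIdem (Subgroup.normalizer (Q : Set G) ⊓ N) e)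
    (he' : IsBlockIdem (Subgroup.normalizer (Q : Set G) ⊓ N) e')
    (hbr : br Q d * e = e) (hbr' : br Q d * e' = e') : e = e' := by
  obtain ⟨d₀, rfl⟩ := exists_incl_eq_of_supp hd.mem.1
  obtain ⟨e₀, rfl⟩ := exists_incl_eq_of_supp (suppIn_mono inf_le_right he.mem.1)
  obtain ⟨e₀', rfl⟩ := exists_incl_eq_of_supp (suppIn_mono inf_le_right he'.mem.1)
  have eQ := Subgroup.map_subgroupOf_eq_of_le hQN
  have hmapN : (Subgroup.normalizer ((Q.subgroupOf N : Subgroup N) : Set N)).map N.subtype =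
      Subgroup.normalizer (Q : Set G) ⊓ N := by
    ext g
    constructor
    · rintro ⟨x, hx, rfl⟩
      refine ⟨mem_normalizer_of_conj_le fun u hu => ?_, x.2⟩
      exact (Subgroup.mem_normalizer_iff.1 hx ⟨u, hQN hu⟩).1 hu
    · rintro ⟨hg, hgN⟩
      exact ⟨⟨g, hgN⟩, Subgroup.mem_normalizer_iff.2 fun u => Subgroup.mem_normalizer_iff.1 hg (u : G), rfl⟩
  have hD₀ : DefectIn p (⊤ : Subgroup N) d₀ (Q.subgroupOf N) := by
    rw [← defectIn_incl_iff, eQ]; exact hD
  rw [← hmapN, isBlockIdem_incl_iff] at he he'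
  have hb : ∀ a : MonoidAlgebra k N, br Q (incl N k d₀) * incl N k a = incl N k a →
      br (Q.subgroupOf N) d₀ * a = a := fun a ha => by
    rw [← eQ, br_incl, ← map_mul] at ha
    exact incl_injective N ha
  rw [eq_of_br_defect (fun K : Subgroup N => hasBlocks_sub hblk K) hD₀.1
    ((isBlockIdem_incl_iff ⊤ d₀).1 (by rwa [map_subtype_top])) hD₀ he he' (hb _ hbr) (hb _ hbr')]

/-- A defect group of a block of `H` over a block of `N ⊓ H` meets `N` in its defect group. -/
theorem inf_eq_of_covers (hblk : ∀ L : Subgroup G, HasBlocks k L) {N : Subgroup G} [N.Normal]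
    (hQ : IsPGroup p Q) (hQN : Q ≤ N) {c e : MonoidAlgebra k G}
    (hc : IsBlockIdem (Subgroup.normalizer (Q : Set G)) c)
    (he : IsBlockIdem (Subgroup.normalizer (Q : Set G) ⊓ N) e)
    (heD : DefectIn p (Subgroup.normalizer (Q : Set G) ⊓ N) e Q) (hce : c * e ≠ 0)
    (hD : DefectIn p (Subgroup.normalizer (Q : Set G)) c D) :
    Q ≤ D ∧ D ⊓ N = Q ∧ Subgroup.normalizer (D : Set G) ≤ Subgroup.normalizer (Q : Set G) := by
  classical
  have hQD := le_defect_of_normal hQ Subgroup.le_normalizer le_rfl hc hD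
  have hRp : IsPGroup p (D ⊓ N : Subgroup G) := hD.1.to_le inf_le_left
  have hRL : D ⊓ N ≤ Subgroup.normalizer (Q : Set G) ⊓ N := inf_le_inf_right N hD.2.1
  have hLn : Subgroup.normalizer (Q : Set G) ≤
      Subgroup.normalizer ((Subgroup.normalizer (Q : Set G) ⊓ N : Subgroup G) : Set G) := fun g hg =>
    mem_normalizer_of_conj_le fun u hu =>
      ⟨Subgroup.mul_mem _ (Subgroup.mul_mem _ hg hu.1) (Subgroup.inv_mem _ hg), ‹N.Normal›.conj_mem u hu.2 g⟩
  have hne : br (D ⊓ N : Subgroup G) c ≠ 0 := br_ne_zero_mono inf_le_left hD.2.2.1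
  obtain ⟨s, hs, h1⟩ := hblk (Subgroup.normalizer (Q : Set G) ⊓ N)
  obtain ⟨ε, hεs, hεne⟩ : ∃ ε ∈ s, br (D ⊓ N : Subgroup G) (c * ε) ≠ 0 := by
    by_contra h
    push_neg at h
    apply hne
    rw [← mul_one c, ← h1, Finset.mul_sum, map_sum]
    exact Finset.sum_eq_zero h
  have hε := hs ε hεs
  obtain ⟨g, hg, hgε⟩ := S4692.exists_conj_of_under inf_le_left hLn hc he hε hce
    fun h0 => hεne (by rw [h0, map_zero])
  have hεD : DefectIn p (Subgroup.normalizer (Q : Set G) ⊓ N) ε Q := by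
    have h := heD.conj g
    rwa [map_conj_eq_of_mem_normalizer (hLn hg), hgε, map_conj_eq_of_mem_normalizer hg] at h
  have hcard := hεD.card_le hRp hRL fun h0 => hεne (by
    rw [br_mul hRp (fixedBy_anti (inf_le_left.trans hD.2.1) hc.mem.2) (fixedBy_anti hRL hε.mem.2), h0, mul_zero])
  have hinf : D ⊓ N = Q := (Subgroup.eq_of_le_of_card_ge (le_inf hQD hQN) hcard).symm
  refine ⟨hQD, hinf, fun x hx => mem_normalizer_of_conj_le fun u hu => ?_⟩
  rw [← hinf] at hu ⊢
  exact ⟨((Subgroup.mem_normalizer_iff.1 hx) u).1 hu.1, ‹N.Normal›.conj_mem u hu.2 x⟩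

/-- Existence of a block over `e` corresponding to a block over `d`. -/
theorem exists_covering_corr (hblk : ∀ L : Subgroup G, HasBlocks k L) {N : Subgroup G} [N.Normal]
    (hQ : IsPGroup p Q) (hQN : Q ≤ N) {B d e : MonoidAlgebra k G} (hB : IsBlockIdem ⊤ B)
    (hd : IsBlockIdem N d) (hD : DefectIn p N d Q)
    (he : IsBlockIdem (Subgroup.normalizer (Q : Set G) ⊓ N) e) (hbr : br Q d * e = e) (hBd : B * d ≠ 0) :
    ∃ c, IsBlockIdem (Subgroup.normalizer (Q : Set G)) c ∧ br Q B * c = c ∧ c * e ≠ 0 := by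
  have hbd := mul_mem_centerIn_fixGroup hB.mem hd
  have hcomm : d * B = B * d := centerIn_commute (suppIn_mono le_top hd.mem.1) hB.mem.2
  have h := br_ne_zero_of_under (p := p) (le_fixGroup hd)
    (by rw [Subgroup.normalizer_eq_top]; exact le_top) hd hbd
    (by rw [mul_assoc, ← mul_assoc d B d, hcomm, mul_assoc, hd.idem, ← mul_assoc, hB.idem])
    (by rw [mul_assoc, hd.idem]) hBd hQ hQN hD.2.2.1
  rw [br_mul hQ (mem_fixedBy_of_top hB.mem _) (fixedBy_anti hQN hd.mem.2)] at h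
  obtain ⟨ε, hε, hne⟩ := exists_blockIdem_mul_ne_zero hblk (Subgroup.normalizer (Q : Set G) ⊓ N) h
  have hdz : br Q d ∈ centerIn k (Subgroup.normalizer (Q : Set G) ⊓ N) := by
    refine ⟨fun x hx => ?_, br_mem_fixedBy hd.mem.2 inf_le_right inf_le_left⟩
    rw [coeff_br]
    split_ifs with hxC
    · exact hd.mem.1 x fun hxN => hx ⟨Subgroup.centralizer_le_normalizer _ hxC, hxN⟩
    · rfl
  have hεd : br Q d * ε = ε := hε.mul_eq_self_of_ne hdz
    (by rw [← br_mul hQ (fixedBy_anti hQN hd.mem.2) (fixedBy_anti hQN hd.mem.2), hd.idem])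
    fun h0 => hne (by rw [mul_assoc, h0, mul_zero])
  obtain rfl : ε = e := eq_of_br_defect_sub hblk hQ hQN hd hD hε he hεd hbr
  rw [mul_assoc, hεd] at hne
  obtain ⟨c, hc, hne'⟩ := exists_blockIdem_mul_ne_zero hblk (Subgroup.normalizer (Q : Set G)) hne
  have hzB : br Q B ∈ centerIn k (Subgroup.normalizer (Q : Set G)) :=
    ⟨fun x hx => coeff_br_of_notMem B fun hxC => hx (Subgroup.centralizer_le_normalizer _ hxC),
      br_mem_fixedBy hB.mem.2 le_top le_rfl⟩
  have hce : ε * c = c * ε := centerIn_commute (suppIn_mono inf_le_left hε.mem.1) hc.mem.2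
  refine ⟨c, hc, hc.mul_eq_self_of_ne hzB
    (by rw [← br_mul hQ (mem_fixedBy_of_top hB.mem _) (mem_fixedBy_of_top hB.mem _), hB.idem])
    fun h0 => hne' (by rw [mul_assoc, hce, ← mul_assoc, h0, zero_mul]), fun h0 => hne' ?_⟩
  rw [mul_assoc, hce, h0, mul_zero]

/-- A block over `e` corresponds to blocks over `d`. -/
theorem mul_ne_zero_of_corr {N : Subgroup G} (hQ : IsPGroup p Q) (hQN : Q ≤ N)
    {B c d e : MonoidAlgebra k G} (hB : IsBlockIdem ⊤ B)
    (hc : IsBlockIdem (Subgroup.normalizer (Q : Set G)) c) (hd : IsBlockIdem N d) (hbr : br Q d * e = e)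
    (hbrB : br Q B * c = c) (hce : c * e ≠ 0) : B * d ≠ 0 := by
  intro h0
  apply hce
  have hsupp : br Q d ∈ suppIn k (Subgroup.normalizer (Q : Set G)) := fun x hx =>
    coeff_br_of_notMem d fun hxC => hx (Subgroup.centralizer_le_normalizer _ hxC)
  have hdc : c * br Q d = br Q d * c := (centerIn_commute hsupp hc.mem.2).symm
  calc c * e = br Q B * c * (br Q d * e) := by rw [hbrB, hbr]
    _ = br Q B * (c * br Q d) * e := by simp only [mul_assoc]
    _ = br Q B * br Q d * (c * e) := by rw [hdc]; simp only [mul_assoc]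
    _ = 0 := by
      rw [← br_mul hQ (mem_fixedBy_of_top hB.mem _) (fixedBy_anti hQN hd.mem.2), h0, map_zero, zero_mul]

end Abstract

section Prelude

variable {G : Type u} [Group G] [Finite G] {p : ℕ} [Fact p.Prime] {M : Ideal AlgInt} [M.IsMaximal]
  [CharP (AlgInt ⧸ M) p] {Q L : Subgroup G}

/-- The central character of a block of `L ≤ N(Q)` detects the Brauer image. -/
theorem omega_eq_one_iff_br (hQ : IsPGroup p Q) (hQL : Q ≤ L) (hLQ : L ≤ Subgroup.normalizer (Q : Set G))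
    {e : Set (IrrCharacter L)} (he : IsPBlock M e) {ξ : IrrCharacter L} (hξ : ξ ∈ e)
    {u : MonoidAlgebra ℂ L} (hu : Blocks.IsCentralElt u) (huS : Blocks.SCoeff M u)
    {z : MonoidAlgebra (AlgInt ⧸ M) G}
    (hz : br Q z = br Q (incl L (AlgInt ⧸ M) (Blocks.redA M u)))
    (hzz : br Q z * br Q z = br Q z) :
    Blocks.red M (Blocks.omega ξ.1 u) = 1 ↔ br Q z * blk M L e = blk M L e := by
  have hei := isBlockIdem_blk L he
  set v := incl L (AlgInt ⧸ M) (Blocks.redA M u)
  have hv : v ∈ centerIn (AlgInt ⧸ M) L := incl_mem_centerIn L fun g h => by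
    rw [Blocks.coeff_redA, Blocks.coeff_redA, hu g h]
  have hb : br Q v ∈ centerIn (AlgInt ⧸ M) L :=
    ⟨fun x hx => by rw [coeff_br]; simp [hv.1 x hx], br_mem_fixedBy hv.2 le_rfl hLQ⟩
  rw [hz] at hzz ⊢
  rw [← hei.omega_eq_one_iff hb hzz, ← omega_blk L he hξ hu huS]
  have hd : omega (blk M L e) (v - br Q v) = 0 := (hei.omega_eq_zero_iff (sub_mem hv hb)).2
    (Commute.isNilpotent_mul_right (centerIn_commute (sub_mem hv hb).1 hei.mem.2) (isNilpotent_sub_br p hQ hQL hLQ hv))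
  rw [show omega (blk M L e) v = omega (blk M L e) (br Q v) by
    conv_lhs => rw [← add_sub_cancel (br Q v) v]
    rw [hei.omega_add hb (sub_mem hv hb), hd, add_zero]]

/-- Induced blocks from `H ≤ N(Q)` through the Brauer map. -/
theorem isInducedBlock_iff_br (hpM : (p : AlgInt) ∈ M) (hQ : IsPGroup p Q) (hQL : Q ≤ L)
    (hCL : Subgroup.centralizer (Q : Set G) ≤ L) (hLQ : L ≤ Subgroup.normalizer (Q : Set G))
    {c : Set (IrrCharacter L)} (hc : IsPBlock M c) {B : Set (IrrCharacter G)} (hB : IsPBlock M B) :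
    IsInducedBlock M L c B ↔ br Q (blkG M B) * blk M L c = blk M L c := by
  obtain ⟨ξ, hξ⟩ := nonempty_of_isPBlock hc
  obtain ⟨χ, hχ⟩ := nonempty_of_isPBlock hB
  have hBi := isBlockIdem_blkG hB
  have huc := Blocks.isCentralElt_resH (H := L) (Blocks.isCentralElt_blockIdem B)
  have huS := Blocks.scoeff_resH (H := L) (Blocks.scoeff_blockIdem hB)
  have key := omega_eq_one_iff_br hQ hQL hLQ hc hξ huc huS (z := blkG M B) (by
      refine Blocks.alg_ext fun x => ?_
      rw [coeff_br, coeff_br]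
      split_ifs with hx
      · refine Eq.trans ?_ (coeff_incl_coe L _ (⟨x, hCL hx⟩ : L)).symm
        rw [Blocks.coeff_redA, Blocks.coeff_resH, Blocks.coeff_blockIdem, coeff_blkG]
      · rfl)
    (by rw [← br_mul hQ (mem_fixedBy_of_top hBi.mem _) (mem_fixedBy_of_top hBi.mem _), hBi.idem])
  rw [← key, ← Blocks.red_one (M := M),
    Blocks.red_eq_iff (Blocks.memLocalRing_omega ξ huc huS) Blocks.memLocalRing_one]
  constructor
  · intro h
    have h1 := Blocks.IsInducedBlock.omega_sub h hξ hχ (Blocks.isCentralElt_blockIdem B)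
      (Blocks.scoeff_blockIdem hB)
    rwa [Blocks.omega_blockIdem, if_pos hχ] at h1
  · intro h
    refine Blocks.isInducedBlock_of_omega hpM hQ hCL hLQ hQL hc hξ hB fun hI => ?_
    have h2 := Blocks.memLocalIdeal_omega_resH_sub_brH hpM hQ hQL
      hLQ (Blocks.isCentralElt_blockIdem B) (Blocks.scoeff_blockIdem hB) ξ
    exact Blocks.not_memLocalIdeal_one (M := M)
      (by simpa using Blocks.MemLocalIdeal.sub (Blocks.MemLocalIdeal.add h2 hI) h)

/-- Induction inside `N` through the Brauer map. -/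
theorem br_mul_of_isInducedBlockIn {N : Subgroup G} (hQ : IsPGroup p Q) (hQL : Q ≤ L)
    (hLN : L ≤ N) (hCL : N ⊓ Subgroup.centralizer (Q : Set G) ≤ L)
    (hLQ : L ≤ Subgroup.normalizer (Q : Set G))
    {e : Set (IrrCharacter L)} {d : Set (IrrCharacter N)} (h : IsInducedBlockIn M N L e d) :
    br Q (blk M N d) * blk M L e = blk M L e := by
  classical
  obtain ⟨ξ, hξ⟩ := nonempty_of_isPBlock h.1
  obtain ⟨χ, hχ⟩ := nonempty_of_isPBlock h.2.1
  haveI := Fintype.ofFinite (ConjClasses N)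
  haveI := Fintype.ofFinite L
  set u : MonoidAlgebra ℂ L := Blocks.ofFun fun l => blockCoeff d ⟨(l : G), hLN l.2⟩ with hu
  have huc : Blocks.IsCentralElt u := Blocks.isCentralElt_ofFun fun g h' =>
    blockCoeff_conj d (⟨(g : G), hLN g.2⟩ : N) ⟨(h' : G), hLN h'.2⟩
  have huS : Blocks.SCoeff M u := Blocks.scoeff_ofFun fun l => memLocalRing_blockCoeff h.2.1 _
  have hdi := isBlockIdem_blk N h.2.1
  refine (omega_eq_one_iff_br hQ hQL hLQ h.1 hξ huc huS ?_
    (by rw [← br_mul hQ (fixedBy_anti (hQL.trans hLN) hdi.mem.2) (fixedBy_anti (hQL.trans hLN) hdi.mem.2),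
      hdi.idem])).1 ?_
  · refine Blocks.alg_ext fun x => ?_
    rw [coeff_br, coeff_br]
    split_ifs with hx
    · rw [coeff_blk]
      by_cases hxN : x ∈ N
      · refine Eq.trans ?_ (coeff_incl_coe L _ (⟨x, hCL ⟨hxN, hx⟩⟩ : L)).symm
        rw [Blocks.coeff_redA, hu, Blocks.coeff_ofFun]
        exact congrArg _ (dif_pos hxN)
      · rw [coeff_incl_of_notMem L _ fun hl => hxN (hLN hl)]
        unfold subgroupBlockCoeff
        rw [dif_neg hxN, Blocks.red_zero]
    · rfl
  · have hR : Blocks.omega ξ.1 u = ∑ C : ConjClasses N, (Blocks.blockIdem d).coeff C.out *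
        inducedCentralCharIn N L ξ.1 (C.out : G) := by
      have hind : ∀ n : N, inducedCentralCharIn N L ξ.1 (n : G) =
          ∑ l : L, (Blocks.classSum ℂ n).coeff ⟨(l : G), hLN l.2⟩ * (ξ.1 l / ξ.1 1) := by
        intro n
        rw [inducedCentralCharIn, finsum_mem_eq_sum_of_inter_support_eq _
          (t := Finset.univ.filter fun k : L => ∃ x : N, (x : G) * (k : G) * (x : G)⁻¹ = n) (by ext; simp),
          Finset.sum_filter]
        refine Finset.sum_congr rfl fun l _ => ?_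
        rw [Blocks.coeff_classSum]
        by_cases hl : IsConj n ⟨(l : G), hLN l.2⟩
        · rw [if_pos hl, one_mul, if_pos]
          obtain ⟨x, hx⟩ := isConj_iff.1 hl.symm
          exact ⟨x, congrArg Subtype.val hx⟩
        · rw [if_neg hl, zero_mul, if_neg]
          rintro ⟨x, hx⟩
          exact hl (isConj_iff.2 ⟨x, Subtype.ext hx⟩ : IsConj (⟨(l : G), hLN l.2⟩ : N) n).symm
      simp only [hind, Finset.mul_sum]
      rw [Finset.sum_comm, Blocks.omega, Blocks.chiL_eq_sum, Finset.sum_div]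
      refine Finset.sum_congr rfl fun l _ => ?_
      rw [hu, Blocks.coeff_ofFun, ← Blocks.coeff_blockIdem]
      conv_lhs => rw [Blocks.IsCentralElt.eq_sum_classSum (Blocks.isCentralElt_blockIdem d)]
      simp only [MonoidAlgebra.coeff_sum, Finsupp.coe_finsetSum, Finset.sum_apply, MonoidAlgebra.coeff_smul,
        Finsupp.coe_smul, Pi.smul_apply, smul_eq_mul, Finset.sum_mul, Finset.sum_div]
      exact Finset.sum_congr rfl fun C _ => by ring
    have h1 : MemLocalIdeal M (Blocks.omega ξ.1 u - Blocks.omega χ.1 (Blocks.blockIdem d)) := by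
      rw [hR, Blocks.omega_eq_sum_classes χ (Blocks.isCentralElt_blockIdem d), ← Finset.sum_sub_distrib]
      refine Blocks.MemLocalIdeal.sum _ fun C _ => ?_
      rw [← mul_sub]
      exact Blocks.MemLocalIdeal.mul_left (Blocks.scoeff_blockIdem h.2.1 _) (h.2.2 ξ hξ χ hχ _)
    rw [Blocks.omega_blockIdem, if_pos hχ] at h1
    rwa [← Blocks.red_one (M := M),
      Blocks.red_eq_iff (Blocks.memLocalRing_omega ξ huc huS) Blocks.memLocalRing_one]

/-- Covering of blocks of a normal subgroup of a subgroup. -/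
theorem covers_iff_mul_ne_zero {H : Subgroup G} [Fintype L] (hLH : L ≤ H)
    (hHL : H ≤ Subgroup.normalizer (L : Set G)) {c : Set (IrrCharacter H)} (hc : IsPBlock M c)
    {e : Set (IrrCharacter L)} (he : IsPBlock M e) :
    (∃ ψ ∈ c, ∃ ξ ∈ e, classInner (fun l : L => (ψ : H → ℂ) (Subgroup.inclusion hLH l)) (ξ : L → ℂ) ≠ 0) ↔
      blk M H c * blk M L e ≠ 0 := by
  classical
  letI := Fintype.ofFinite (L.subgroupOf H)
  letI := Fintype.ofFinite H
  haveI : (L.subgroupOf H).Normal := ⟨fun l hl h => (Subgroup.mem_normalizer_iff.1 (hHL h.2) (l : G)).1 hl⟩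
  set ι := Subgroup.subgroupOfEquivOfLe hLH
  have he₀ := isPBlock_mapBlock ι he
  have hblk : blk M L e = incl H (AlgInt ⧸ M) (blk M (L.subgroupOf H) (mapBlock ι e)) := by
    refine Blocks.alg_ext fun g => ?_
    rw [coeff_blk]
    by_cases hg : g ∈ H
    · refine Eq.trans ?_ (coeff_incl_coe H _ (⟨g, hg⟩ : H)).symm
      rw [coeff_blk]
      unfold subgroupBlockCoeff
      by_cases hgL : g ∈ L
      · rw [dif_pos hgL, dif_pos (show (⟨g, hg⟩ : H) ∈ L.subgroupOf H from hgL), blockCoeff_mapBlock]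
        rfl
      · rw [dif_neg hgL, dif_neg (show (⟨g, hg⟩ : H) ∉ L.subgroupOf H from hgL)]
    · rw [coeff_incl_of_notMem H _ hg]
      unfold subgroupBlockCoeff
      rw [dif_neg fun h => hg (hLH h), Blocks.red_zero]
  have hinner : ∀ (ψ : IrrCharacter H) (ξ : IrrCharacter L),
      classInner (fun l : L.subgroupOf H => (ψ : H → ℂ) l) (compIrr ι ξ : L.subgroupOf H → ℂ) =
      classInner (fun l : L => (ψ : H → ℂ) (Subgroup.inclusion hLH l)) (ξ : L → ℂ) := fun ψ ξ => by
    unfold classInner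
    rw [Nat.card_congr ι.toEquiv]
    congr 1
    exact Fintype.sum_equiv ι.toEquiv _ _ fun l => rfl
  show _ ↔ incl H (AlgInt ⧸ M) (blkG M c) * _ ≠ 0
  rw [hblk, ← map_mul, incl_ne_zero_iff]
  constructor
  · rintro ⟨ψ, hψ, ξ, hξ, hne⟩
    exact mul_ne_zero_of_covers hc he₀ hψ ⟨ξ, hξ, rfl⟩ (by rw [hinner]; exact hne)
  · intro h
    obtain ⟨ψ, hψ, θ, ⟨ξ, hξ, rfl⟩, hne⟩ := covers_of_mul_ne_zero hc he₀ h
    exact ⟨ψ, hψ, ξ, hξ, by rwa [hinner] at hne⟩

end Prelude

end Cfsg.Agent.BrauerPairs
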