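import Cfsg.Agent.Lib.BrauerPairs.Lift
import Cfsg.Agent.Lib.BrauerPairs.Abstract

/-!
# Passing between `k[H]` and `k[G]` for a subgroup `H`, and defect groups inside a subgroup

* `incl` commutes with conjugation, `br` and `relTr`, and respects block idempotents.
* `DefectIn p H f D`: `D` is a defect group of the block idempotent `f` of the subgroup `H`
  (`br D f ≠ 0`, and every such `p`-subgroup of `H` is `H`-conjugate into `D`).
* `Step.of_incl`, `exists_conj_ple_sub`: pairs inside `H` and conjugacy by elements of `H`.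
-/

set_option autoImplicit false
set_option linter.unusedSectionVars false

open MonoidAlgebra
open scoped Classical

namespace Cfsg.Agent.BrauerPairs

universe u

variable {k : Type*} [Field k] {G : Type u} [Group G] [Finite G] {H : Subgroup G}

theorem conjEl_incl (h : H) (a : MonoidAlgebra k H) :
    incl H k (conjEl h a) = conjEl (h : G) (incl H k a) := by
  refine Blocks.alg_ext fun g => ?_
  rw [coeff_conjEl]
  by_cases hg : g ∈ H
  · rw [show (h : G)⁻¹ * g * h = ((h⁻¹ * ⟨g, hg⟩ * h : H) : G) by simp, coeff_incl_coe]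
    exact (coeff_incl_coe H _ (⟨g, hg⟩ : H)).trans (coeff_conjEl _ _ _)
  · rw [coeff_incl_of_notMem H _ hg, coeff_incl_of_notMem H a]
    exact fun h' => hg (by simpa [mul_assoc] using mul_mem (mul_mem h.2 h') (inv_mem h.2))

theorem map_centralizer_sub (R : Subgroup H) :
    (Subgroup.centralizer (R : Set H)).map H.subtype =
      H ⊓ Subgroup.centralizer ((R.map H.subtype : Subgroup G) : Set G) := by
  ext g
  constructor
  · rintro ⟨c, hc, rfl⟩
    refine ⟨c.2, Subgroup.mem_centralizer_iff.2 ?_⟩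
    rintro _ ⟨r, hr, rfl⟩
    exact congrArg Subtype.val (Subgroup.mem_centralizer_iff.1 hc r hr)
  · rintro ⟨hg, hc⟩
    refine ⟨⟨g, hg⟩, Subgroup.mem_centralizer_iff.2 fun r hr => Subtype.ext ?_, rfl⟩
    exact Subgroup.mem_centralizer_iff.1 hc _ ⟨r, hr, rfl⟩

theorem br_incl (R : Subgroup H) (a : MonoidAlgebra k H) :
    br (R.map H.subtype) (incl H k a) = incl H k (br R a) := by
  refine Blocks.alg_ext fun g => ?_
  rw [coeff_br]
  by_cases hg : g ∈ H
  · obtain ⟨g, rfl⟩ : ∃ g' : H, (g' : G) = g := ⟨⟨g, hg⟩, rfl⟩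
    rw [coeff_incl_coe, coeff_incl_coe, coeff_br]
    refine if_congr ?_ rfl rfl
    rw [← Subgroup.mem_map_iff_mem (f := H.subtype) H.subtype_injective, map_centralizer_sub]
    exact ⟨fun h => ⟨g.2, h⟩, fun h => h.2⟩
  · rw [coeff_incl_of_notMem H a hg, coeff_incl_of_notMem H _ hg, ite_self]

theorem incl_ne_zero_iff {a : MonoidAlgebra k H} : incl H k a ≠ 0 ↔ a ≠ 0 :=
  map_ne_zero_iff _ (incl_injective H)

theorem incl_mem_fixedBy_iff (K : Subgroup H) (a : MonoidAlgebra k H) :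
    incl H k a ∈ fixedBy k (K.map H.subtype) ↔ a ∈ fixedBy k K := by
  constructor
  · intro h u hu
    exact incl_injective H ((conjEl_incl u a).trans (h _ ⟨u, hu, rfl⟩))
  · rintro h _ ⟨u, hu, rfl⟩
    exact (conjEl_incl u a).symm.trans (congrArg _ (h u hu))

theorem incl_mem_suppIn_iff (K : Subgroup H) (a : MonoidAlgebra k H) :
    incl H k a ∈ suppIn k (K.map H.subtype) ↔ a ∈ suppIn k K := by
  constructor
  · intro h x hx
    rw [← coeff_incl_coe H a]
    exact h _ fun h' => hx ((Subgroup.mem_map_iff_mem H.subtype_injective).1 h')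
  · intro h g hg
    by_cases hgH : g ∈ H
    · obtain ⟨g, rfl⟩ : ∃ g' : H, (g' : G) = g := ⟨⟨g, hgH⟩, rfl⟩
      rw [coeff_incl_coe]
      exact h g fun h' => hg ⟨g, h', rfl⟩
    · exact coeff_incl_of_notMem H a hgH

theorem incl_mem_centerIn_iff (K : Subgroup H) (a : MonoidAlgebra k H) :
    incl H k a ∈ centerIn k (K.map H.subtype) ↔ a ∈ centerIn k K :=
  and_congr (incl_mem_suppIn_iff K a) (incl_mem_fixedBy_iff K a)

theorem exists_incl_eq_of_supp {z : MonoidAlgebra k G} (hz : z ∈ suppIn k H) :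
    ∃ a : MonoidAlgebra k H, incl H k a = z := by
  refine ⟨Blocks.ofFun fun h => z.coeff h, Blocks.alg_ext fun g => ?_⟩
  by_cases hg : g ∈ H
  · exact (coeff_incl_coe H _ (⟨g, hg⟩ : H)).trans (Blocks.coeff_ofFun _ _)
  · rw [coeff_incl_of_notMem H _ hg, hz g hg]

theorem suppIn_mono {K L : Subgroup G} (h : K ≤ L) : suppIn k K ≤ suppIn k L :=
  fun _ ha x hx => ha x fun h' => hx (h h')

theorem isBlockIdem_incl_iff (K : Subgroup H) (a : MonoidAlgebra k H) :
    IsBlockIdem (K.map H.subtype) (incl H k a) ↔ IsBlockIdem K a := by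
  have hinj := incl_injective H (k := k)
  constructor
  · rintro ⟨hm, hi, hn, hl⟩
    refine ⟨(incl_mem_centerIn_iff K a).1 hm, hinj (by rw [map_mul, hi]), incl_ne_zero_iff.1 hn, fun z hz => ?_⟩
    obtain ⟨c, hc⟩ := hl _ ((incl_mem_centerIn_iff K z).2 hz)
    refine ⟨c, ?_⟩
    rwa [← map_mul, ← map_smul, ← map_sub, IsNilpotent.map_iff hinj] at hc
  · rintro ⟨hm, hi, hn, hl⟩
    refine ⟨(incl_mem_centerIn_iff K a).2 hm, by rw [← map_mul, hi], incl_ne_zero_iff.2 hn, fun z hz => ?_⟩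
    obtain ⟨z, rfl⟩ := exists_incl_eq_of_supp (suppIn_mono (Subgroup.map_subtype_le K) hz.1)
    obtain ⟨c, hc⟩ := hl z ((incl_mem_centerIn_iff K z).1 hz)
    refine ⟨c, ?_⟩
    rwa [← map_mul, ← map_smul, ← map_sub, IsNilpotent.map_iff hinj]

theorem map_subtype_top : (⊤ : Subgroup H).map H.subtype = H := by
  rw [← MonoidHom.range_eq_map, Subgroup.range_subtype]

theorem hasBlocks_sub (hblk : ∀ L : Subgroup G, HasBlocks k L) (K : Subgroup H) : HasBlocks k K := by
  obtain ⟨s, hs, h1⟩ := hblk (K.map H.subtype)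
  have hinj : Set.InjOn (incl H k) (incl H k ⁻¹' ↑s) := (incl_injective H).injOn
  refine ⟨s.preimage (incl H k) hinj, fun a ha => (isBlockIdem_incl_iff K a).1 (hs _ (Finset.mem_preimage.1 ha)), ?_⟩
  apply incl_injective H
  rw [map_one, ← h1, map_sum]
  refine Finset.sum_preimage (incl H k) s hinj (fun f => f) fun f hf hrange => ?_
  exact absurd (exists_incl_eq_of_supp (suppIn_mono (Subgroup.map_subtype_le K) (hs f hf).mem.1)) hrange

theorem map_map_conj_subtype (h : H) (K : Subgroup H) :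
    (K.map (MulAut.conj h).toMonoidHom).map H.subtype =
      (K.map H.subtype).map (MulAut.conj (h : G)).toMonoidHom := by
  rw [Subgroup.map_map, Subgroup.map_map]
  congr 1

theorem incl_relTr (Q K : Subgroup H) {a : MonoidAlgebra k H} (ha : a ∈ fixedBy k Q) :
    incl H k (relTr Q K a) = relTr (Q.map H.subtype) (K.map H.subtype) (incl H k a) := by
  letI := Fintype.ofFinite (K ⧸ Q.subgroupOf K)
  letI := Fintype.ofFinite ((K.map H.subtype : Subgroup G) ⧸ (Q.map H.subtype).subgroupOf (K.map H.subtype))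
  rw [relTr, relTr, map_sum]
  let ι : K → (K.map H.subtype : Subgroup G) := fun x => ⟨((x : H) : G), ⟨(x : H), x.2, rfl⟩⟩
  have hι : ∀ x y : K, ((ι x)⁻¹ * ι y : (K.map H.subtype : Subgroup G)) = ι (x⁻¹ * y) :=
    fun x y => Subtype.ext (by simp [ι])
  have hmem : ∀ x : K, ι x ∈ (Q.map H.subtype).subgroupOf (K.map H.subtype) ↔ x ∈ Q.subgroupOf K := by
    intro x
    rw [Subgroup.mem_subgroupOf, Subgroup.mem_subgroupOf]
    exact Subgroup.mem_map_iff_mem H.subtype_injective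
  refine Fintype.sum_equiv (Equiv.ofBijective (Quotient.map' ι fun x y h => ?_) ⟨?_, ?_⟩) _ _ fun q => ?_
  · rw [QuotientGroup.leftRel_apply] at h ⊢
    rw [hι, hmem]
    exact h
  · intro q r
    induction q using Quotient.inductionOn'
    induction r using Quotient.inductionOn'
    intro e
    rw [Quotient.map'_mk'', Quotient.map'_mk''] at e
    have e' := QuotientGroup.eq.1 e
    rw [hι, hmem] at e'
    exact QuotientGroup.eq.2 e'
  · intro r
    induction r using Quotient.inductionOn' with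
    | _ y =>
      obtain ⟨_, x, hx, rfl⟩ := y
      exact ⟨QuotientGroup.mk (⟨x, hx⟩ : K), rfl⟩
  · rw [conjEl_incl]
    have hfix : incl H k a ∈ fixedBy k (Q.map H.subtype) := (incl_mem_fixedBy_iff Q a).2 ha
    refine conjEl_eq_of_quotient_eq hfix (h := ι q.out) ?_
    rw [QuotientGroup.out_eq']
    conv_rhs => rw [← QuotientGroup.out_eq' q]
    rfl

/-- Transitivity of the relative trace. -/
theorem relTr_trans {Q S T : Subgroup G} (hQS : Q ≤ S) (hST : S ≤ T) {a : MonoidAlgebra k G}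
    (ha : a ∈ fixedBy k Q) : relTr S T (relTr Q S a) = relTr Q T a := by
  letI := Fintype.ofFinite (T ⧸ S.subgroupOf T)
  letI := Fintype.ofFinite (S ⧸ Q.subgroupOf S)
  letI := Fintype.ofFinite (T ⧸ Q.subgroupOf T)
  rw [relTr, relTr, relTr]
  simp only [map_sum, ← conjEl_mul]
  rw [← Fintype.sum_prod_type']
  let φ : (T ⧸ S.subgroupOf T) × (S ⧸ Q.subgroupOf S) → T ⧸ Q.subgroupOf T := fun x =>
    ((x.1.out * ⟨((x.2.out : S) : G), hST (x.2.out : S).2⟩ : T) : T ⧸ Q.subgroupOf T)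
  refine Fintype.sum_equiv (Equiv.ofBijective φ ⟨?_, ?_⟩) _ _ fun x => ?_
  · rintro ⟨s₁, u₁⟩ ⟨s₂, u₂⟩ e
    simp only [φ, QuotientGroup.eq, Subgroup.mem_subgroupOf, Subgroup.coe_mul, Subgroup.coe_inv] at e
    set y := (((s₁.out : T) : G))⁻¹ * ((s₂.out : T) : G)
    have e' : ((u₁.out : S) : G)⁻¹ * (y * ((u₂.out : S) : G)) ∈ Q := by simpa [y, mul_assoc] using e
    have hy : y ∈ S := by
      have h := mul_mem (mul_mem (u₁.out : S).2 (hQS e')) (inv_mem (u₂.out : S).2)
      simpa [mul_assoc] using h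
    have hs : s₁ = s₂ := by
      rw [← QuotientGroup.out_eq' s₁, ← QuotientGroup.out_eq' s₂]
      show ((s₁.out : T) : T ⧸ S.subgroupOf T) = ((s₂.out : T) : T ⧸ S.subgroupOf T)
      rw [QuotientGroup.eq, Subgroup.mem_subgroupOf]
      simpa [y] using hy
    subst hs
    refine Prod.ext rfl ?_
    show u₁ = u₂
    rw [← QuotientGroup.out_eq' u₁, ← QuotientGroup.out_eq' u₂]
    show ((u₁.out : S) : S ⧸ Q.subgroupOf S) = ((u₂.out : S) : S ⧸ Q.subgroupOf S)
    rw [QuotientGroup.eq, Subgroup.mem_subgroupOf]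
    simpa [y] using e'
  · intro r
    set s : T ⧸ S.subgroupOf T := ((r.out : T) : T ⧸ S.subgroupOf T) with hs
    have hm : ((s.out : T) : G)⁻¹ * ((r.out : T) : G) ∈ S := by
      have h : ((s.out : T) : T ⧸ S.subgroupOf T) = (r.out : T) := by rw [QuotientGroup.out_eq', hs]
      rw [QuotientGroup.eq, Subgroup.mem_subgroupOf] at h
      simpa using h
    refine ⟨(s, ((⟨_, hm⟩ : S) : S ⧸ Q.subgroupOf S)), ?_⟩
    simp only [φ]
    refine Eq.trans ?_ (QuotientGroup.out_eq' r)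
    have e : ((((⟨_, hm⟩ : S) : S ⧸ Q.subgroupOf S).out : S) : S ⧸ Q.subgroupOf S) =
        ((⟨_, hm⟩ : S) : S ⧸ Q.subgroupOf S) := QuotientGroup.out_eq' _
    rw [eq_comm, QuotientGroup.eq, Subgroup.mem_subgroupOf] at e
    show ((_ : T) : T ⧸ Q.subgroupOf T) = ((r.out : T) : T ⧸ Q.subgroupOf T)
    rw [QuotientGroup.eq, Subgroup.mem_subgroupOf]
    have e' := inv_mem e
    simpa [mul_assoc] using e'
  · have e : ((x.1.out * ⟨((x.2.out : S) : G), hST (x.2.out : S).2⟩ : T) : T ⧸ Q.subgroupOf T) =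
        (((φ x).out : T) : T ⧸ Q.subgroupOf T) := (QuotientGroup.out_eq' (φ x)).symm
    have h1 := conjEl_eq_of_quotient_eq ha e
    rw [Subgroup.coe_mul] at h1
    exact h1

variable {p : ℕ} [Fact p.Prime] [CharP k p]

variable (p) in
/-- `D` is a defect group of the block idempotent `f` of `H`. -/
def DefectIn (H : Subgroup G) (f : MonoidAlgebra k G) (D : Subgroup G) : Prop :=
  IsPGroup p D ∧ D ≤ H ∧ br D f ≠ 0 ∧ ∀ R : Subgroup G, IsPGroup p R → R ≤ H → br R f ≠ 0 →
    ∃ h ∈ H, R.map (MulAut.conj h).toMonoidHom ≤ D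

theorem exists_blockIdem_mul_ne_zero (hblk : ∀ L : Subgroup G, HasBlocks k L) (L : Subgroup G)
    {z : MonoidAlgebra k G} (hz : z ≠ 0) : ∃ e, IsBlockIdem L e ∧ z * e ≠ 0 := by
  obtain ⟨s, hs, h1⟩ := hblk L
  by_contra h
  apply hz
  rw [← mul_one z, ← h1, Finset.mul_sum]
  exact Finset.sum_eq_zero fun g hg => by_contra fun h' => h ⟨g, hs g hg, h'⟩

theorem exists_isPairOf_of_br_ne_zero (hblk : ∀ L : Subgroup G, HasBlocks k L) {B : MonoidAlgebra k G}
    (hB : IsBlockIdem ⊤ B) {D : Subgroup G} (hD : IsPGroup p D) (h : br D B ≠ 0) :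
    ∃ e, IsPairOf p B (D, e) := by
  obtain ⟨e, he, hne⟩ := exists_blockIdem_mul_ne_zero hblk (Subgroup.centralizer (D : Set G)) h
  exact ⟨e, ⟨hD, he⟩, he.mul_eq_self_of_ne (br_top_mem hB.mem)
    (by rw [← br_mul hD (mem_fixedBy_of_top hB.mem _) (mem_fixedBy_of_top hB.mem _), hB.idem]) hne⟩

theorem IsPairOf.br_ne_zero {B : MonoidAlgebra k G} {a : Subgroup G × MonoidAlgebra k G}
    (ha : IsPairOf p B a) : br a.1 B ≠ 0 := fun h => ha.1.2.ne_zero (by rw [← ha.2, h, zero_mul])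

theorem exists_isMax_iff (hblk : ∀ L : Subgroup G, HasBlocks k L) {B : MonoidAlgebra k G}
    (hB : IsBlockIdem ⊤ B) (D : Subgroup G) :
    (∃ e, IsMax p B (D, e)) ↔ DefectIn p ⊤ B D := by
  constructor
  · rintro ⟨e, he⟩
    refine ⟨he.1.1.1, le_top, he.1.br_ne_zero, fun R hR _ hne => ?_⟩
    obtain ⟨f, hf⟩ := exists_isPairOf_of_br_ne_zero hblk hB hR hne
    obtain ⟨g, hg⟩ := exists_conj_of_isPairOf hblk hB he hf
    exact ⟨g, Subgroup.mem_top g, hg⟩
  · rintro ⟨hD, -, hne, hmax⟩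
    obtain ⟨e, he⟩ := exists_isPairOf_of_br_ne_zero hblk hB hD hne
    refine ⟨e, he, fun b hb => ?_⟩
    obtain ⟨g, -, hg⟩ := hmax b.1 hb.2.1.1 le_top ((step_isPairOf_iff hB hb).2 he).br_ne_zero
    exact (Subgroup.eq_of_le_of_card_ge hb.2.2.1 (card_map_conj g b.1 ▸ Subgroup.card_le_of_le hg)).symm

theorem defectIn_incl_iff (a : MonoidAlgebra k H) (D : Subgroup H) :
    DefectIn p H (incl H k a) (D.map H.subtype) ↔ DefectIn p (⊤ : Subgroup H) a D := by
  constructor
  · rintro ⟨hD, -, hne, hmax⟩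
    refine ⟨hD.of_equiv (D.equivMapOfInjective H.subtype H.subtype_injective).symm, le_top, ?_, fun R hR _ hRne => ?_⟩
    · rw [br_incl] at hne; exact incl_ne_zero_iff.1 hne
    · obtain ⟨h, hh, hle⟩ := hmax _ (hR.map _) (Subgroup.map_subtype_le _) (by rw [br_incl]; exact incl_ne_zero_iff.2 hRne)
      refine ⟨⟨h, hh⟩, Subgroup.mem_top _, ?_⟩
      rw [← Subgroup.map_le_map_iff_of_injective H.subtype_injective, map_map_conj_subtype]
      exact hle
  · rintro ⟨hD, -, hne, hmax⟩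
    refine ⟨hD.map _, Subgroup.map_subtype_le _, by rw [br_incl]; exact incl_ne_zero_iff.2 hne, fun R hR hRH hRne => ?_⟩
    have e := Subgroup.map_subgroupOf_eq_of_le hRH
    rw [← e, br_incl] at hRne
    obtain ⟨h, -, hle⟩ := hmax _ (hR.of_equiv (Subgroup.subgroupOfEquivOfLe hRH).symm) le_top (incl_ne_zero_iff.1 hRne)
    refine ⟨h, h.2, ?_⟩
    rw [← Subgroup.map_le_map_iff_of_injective H.subtype_injective, map_map_conj_subtype, e] at hle
    exact hle

namespace DefectIn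

variable {f : MonoidAlgebra k G} {D : Subgroup G}

theorem card_le (hD : DefectIn p H f D) {R : Subgroup G} (hR : IsPGroup p R) (hRH : R ≤ H)
    (h : br R f ≠ 0) : Nat.card R ≤ Nat.card D := by
  obtain ⟨g, -, hg⟩ := hD.2.2.2 R hR hRH h
  exact card_map_conj g R ▸ Subgroup.card_le_of_le hg

theorem conj (hD : DefectIn p H f D) (g : G) :
    DefectIn p (H.map (MulAut.conj g).toMonoidHom) (conjEl g f) (D.map (MulAut.conj g).toMonoidHom) := by
  refine ⟨hD.1.map _, Subgroup.map_mono hD.2.1, ?_, fun R hR hRH hne => ?_⟩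
  · rw [← conjEl_br]
    exact (map_ne_zero_iff _ (conjEl g).injective).2 hD.2.2.1
  · have eR : (R.map (MulAut.conj g⁻¹).toMonoidHom).map (MulAut.conj g).toMonoidHom = R := by
      have e := map_conj_map_conj_inv g⁻¹ R
      rwa [inv_inv] at e
    obtain ⟨h, hh, hle⟩ := hD.2.2.2 (R.map (MulAut.conj g⁻¹).toMonoidHom) (hR.map _)
      ((Subgroup.map_mono hRH).trans_eq (map_conj_map_conj_inv g H)) (by
        intro h0
        apply hne
        have h1 := congrArg (conjEl g) h0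
        rw [map_zero, conjEl_br, eR] at h1
        exact h1)
    refine ⟨g * h * g⁻¹, ⟨h, hh, by simp⟩, ?_⟩
    rintro _ ⟨u, hu, rfl⟩
    refine ⟨h * (g⁻¹ * u * g) * h⁻¹, hle ⟨g⁻¹ * u * g, ⟨u, hu, by simp⟩, by simp⟩, ?_⟩
    simp [mul_assoc]

theorem mem_conj (hD : DefectIn p H f D) (hf : f ∈ fixedBy k H) {h : G} (hh : h ∈ H) :
    DefectIn p H f (D.map (MulAut.conj h).toMonoidHom) := by
  have h1 := hD.conj h
  rwa [map_conj_eq_of_mem_normalizer (Subgroup.le_normalizer hh), hf h hh] at h1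

/-- A `p`-subgroup with nonzero Brauer image and large enough is a defect group. -/
theorem of_card_le (hD : DefectIn p H f D) (hf : f ∈ fixedBy k H) {R : Subgroup G} (hR : IsPGroup p R)
    (hRH : R ≤ H) (h : br R f ≠ 0) (hcard : Nat.card D ≤ Nat.card R) : DefectIn p H f R := by
  obtain ⟨g, hg, hle⟩ := hD.2.2.2 R hR hRH h
  have he := Subgroup.eq_of_le_of_card_ge hle (by rwa [card_map_conj])
  have h1 := hD.mem_conj hf (inv_mem hg)
  rwa [← he, map_conj_map_conj_inv] at h1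

end DefectIn

theorem exists_defectIn (hblk : ∀ L : Subgroup G, HasBlocks k L) {f : MonoidAlgebra k G}
    (hf : IsBlockIdem H f) {R : Subgroup G} (hR : IsPGroup p R) (hRH : R ≤ H) (h : br R f ≠ 0) :
    ∃ D, DefectIn p H f D ∧ R ≤ D := by
  obtain ⟨a, rfl⟩ := exists_incl_eq_of_supp hf.mem.1
  have ha : IsBlockIdem (⊤ : Subgroup H) a := (isBlockIdem_incl_iff ⊤ a).1 (by rwa [map_subtype_top])
  have hblk' := fun K : Subgroup H => hasBlocks_sub hblk K
  rw [← Subgroup.map_subgroupOf_eq_of_le hRH, br_incl, incl_ne_zero_iff] at h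
  obtain ⟨e, he⟩ := exists_isPairOf_of_br_ne_zero (p := p) hblk' ha
    (hR.of_equiv (Subgroup.subgroupOfEquivOfLe hRH).symm) h
  obtain ⟨⟨D, d⟩, hle, hmax⟩ := exists_max_above ha he
  refine ⟨D.map H.subtype, (defectIn_incl_iff a D).2 ((exists_isMax_iff hblk' ha D).1 ⟨d, hmax⟩), ?_⟩
  rw [← Subgroup.map_subgroupOf_eq_of_le hRH]
  exact Subgroup.map_mono hle.le

theorem DefectIn.exists_relTr_eq {f : MonoidAlgebra k G} {D : Subgroup G} (hblk : ∀ L : Subgroup G, HasBlocks k L)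
    (hf : IsBlockIdem H f) (hD : DefectIn p H f D) :
    ∃ A, A ∈ suppIn k H ∧ A ∈ fixedBy k D ∧ f = relTr D H A := by
  obtain ⟨a, rfl⟩ := exists_incl_eq_of_supp hf.mem.1
  have ha : IsBlockIdem (⊤ : Subgroup H) a := (isBlockIdem_incl_iff ⊤ a).1 (by rwa [map_subtype_top])
  have hblk' := fun K : Subgroup H => hasBlocks_sub hblk K
  have hD' := hD
  rw [← Subgroup.map_subgroupOf_eq_of_le hD.2.1, defectIn_incl_iff] at hD'
  obtain ⟨e, he⟩ := (exists_isMax_iff hblk' ha _).2 hD'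
  obtain ⟨-, -, -, -, -, ⟨A, hA, hAeq⟩, -, -⟩ := exists_trace_factor hblk' ha he
  refine ⟨incl H k A, fun x hx => coeff_incl_of_notMem H A hx, ?_, ?_⟩
  · rw [← Subgroup.map_subgroupOf_eq_of_le hD.2.1, incl_mem_fixedBy_iff]
    exact hA
  · conv_lhs => rw [hAeq, incl_relTr _ _ hA, map_subtype_top, Subgroup.map_subgroupOf_eq_of_le hD.2.1]

/-! ### Pairs inside a subgroup -/

/-- A pair of `H` as a pair of `G`. -/
noncomputable def inclPair (a : Subgroup H × MonoidAlgebra k H) : Subgroup G × MonoidAlgebra k G :=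
  (a.1.map H.subtype, incl H k a.2)

theorem IsPair.of_incl {a : Subgroup H × MonoidAlgebra k H} (ha : IsPair p a)
    (hC : Subgroup.centralizer ((a.1.map H.subtype : Subgroup G) : Set G) ≤ H) : IsPair p (inclPair a) := by
  refine ⟨ha.1.map _, ?_⟩
  have h := (isBlockIdem_incl_iff _ a.2).2 ha.2
  rwa [map_centralizer_sub, inf_eq_right.2 hC] at h

theorem Step.of_incl {a b : Subgroup H × MonoidAlgebra k H} (h : Step p a b)
    (hC : Subgroup.centralizer ((a.1.map H.subtype : Subgroup G) : Set G) ≤ H) :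
    Step p (inclPair a) (inclPair b) := by
  obtain ⟨ha, hb, hab, hn, hfix, hbr⟩ := h
  refine ⟨ha.of_incl hC, hb.of_incl (le_trans (Subgroup.centralizer_le (Subgroup.map_mono hab)) hC),
    Subgroup.map_mono hab, ?_, (incl_mem_fixedBy_iff _ _).2 hfix, ?_⟩
  · rintro _ ⟨u, hu, rfl⟩
    apply mem_normalizer_of_conj_le
    rintro _ ⟨v, hv, rfl⟩
    exact ⟨u * v * u⁻¹, (Subgroup.mem_normalizer_iff.1 (hn hu) v).1 hv, rfl⟩
  · show br (b.1.map H.subtype) (incl H k a.2) * incl H k b.2 = incl H k b.2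
    rw [br_incl, ← map_mul, hbr]

theorem PLE.of_incl {a b : Subgroup H × MonoidAlgebra k H} (h : PLE p a b)
    (hC : Subgroup.centralizer ((a.1.map H.subtype : Subgroup G) : Set G) ≤ H) :
    PLE p (inclPair a) (inclPair b) := by
  induction h with
  | refl => exact Relation.ReflTransGen.refl
  | tail h1 h2 ih =>
    exact Relation.ReflTransGen.tail ih
      (h2.of_incl (le_trans (Subgroup.centralizer_le (Subgroup.map_mono (PLE.le h1))) hC))

/-- Conjugacy inside `H`: a pair of the block `f` of `H` is `H`-conjugate below one on a defect group. -/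
theorem exists_conj_ple_sub (hblk : ∀ L : Subgroup G, HasBlocks k L) {f : MonoidAlgebra k G}
    (hf : IsBlockIdem H f) {a b : Subgroup G × MonoidAlgebra k G} (ha : IsPair p a) (haH : a.1 ≤ H)
    (haC : Subgroup.centralizer (a.1 : Set G) ≤ H) (hae : br a.1 f * a.2 = a.2) (haD : DefectIn p H f a.1)
    (hb : IsPair p b) (hbH : b.1 ≤ H) (hbC : Subgroup.centralizer (b.1 : Set G) ≤ H)
    (hbe : br b.1 f * b.2 = b.2) : ∃ h ∈ H, PLE p (conjPair h b) a := by
  obtain ⟨f₀, rfl⟩ := exists_incl_eq_of_supp hf.mem.1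
  have hf₀ : IsBlockIdem (⊤ : Subgroup H) f₀ := (isBlockIdem_incl_iff ⊤ f₀).1 (by rwa [map_subtype_top])
  have hblk' := fun K : Subgroup H => hasBlocks_sub hblk K
  have lift : ∀ c : Subgroup G × MonoidAlgebra k G, IsPair p c → c.1 ≤ H →
      Subgroup.centralizer (c.1 : Set G) ≤ H → br c.1 (incl H k f₀) * c.2 = c.2 →
      ∃ c' : Subgroup H × MonoidAlgebra k H, inclPair c' = c ∧ IsPairOf p f₀ c' := by
    rintro ⟨X, x⟩ hc hX hXC hce
    simp only at hX hXC hce
    obtain ⟨x', rfl⟩ := exists_incl_eq_of_supp (suppIn_mono hXC hc.2.mem.1)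
    have e := Subgroup.map_subgroupOf_eq_of_le hX
    refine ⟨(X.subgroupOf H, x'), Prod.ext e rfl, ⟨hc.1.of_equiv (Subgroup.subgroupOfEquivOfLe hX).symm, ?_⟩, ?_⟩
    · have h : IsBlockIdem (Subgroup.centralizer (X : Set G)) (incl H k x') := hc.2
      rw [← inf_eq_right.2 hXC, ← e, ← map_centralizer_sub, isBlockIdem_incl_iff] at h
      exact h
    · rw [← e, br_incl, ← map_mul] at hce
      exact incl_injective H hce
  obtain ⟨a', rfl, ha'⟩ := lift a ha haH haC hae
  obtain ⟨b', rfl, hb'⟩ := lift b hb hbH hbC hbe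
  have hmax : IsMax p f₀ a' := by
    refine ⟨ha', fun c hc => ?_⟩
    refine (Subgroup.eq_of_le_of_card_ge hc.2.2.1 ?_).symm
    exact ((defectIn_incl_iff f₀ a'.1).1 haD).card_le hc.2.1.1 le_top ((step_isPairOf_iff hf₀ hc).2 ha').br_ne_zero
  obtain ⟨g, hg⟩ := exists_conj_ple hblk' hf₀ hmax hb'
  refine ⟨g, g.2, ?_⟩
  have hC : Subgroup.centralizer (((conjPair g b').1.map H.subtype : Subgroup G) : Set G) ≤ H := by
    show Subgroup.centralizer ((((b'.1.map _).map H.subtype : Subgroup G)) : Set G) ≤ H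
    rw [map_map_conj_subtype, ← map_conj_centralizer]
    rintro _ ⟨c, hc, rfl⟩
    exact mul_mem (mul_mem g.2 (hbC hc)) (inv_mem g.2)
  have h := PLE.of_incl hg hC
  rwa [show inclPair (conjPair g b') = conjPair (g : G) (inclPair b') from
    Prod.ext (map_map_conj_subtype g b'.1) (conjEl_incl g b'.2)] at h

end Cfsg.Agent.BrauerPairs
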