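import Cfsg.Agent.Lib.BrauerPairs.Rank

/-!
# Blocks of rank one: the Cartan invariant is the order of the defect group
-/

namespace Cfsg.Agent.BrauerPairs

open scoped ComplexConjugate

universe u

variable {G : Type u} [Group G] [Fintype G] {p : ℕ} {M : Ideal AlgInt}

theorem exists_nat_bezout {ι : Type*} [Fintype ι] (f : ι → ℕ) {i₀ : ι} (h : 0 < f i₀) :
    ∃ g : ℕ, 0 < g ∧ (∀ i, g ∣ f i) ∧ ∃ n : ι → ℤ, ∑ i, n i * f i = g := by
  obtain ⟨x, hx⟩ := Submodule.IsPrincipal.principal (Ideal.span (Set.range fun i => (f i : ℤ)))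
  have hmem : x ∈ Ideal.span (Set.range fun i => (f i : ℤ)) := by
    rw [hx]; exact Submodule.mem_span_singleton_self x
  obtain ⟨n, hn⟩ := (Submodule.mem_span_range_iff_exists_fun ℤ).1 hmem
  have hdvd : ∀ i, x ∣ (f i : ℤ) := fun i => by
    have : (f i : ℤ) ∈ Ideal.span (Set.range fun i => (f i : ℤ)) :=
      Ideal.subset_span ⟨i, rfl⟩
    rw [hx] at this
    obtain ⟨c, hc⟩ := Submodule.mem_span_singleton.1 this
    exact ⟨c, by rw [← hc, smul_eq_mul, mul_comm]⟩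
  refine ⟨x.natAbs, Int.natAbs_pos.2 fun h0 => ?_, fun i => by
    simpa using Int.natAbs_dvd_natAbs.2 (hdvd i), fun i => x.sign * n i, ?_⟩
  · have := hdvd i₀
    rw [h0, zero_dvd_iff] at this
    omega
  · simp only [mul_assoc, ← Finset.mul_sum]
    simp only [smul_eq_mul] at hn
    rw [hn]
    simpa using Int.sign_mul_self x

/-- In a block of rank one all restrictions to regular elements are proportional. -/
theorem regFun_eq_smul_of_rank_one (hp : p.Prime) {B : Set (IrrCharacter G)}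
    (hl : blockRank p B = 1) {χ ψ : IrrCharacter G} (hχ : χ ∈ B) (hψ : ψ ∈ B) :
    Char.regFun p ψ.1 = (ψ.1 1 / χ.1 1) • Char.regFun p χ.1 := by
  set V : Submodule ℂ (G → ℂ) :=
    Submodule.span ℂ ((fun χ : IrrCharacter G => pRegularPart p (χ : G → ℂ)) '' B)
  have hmem : ∀ η ∈ B, Char.regFun p η.1 ∈ V := fun η hη =>
    Submodule.subset_span ⟨η, hη, pRegularPart_eq_regFun p _⟩
  have h1 : ∀ η : IrrCharacter G, Char.regFun p η.1 1 = η.1 1 := fun η => by
    simp [Char.regFun, hp.ne_one]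
  have hne : (⟨_, hmem χ hχ⟩ : V) ≠ 0 := fun h => by
    have h2 : Char.regFun p χ.1 1 = 0 := congrFun (congrArg Subtype.val h) 1
    rw [h1] at h2
    exact Char.IsIrrCharacter.apply_one_ne_zero χ.2 h2
  obtain ⟨c, hc⟩ := exists_smul_eq_of_finrank_eq_one hl hne ⟨_, hmem ψ hψ⟩
  have hc' : c • Char.regFun p χ.1 = Char.regFun p ψ.1 := congrArg Subtype.val hc
  have hc1 := congrFun hc' 1
  rw [Pi.smul_apply, smul_eq_mul, h1, h1] at hc1
  rw [← hc', ← hc1, mul_div_assoc, div_self (Char.IsIrrCharacter.apply_one_ne_zero χ.2), mul_one]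

/-- The Cartan invariant of a block of rank one. -/
theorem rank_one_data [M.IsMaximal] [CharP (AlgInt ⧸ M) p] [Fact p.Prime]
    (hpM : (p : AlgInt) ∈ M) {B : Set (IrrCharacter G)} (hB : IsPBlock M B)
    (hl : blockRank p B = 1) :
    ∃ φ : G → ℂ, ∃ d : IrrCharacter G → ℕ,
      (∃ n : IrrCharacter G → ℤ, ∀ x : G, IsPRegular p x →
        φ x = ∑ᶠ ψ ∈ B, (n ψ : ℂ) * (ψ : G → ℂ) x) ∧
      (∀ χ ∈ B, ∀ x : G, IsPRegular p x → (χ : G → ℂ) x = (d χ : ℂ) * φ x) ∧
      ∑ᶠ χ ∈ B, d χ ^ 2 = p ^ blockDefect p B := by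
  classical
  have hp : p.Prime := Fact.out
  obtain ⟨χ₀, hχ₀, h00⟩ := Blocks.exists_height_zero hpM hB
  obtain ⟨g, hg0, hgdvd, n, hn⟩ :=
    exists_nat_bezout (fun χ : B => Char.degree χ.1) (i₀ := ⟨χ₀, hχ₀⟩) (Char.degree_pos _)
  set φ : G → ℂ := ((g : ℂ) / χ₀.1 1) • Char.regFun p χ₀.1 with hφ
  set d : IrrCharacter G → ℕ := fun χ => Char.degree χ / g with hd
  have hg : (g : ℂ) ≠ 0 := Nat.cast_ne_zero.2 hg0.ne'
  have hdeg : ∀ χ : B, (d χ.1 : ℂ) * g = χ.1.1 1 := fun χ => by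
    rw [Char.apply_one_eq_degree, ← Nat.cast_mul, Nat.div_mul_cancel (hgdvd χ)]
  have hreg : ∀ χ : B, Char.regFun p χ.1.1 = (d χ.1 : ℂ) • φ := fun χ => by
    rw [hφ, smul_smul, ← mul_div_assoc, hdeg]
    exact regFun_eq_smul_of_rank_one hp hl hχ₀ χ.2
  have hnd : ∑ χ : B, (n χ : ℂ) * (d χ.1 : ℂ) = 1 := by
    refine mul_right_cancel₀ hg ?_
    rw [one_mul, Finset.sum_mul]
    calc ∑ χ : B, (n χ : ℂ) * (d χ.1 : ℂ) * g
        = ((∑ χ : B, n χ * (Char.degree χ.1 : ℤ) : ℤ) : ℂ) := by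
          push_cast
          refine Finset.sum_congr rfl fun χ _ => ?_
          rw [mul_assoc, hdeg, Char.apply_one_eq_degree]
      _ = _ := by rw [hn]; norm_cast
  have hφsum : φ = ∑ χ : B, (n χ : ℂ) • Char.regFun p χ.1.1 := by
    simp only [hreg, smul_smul, ← Finset.sum_smul, hnd, one_smul]
  refine ⟨φ, d, ⟨fun ψ => if h : ψ ∈ B then n ⟨ψ, h⟩ else 0, fun x hx => ?_⟩,
    fun χ hχ x hx => ?_, ?_⟩
  · rw [finsum_mem_eq_toFinset_sum, Finset.sum_subtype (p := (· ∈ B)) B.toFinset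
      (fun _ => Set.mem_toFinset), hφsum, Finset.sum_apply]
    refine Finset.sum_congr rfl fun χ _ => ?_
    simp only [dif_pos χ.2]
    rw [Pi.smul_apply, smul_eq_mul, Char.regFun,
      if_neg (show ¬ p ∣ orderOf x from hx)]
  · have h := congrFun (hreg ⟨χ, hχ⟩) x
    rwa [Pi.smul_apply, smul_eq_mul, Char.regFun, if_neg (show ¬ p ∣ orderOf x from hx)] at h
  rw [finsum_mem_eq_toFinset_sum, Finset.sum_subtype (p := (· ∈ B)) B.toFinset
    (fun _ => Set.mem_toFinset)]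
  set S : ℕ := ∑ χ : B, d χ.1 ^ 2 with hS
  set r : ℂ := classInner φ φ with hr
  have hdot : ∀ χ ν : B, regDot p χ.1.1 ν.1.1 = (d χ.1 : ℂ) * d ν.1 * r := by
    intro χ ν
    have h := classInner_regFun_right p (Char.regFun p χ.1.1) ν.1.1
    rw [regDot, regFun_regFun] at h
    change _ = regDot p χ.1.1 ν.1.1 at h
    rw [← h, hreg, hreg, Char.classInner_smul_left, Char.classInner_smul_right, map_natCast, hr,
      mul_assoc]
  have hrS : r * (S : ℂ) = 1 := by
    have h := blockRank_eq_sum hpM hp hB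
    rw [hl, Nat.cast_one] at h
    rw [h, hS, Nat.cast_sum, Finset.mul_sum]
    refine Finset.sum_congr rfl fun χ _ => ?_
    rw [← regDot, hdot, Nat.cast_pow]
    ring
  have hex : ∀ χ : B, ∃ c : IrrCharacter G → ℤ,
      ∀ μ, ((p ^ blockDefect p B : ℕ) : ℂ) * regDot p χ.1.1 μ.1 = c μ :=
    fun χ => exists_int_regDot hpM hp hB χ.2
  choose c hc using hex
  set P : ℕ := p ^ blockDefect p B with hP
  set m : ℤ := ∑ χ : B, ∑ ν : B, n χ * n ν * c χ ν.1
  have hm : (m : ℂ) = (P : ℂ) * r := by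
    calc (m : ℂ) = ∑ χ : B, ∑ ν : B,
          ((n χ : ℂ) * d χ.1) * ((n ν : ℂ) * d ν.1) * ((P : ℂ) * r) := by
          simp only [m, Int.cast_sum, Int.cast_mul]
          refine Finset.sum_congr rfl fun χ _ => Finset.sum_congr rfl fun ν _ => ?_
          rw [← hc, hdot]
          ring
      _ = _ := by simp only [← Finset.sum_mul, ← Finset.mul_sum, hnd, one_mul]
  have hmS : m * (S : ℤ) = (P : ℤ) := by
    have : (((m * (S : ℤ)) : ℤ) : ℂ) = ((P : ℤ) : ℂ) := by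
      push_cast
      rw [hm, mul_assoc, hrS, mul_one]
    exact_mod_cast this
  have hmp : ¬ (p : ℤ) ∣ m := by
    set χ : B := ⟨χ₀, hχ₀⟩
    have h := (intCoeff_of_height_zero hpM hp hB hχ₀ hχ₀ h00 (hc χ χ₀)).2 h00
    have he : c χ χ₀ = (d χ₀ : ℤ) * d χ₀ * m := by
      have : (c χ χ₀ : ℂ) = (((d χ₀ : ℤ) * d χ₀ * m : ℤ) : ℂ) := by
        push_cast
        rw [← hc, hm, hdot χ χ]
        ring
      exact_mod_cast this
    exact fun hd => h (he ▸ dvd_mul_of_dvd_right hd _)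
  have hm1 : m.natAbs = 1 := by
    have h2 : m.natAbs * S = P := by
      have := congrArg Int.natAbs hmS
      rwa [Int.natAbs_mul, Int.natAbs_natCast, Int.natAbs_natCast] at this
    have h3 : m.natAbs.Coprime P := by
      refine Nat.Coprime.pow_right _ ((hp.coprime_iff_not_dvd.2 fun hd => hmp ?_).symm)
      rwa [Int.natCast_dvd]
    exact Nat.Coprime.eq_one_of_dvd h3 ⟨S, h2.symm⟩
  have := congrArg Int.natAbs hmS
  rwa [Int.natAbs_mul, Int.natAbs_natCast, Int.natAbs_natCast, hm1, one_mul] at this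

end Cfsg.Agent.BrauerPairs
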