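import Cfsg.Agent.Lib.BrauerPairs.Rank
import Mathlib.RingTheory.IntegralDomain

/-!
# Blocks with a central defect group have rank one
-/

namespace Cfsg.Agent.BrauerPairs

open scoped ComplexConjugate

universe u

variable {G : Type u} [Group G] [Fintype G] {p : ℕ} {M : Ideal AlgInt}

theorem norm_apply_of_central (χ : IrrCharacter G) {z : G} (hz : z ∈ Subgroup.center G) :
    ‖χ.1 z‖ = ‖χ.1 1‖ := by
  obtain ⟨n, ρ, hρ, he⟩ := χ.2
  haveI := hρ
  rw [← he]
  exact (CharInt.norm_eq_iff_scalar ρ z).2 (CharInt.exists_smul_one_of_mem_center ρ hz)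

/-- The central character of `χ` on a central subgroup. -/
noncomputable def centralLin (χ : IrrCharacter G) (P : Subgroup G) (hP : P ≤ Subgroup.center G) :
    P →* ℂ where
  toFun z := χ.1 z / χ.1 1
  map_one' := by
    rw [OneMemClass.coe_one, div_self (Char.IsIrrCharacter.apply_one_ne_zero χ.2)]
  map_mul' z w := by
    have h1 := Char.IsIrrCharacter.apply_one_ne_zero χ.2
    have h := CharInt.char_mul_of_mem_centre (Char.irr_isCharacter χ)
      (norm_apply_of_central χ (hP z.2)) (w : G)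
    rw [Subgroup.coe_mul]
    field_simp
    linear_combination h

theorem apply_mul_of_central (χ : IrrCharacter G) (P : Subgroup G) (hP : P ≤ Subgroup.center G)
    (z : P) (x : G) : χ.1 (z * x) = centralLin χ P hP z * χ.1 x := by
  have h1 := Char.IsIrrCharacter.apply_one_ne_zero χ.2
  have h := CharInt.char_mul_of_mem_centre (Char.irr_isCharacter χ)
    (norm_apply_of_central χ (hP z.2)) x
  show _ = χ.1 z / χ.1 1 * _
  field_simp
  linear_combination h

theorem conj_centralLin (χ : IrrCharacter G) (P : Subgroup G) (hP : P ≤ Subgroup.center G)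
    (z : P) : conj (centralLin χ P hP z) = centralLin χ P hP z⁻¹ := by
  show conj (χ.1 z / χ.1 1) = χ.1 (z⁻¹ : P) / χ.1 1
  rw [map_div₀, Char.IsCharacter.conj_apply (Char.irr_isCharacter χ),
    Char.IsCharacter.conj_apply (Char.irr_isCharacter χ) 1, inv_one, InvMemClass.coe_inv]

/-- For `z ≠ 1` central of `p`-power order, `Σ_{ν ∈ B} conj λ_ν(z) ⟨χ°,ν⟩⟨ν°,η⟩ = 0`. -/
theorem twisted_sum_eq_zero [M.IsMaximal] (hpM : (p : AlgInt) ∈ M) (hp : p.Prime)
    {B : Set (IrrCharacter G)} [DecidablePred (· ∈ B)] (hB : IsPBlock M B)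
    (P : Subgroup G) (hP : P ≤ Subgroup.center G) (hPp : IsPGroup p P) {z : P} (hz : z ≠ 1)
    (f f' : G → ℂ) :
    ∑ ν : B, conj (centralLin ν.1 P hP z) * (regDot p f ν.1.1 * regDot p ν.1.1 f') = 0 := by
  classical
  haveI := Fact.mk hp
  simp only [regDot, classInner, mul_assoc, Finset.sum_mul, Finset.mul_sum]
  rw [Finset.sum_comm]
  refine Finset.sum_eq_zero fun y _ => ?_
  rw [Finset.sum_comm]
  refine Finset.sum_eq_zero fun x _ => ?_
  by_cases hx : p ∣ orderOf x
  · exact Finset.sum_eq_zero fun ν _ => by simp [Char.regFun, hx]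
  by_cases hy : p ∣ orderOf y
  · exact Finset.sum_eq_zero fun ν _ => by simp [Char.regFun, hy]
  have hzord : ∃ k, orderOf (z : G) = p ^ k := by
    obtain ⟨k, hk⟩ := IsPGroup.iff_orderOf.1 hPp z
    exact ⟨k, by rw [Subgroup.orderOf_coe, hk]⟩
  have hzx : ¬ IsPRegular p ((z : G) * x) := by
    rw [← (Subgroup.mem_center_iff.1 (hP z.2) x)]
    rw [Blocks.isPRegular_mul_iff (Subgroup.mem_center_iff.1 (hP z.2) x) hx hzord]
    exact fun h => hz (Subtype.ext h)
  have h := Blocks.weak_orthogonality hpM hB (show IsPRegular p y from hy) hzx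
  rw [Finset.sum_subtype (p := (· ∈ B)) (Finset.univ.filter (· ∈ B)) (fun ν => by simp)
    (fun ν : IrrCharacter G => ν.1 y * conj (ν.1 ((z : G) * x)))] at h
  simp only [Char.regFun, if_neg hx, if_neg hy]
  calc _ = (Nat.card G : ℂ)⁻¹ * (Nat.card G : ℂ)⁻¹ * f x * conj (f' y) *
        ∑ ν : B, ν.1.1 y * conj (ν.1.1 ((z : G) * x)) := by
        rw [Finset.mul_sum]
        refine Finset.sum_congr rfl fun ν _ => ?_
        rw [apply_mul_of_central ν.1 P hP z x, map_mul]
        ring
    _ = 0 := by rw [h, mul_zero]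

/-- Restricted to one central character, `⟨χ°, ·⟩` is still idempotent up to `|P|`. -/
theorem card_mul_sum_fibre [M.IsMaximal] (hpM : (p : AlgInt) ∈ M) (hp : p.Prime)
    {B : Set (IrrCharacter G)} [DecidablePred (· ∈ B)] (hB : IsPBlock M B)
    (P : Subgroup G) (hP : P ≤ Subgroup.center G) (hPp : IsPGroup p P)
    {χ : IrrCharacter G} (hχ : χ ∈ B) (η : G → ℂ) (ν₀ : IrrCharacter G)
    [DecidablePred fun ν : B => centralLin ν.1 P hP = centralLin ν₀ P hP] :
    (Nat.card P : ℂ) * ∑ ν ∈ Finset.univ.filter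
        (fun ν : B => centralLin ν.1 P hP = centralLin ν₀ P hP),
        regDot p χ.1 ν.1.1 * regDot p ν.1.1 η = regDot p χ.1 η := by
  classical
  haveI := Fintype.ofFinite P
  have key : ∀ ν : B, ∑ z : P, centralLin ν₀ P hP z * conj (centralLin ν.1 P hP z) =
      if centralLin ν.1 P hP = centralLin ν₀ P hP then (Nat.card P : ℂ) else 0 := by
    intro ν
    have hmul : ∀ z w : P, (z * w)⁻¹ = z⁻¹ * w⁻¹ := fun z w => by
      rw [mul_inv_rev]
      refine Subtype.ext ?_
      exact Subgroup.mem_center_iff.1 (hP (z⁻¹).2) _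
    let f : P →* ℂ :=
      { toFun := fun z => centralLin ν₀ P hP z * centralLin ν.1 P hP z⁻¹
        map_one' := by rw [inv_one, map_one, map_one, one_mul]
        map_mul' := fun z w => by rw [hmul, map_mul, map_mul]; ring }
    have hf : ∀ z, centralLin ν₀ P hP z * conj (centralLin ν.1 P hP z) = f z := fun z => by
      rw [conj_centralLin]; rfl
    simp only [hf]
    split_ifs with he
    · have : ∀ z, f z = 1 := fun z => by
        show centralLin ν₀ P hP z * centralLin ν.1 P hP z⁻¹ = 1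
        rw [he, ← map_mul, mul_inv_cancel, map_one]
      simp [this, Nat.card_eq_fintype_card]
    · refine sum_hom_units_eq_zero f fun h1 => he (MonoidHom.ext fun z => ?_)
      have h2 : centralLin ν₀ P hP z * centralLin ν.1 P hP z⁻¹ = 1 := DFunLike.congr_fun h1 z
      calc centralLin ν.1 P hP z
          = centralLin ν₀ P hP z * centralLin ν.1 P hP z⁻¹ * centralLin ν.1 P hP z := by
            rw [h2, one_mul]
        _ = _ := by rw [mul_assoc, ← map_mul, inv_mul_cancel, map_one, mul_one]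
  calc (Nat.card P : ℂ) * _
      = ∑ ν : B, (∑ z : P, centralLin ν₀ P hP z * conj (centralLin ν.1 P hP z)) *
          (regDot p χ.1 ν.1.1 * regDot p ν.1.1 η) := by
        rw [Finset.mul_sum, Finset.sum_filter]
        refine Finset.sum_congr rfl fun ν _ => ?_
        rw [key]
        split_ifs <;> simp
    _ = ∑ z : P, centralLin ν₀ P hP z * ∑ ν : B, conj (centralLin ν.1 P hP z) *
          (regDot p χ.1 ν.1.1 * regDot p ν.1.1 η) := by
        simp only [Finset.sum_mul, Finset.mul_sum, mul_assoc]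
        exact Finset.sum_comm
    _ = _ := by
        rw [Finset.sum_eq_single_of_mem (1 : P) (Finset.mem_univ _) fun z _ hz => by
          rw [twisted_sum_eq_zero hpM hp hB P hP hPp hz, mul_zero]]
        simp [sum_regDot_mul hpM hp hB hχ η]

/-- A block with a central defect group has rank one. -/
theorem blockRank_eq_one_of_central [M.IsMaximal] [CharP (AlgInt ⧸ M) p] [Fact p.Prime]
    (hpM : (p : AlgInt) ∈ M) {B : Set (IrrCharacter G)} (hB : IsPBlock M B) {P : Subgroup G}
    (hD : IsDefectGroup p M B P) (hP : P ≤ Subgroup.center G) : blockRank p B = 1 := by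
  classical
  have hp : p.Prime := Fact.out
  have hPp := Blocks.IsDefectGroup.isPGroup hD
  have hcard := Blocks.card_defectGroup hpM hB hD
  have hex : ∀ ν : B, ∃ c : IrrCharacter G → ℤ,
      ∀ μ, ((Nat.card P : ℕ) : ℂ) * regDot p ν.1.1 μ.1 = c μ := fun ν => by
    obtain ⟨c, hc⟩ := exists_int_regDot hpM hp hB ν.2
    exact ⟨c, fun μ => by rw [hcard, hc μ]⟩
  choose c hc using hex
  have hcomm : ∀ ν μ : B, c ν μ.1 = c μ ν.1 := fun ν μ => by
    have : (c ν μ.1 : ℂ) = c μ ν.1 := by rw [← hc, ← hc, regDot_comm hp]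
    exact_mod_cast this
  have hfib : ∀ (χ : B) (ν₀ : B), c χ χ.1 = ∑ ν ∈ Finset.univ.filter
      (fun ν : B => centralLin ν.1 P hP = centralLin ν₀.1 P hP), c χ ν.1 ^ 2 := fun χ ν₀ => by
    have h := card_mul_sum_fibre hpM hp hB P hP hPp χ.2 χ.1.1 ν₀.1
    have e : (c χ χ.1 : ℂ) = ∑ ν ∈ Finset.univ.filter
        (fun ν : B => centralLin ν.1 P hP = centralLin ν₀.1 P hP), (c χ ν.1 : ℂ) ^ 2 := by
      rw [← hc, ← h, Finset.mul_sum, Finset.mul_sum]
      refine Finset.sum_congr rfl fun ν _ => ?_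
      rw [← hc, regDot_comm hp ν.1 χ.1]
      ring
    exact_mod_cast e
  obtain ⟨χ₀, hχ₀B, hχ0⟩ := Blocks.exists_height_zero hpM hB
  set χ : B := ⟨χ₀, hχ₀B⟩
  have hne : ∀ ν : B, c χ ν.1 ≠ 0 := fun ν =>
    (intCoeff_of_height_zero hpM hp hB χ.2 ν.2 hχ0 (by rw [← hcard]; exact hc χ ν.1)).1
  have hsq : ∀ ν : B, 1 ≤ c χ ν.1 ^ 2 := fun ν =>
    Int.add_one_le_iff.2 (lt_of_le_of_ne (sq_nonneg _) (pow_ne_zero 2 (hne ν)).symm)
  -- `c χ χ = 1`
  have hχχ : c χ χ.1 = 1 := by
    have h := hfib χ χ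
    have hle : c χ χ.1 ^ 2 ≤ c χ χ.1 := by
      conv_rhs => rw [h]
      exact Finset.single_le_sum (f := fun ν : B => c χ ν.1 ^ 2) (fun ν _ => sq_nonneg _)
        (by simp)
    nlinarith [hsq χ]
  -- the central character is injective on `B`
  have hinj : ∀ ν μ : B, centralLin ν.1 P hP = centralLin μ.1 P hP → ν = μ := by
    intro ν μ he
    by_contra hνμ
    have h := hfib χ μ
    rw [hχχ] at h
    have hs : ∑ x ∈ ({ν, μ} : Finset B), c χ x.1 ^ 2 ≤ 1 := by
      rw [h]
      refine Finset.sum_le_sum_of_subset_of_nonneg (fun x hx => ?_) fun _ _ _ => sq_nonneg _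
      simp only [Finset.mem_insert, Finset.mem_singleton] at hx
      rcases hx with rfl | rfl <;> simp [he]
    rw [Finset.sum_pair hνμ] at hs
    linarith [hsq ν, hsq μ]
  have hfilter : ∀ ν : B, Finset.univ.filter
      (fun x : B => centralLin x.1 P hP = centralLin ν.1 P hP) = {ν} := fun ν => by
    ext x
    simp only [Finset.mem_filter, Finset.mem_univ, true_and, Finset.mem_singleton]
    exact ⟨hinj x ν, fun h => by rw [h]⟩
  have hle1 : ∀ ν : B, c ν ν.1 ≤ 1 := fun ν => by
    have h := hfib ν ν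
    rw [hfilter, Finset.sum_singleton] at h
    nlinarith [sq_nonneg (c ν ν.1 - 1)]
  have hnn : ∀ ν : B, 0 ≤ c ν ν.1 := fun ν => by
    rw [hfib ν ν]; exact Finset.sum_nonneg fun _ _ => sq_nonneg _
  have hone : ∀ ν : B, c χ ν.1 ^ 2 = 1 := fun ν => by
    have h := hfib χ ν
    rw [hfilter, Finset.sum_singleton, hχχ] at h
    exact h.symm
  have hB' : (Fintype.card B : ℂ) = (Nat.card P : ℕ) := by
    have h := sum_regDot_mul hpM hp hB χ.2 χ.1.1
    calc (Fintype.card B : ℂ) = ∑ ν : B, ((c χ ν.1 ^ 2 : ℤ) : ℂ) := by simp [hone]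
      _ = (Nat.card P : ℂ) * (Nat.card P : ℂ) *
            ∑ ν : B, regDot p χ.1.1 ν.1.1 * regDot p ν.1.1 χ.1.1 := by
        rw [Finset.mul_sum]
        refine Finset.sum_congr rfl fun ν _ => ?_
        rw [regDot_comm hp ν.1 χ.1]
        push_cast
        rw [← hc]
        ring
      _ = _ := by rw [h, mul_assoc, hc, hχχ]; simp
  have hr : ((Nat.card P * blockRank p B : ℕ) : ℤ) = ∑ ν : B, c ν ν.1 := by
    have : (((Nat.card P * blockRank p B : ℕ) : ℤ) : ℂ) = ((∑ ν : B, c ν ν.1 : ℤ) : ℂ) := by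
      push_cast
      rw [blockRank_eq_sum hpM hp hB, Finset.mul_sum]
      exact Finset.sum_congr rfl fun ν _ => hc ν ν.1
    exact_mod_cast this
  have hlow : 1 ≤ ∑ ν : B, c ν ν.1 :=
    hχχ.symm.le.trans (Finset.single_le_sum (fun ν _ => hnn ν) (Finset.mem_univ χ))
  have hup : ∑ ν : B, c ν ν.1 ≤ Nat.card P :=
    (Finset.sum_le_sum fun ν _ => hle1 ν).trans (by
      have h2 : Fintype.card B = Nat.card P := by exact_mod_cast hB'
      simp [h2])
  rw [← hr] at hlow hup
  have hlow' : 1 ≤ Nat.card P * blockRank p B := by exact_mod_cast hlow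
  have hup' : Nat.card P * blockRank p B ≤ Nat.card P * 1 := by
    rw [mul_one]; exact_mod_cast hup
  have := Nat.le_of_mul_le_mul_left hup' Nat.card_pos
  rcases Nat.eq_zero_or_pos (blockRank p B) with h0 | h0
  · rw [h0, mul_zero] at hlow'; omega
  · omega

end Cfsg.Agent.BrauerPairs
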