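import Cfsg.Agent.Lib.BrauerPairs.NormalChains
import Cfsg.Agent.Lib.BrauerPairs.Rank
import Cfsg.Agent.Lib.BrauerPairs.Lift
import Cfsg.Agent.Lib.Blocks.SecondMain
import Cfsg.Agent.Lib.Blocks.FirstMain
import Cfsg.Agent.Lib.Blocks.PPart

/-!
# `k - l` as an alternating sum over normal chains
-/

set_option autoImplicit false
set_option linter.unusedSectionVars false

open scoped ComplexConjugate

namespace Cfsg.Agent.BrauerPairs

universe u

variable {G : Type u} [Group G] [Finite G] {p : ℕ} {M : Ideal AlgInt}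

open Classical in
/-- `Σ |η g|²` over the characters of `H` in blocks inducing `b`. -/
noncomputable def inducedNormSum (M : Ideal AlgInt) (b : Set (IrrCharacter G)) (g : G) (H : Subgroup G) : ℂ :=
  if hg : g ∈ H then ∑ᶠ η ∈ Blocks.inducingSet M H b, η.1 ⟨g, hg⟩ * conj (η.1 ⟨g, hg⟩) else 0

open Classical in
theorem inducedNormSum_of_mem (b : Set (IrrCharacter G)) {g : G} {H : Subgroup G} (hg : g ∈ H) :
    inducedNormSum M b g H = ∑ η ∈ Finset.univ.filter (· ∈ Blocks.inducingSet M H b),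
      η.1 ⟨g, hg⟩ * conj (η.1 ⟨g, hg⟩) := by
  rw [inducedNormSum, dif_pos hg]
  exact finsum_mem_eq_sum_of_inter_support_eq _ (by ext; simp)

theorem eq_inducingSet [M.IsMaximal] (N : Subgroup G) (b : Set (IrrCharacter G)) :
    {ψ : IrrCharacter N | ∃ β : Set (IrrCharacter N), ψ ∈ β ∧ IsInducedBlock M N β b} =
      Blocks.inducingSet M N b := by
  ext ψ
  constructor
  · rintro ⟨β, hψ, h⟩
    show IsInducedBlock M N (blockOf M ψ.1) b
    rwa [← Blocks.block_eq h.1 hψ]
  · exact fun h => ⟨_, Blocks.mem_blockOf_self ψ, h⟩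

variable [Fact p.Prime]

open Classical in
/-- `k - l` for a union of blocks. -/
theorem card_sub_blockRank_union {K : Type u} [Group K] [Fintype K] [M.IsMaximal] (hpM : (p : AlgInt) ∈ M)
    {U : Set (IrrCharacter K)} (hU : Blocks.IsBlockUnion M U) :
    (Nat.card K : ℂ) * ((Nat.card U : ℂ) - (blockRank p U : ℂ)) =
      ∑ g ∈ Finset.univ.filter (fun g : K => ¬ IsPRegular p g),
        ∑ χ ∈ Finset.univ.filter (· ∈ U), χ.1 g * conj (χ.1 g) := by
  have hp : p.Prime := Fact.out
  have hexp : ∀ χ ∈ U, Char.regFun p χ.1 =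
      ∑ ψ : U, classInner (Char.regFun p χ.1) ψ.1.1 • Char.regFun p ψ.1.1 := by
    intro χ hχ
    conv_lhs => rw [← regFun_regFun, Char.eq_sum_classInner_smul
      (Char.isClassFunction_regFun p (Char.IsCharacter.isClassFunction (Char.irr_isCharacter χ)))]
    rw [regFun_sum, ← Finset.sum_subtype (Finset.univ.filter (· ∈ U)) (by simp)
      (fun ψ : IrrCharacter K => classInner (Char.regFun p χ.1) ψ.1 • Char.regFun p ψ.1)]
    refine (Finset.sum_filter_of_ne fun ψ _ hψ => ?_).symm
    by_contra hψU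
    exact hψ (by rw [Char.classInner_regFun_of_not_sameBlock hpM hp
      (fun h => hψU (hU χ hχ (Blocks.mem_blockOf.2 h))), zero_smul])
  let V : Submodule ℂ (K → ℂ) :=
    Submodule.span ℂ ((fun χ : IrrCharacter K => pRegularPart p (χ : K → ℂ)) '' U)
  let Φ : (U → ℂ) →ₗ[ℂ] (K → ℂ) := Fintype.linearCombination ℂ fun χ : U => Char.regFun p χ.1.1
  let Ψ : (K → ℂ) →ₗ[ℂ] (U → ℂ) :=
    { toFun := fun f χ => classInner f χ.1.1
      map_add' := fun f g => funext fun χ => Char.classInner_add_left f g _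
      map_smul' := fun c f => funext fun χ => Char.classInner_smul_left c f _ }
  have hproj : LinearMap.IsProj V (Φ ∘ₗ Ψ) := by
    refine ⟨fun f => ?_, fun f hf => ?_⟩
    · rw [LinearMap.comp_apply, Fintype.linearCombination_apply]
      exact Submodule.sum_mem _ fun χ _ => Submodule.smul_mem _ _
        (Submodule.subset_span ⟨χ.1, χ.2, pRegularPart_eq_regFun p _⟩)
    · induction hf using Submodule.span_induction with
      | mem g hg =>
        obtain ⟨χ, hχ, rfl⟩ := hg
        show Φ (Ψ (pRegularPart p χ.1)) = pRegularPart p χ.1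
        rw [pRegularPart_eq_regFun]
        conv_rhs => rw [hexp χ hχ]
        exact Fintype.linearCombination_apply _ _ _
      | zero => simp
      | add x y _ _ hx hy => rw [map_add, hx, hy]
      | smul c x _ hx => rw [map_smul, hx]
  have h1 : LinearMap.trace ℂ _ (Φ ∘ₗ Ψ) = (blockRank p U : ℂ) := hproj.trace
  have h2 : (blockRank p U : ℂ) = ∑ χ : U, classInner (Char.regFun p χ.1.1) χ.1.1 := by
    rw [← h1, LinearMap.trace_comp_comm', LinearMap.trace_eq_matrix_trace ℂ (Pi.basisFun ℂ U), Matrix.trace]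
    refine Finset.sum_congr rfl fun χ _ => ?_
    rw [Matrix.diag_apply, LinearMap.toMatrix_apply, Pi.basisFun_apply, Pi.basisFun_repr,
      LinearMap.comp_apply]
    show classInner (Φ (Pi.single χ 1)) χ.1.1 = _
    rw [Fintype.linearCombination_apply_single, one_smul]
  have h3 : (Nat.card U : ℂ) = ∑ χ : U, classInner χ.1.1 χ.1.1 := by
    simp [Char.classInner_irr, Nat.card_eq_fintype_card]
  rw [h2, h3, ← Finset.sum_sub_distrib, Finset.mul_sum, Finset.sum_comm,
    Finset.sum_subtype (Finset.univ.filter (· ∈ U)) (p := fun χ => χ ∈ U) (by simp)]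
  refine Finset.sum_congr rfl fun χ _ => ?_
  rw [classInner, classInner, ← mul_sub, ← Finset.sum_sub_distrib, ← mul_assoc,
    mul_inv_cancel₀ (Nat.cast_ne_zero.2 Nat.card_pos.ne'), one_mul, Finset.sum_filter]
  refine Finset.sum_congr rfl fun g _ => ?_
  unfold Char.regFun IsPRegular
  by_cases hg : p ∣ orderOf g <;> simp [hg]

open Classical in
/-- The second main theorem for `Σ |χ g|²` over one block. -/
theorem sum_block_norm_sq [M.IsMaximal] (hpM : (p : AlgInt) ∈ M) {B : Set (IrrCharacter G)} (hB : IsPBlock M B)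
    {g x : G} (hg : IsPPart p g x) (hgC : g ∈ Subgroup.centralizer ({x} : Set G)) :
    ∑ χ ∈ Finset.univ.filter (· ∈ B), χ.1 g * conj (χ.1 g) =
      inducedNormSum M B g (Subgroup.centralizer ({x} : Set G)) := by
  rw [inducedNormSum_of_mem B hgC]
  set C := Subgroup.centralizer ({x} : Set G) with hC
  letI := Fintype.ofFinite C
  obtain ⟨s, hsg, hs⟩ := Blocks.exists_regular_factor hg
  have hx := Blocks.IsPPart.isPElement hg
  have h := Blocks.sum_block_mul_conj hpM hx hB hs g
  rw [hsg] at h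
  rw [h]
  set x' : C := ⟨x, Subgroup.mem_centralizer_singleton_iff.2 rfl⟩
  set g' : C := ⟨g, hgC⟩
  have hg' : g' = x' * s := Subtype.ext hsg.symm
  set U := Blocks.inducingSet M C B
  have hin : ∀ c : C, IsConj g' c → IsConj (c : G) g := fun c hc => by
    obtain ⟨n, hn⟩ := isConj_iff.1 hc
    exact (isConj_iff.2 ⟨(n : G), congrArg Subtype.val hn⟩ : IsConj g (c : G)).symm
  have hout : ∀ c : C, IsConj (c : G) g → IsPRegular p (x'⁻¹ * c) → IsConj g' c := by
    intro c hc hr
    obtain ⟨n, hn⟩ := isConj_iff.1 hc.symm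
    have hpc : IsPPart p (c : G) (n * x * n⁻¹) := hn ▸ Blocks.IsPPart.conj hg n
    have he := Blocks.IsPPart.unique (Blocks.isPPart_of_regular hx c hr) hpc
    refine isConj_iff.2 ⟨⟨n, Subgroup.mem_centralizer_singleton_iff.2 ?_⟩, Subtype.ext hn⟩
    conv_rhs => rw [he]
    group
  have hcent : Blocks.IsCentralElt (MonoidAlgebra.single x' (1 : ℂ)) := fun u v => by
    have hb : x' * v = v * x' := Subtype.ext (Subgroup.mem_centralizer_singleton_iff.1 v.2).symm
    simp only [MonoidAlgebra.coeff_single, Finsupp.single_apply]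
    refine if_congr ⟨fun e => ?_, fun e => ?_⟩ rfl rfl
    · rw [e] at hb
      calc x' = v * u * v⁻¹ := e
        _ = u := by
          refine mul_left_cancel (a := v) ?_
          calc v * (v * u * v⁻¹) = v * u * v⁻¹ * v := hb.symm
            _ = v * u := inv_mul_cancel_right _ _
    · rw [← e, ← hb, mul_inv_cancel_right]
  have hx'c : ∀ v : C, x' * v = v * x' := fun v =>
    Subtype.ext (Subgroup.mem_centralizer_singleton_iff.1 v.2).symm
  have hterm : ∀ c : C, IsConj g' c → ∀ η : IrrCharacter C,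
      η.1 s * conj (η.1 (x'⁻¹ * c)) = η.1 g' * conj (η.1 g') := by
    intro c hc η
    obtain ⟨n, rfl⟩ := isConj_iff.1 hc
    rw [show x'⁻¹ * (n * g' * n⁻¹) = n * s * n⁻¹ by
      rw [hg', show n * (x' * s) * n⁻¹ = x' * (n * s * n⁻¹) by
        rw [← mul_assoc, ← hx'c n]; group, inv_mul_cancel_left],
      Blocks.irr_classFun η s n, hg']
    simp only [Char.IsCharacter.conj_apply (Char.irr_isCharacter η)]
    have hinv : Blocks.IsCentralElt (MonoidAlgebra.single x'⁻¹ (1 : ℂ)) := fun u v => by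
      have h1 := hcent u⁻¹ v
      simp only [MonoidAlgebra.coeff_single, Finsupp.single_apply] at h1 ⊢
      convert h1 using 2
      · rw [show v * u⁻¹ * v⁻¹ = (v * u * v⁻¹)⁻¹ by group, inv_eq_iff_eq_inv]
      · rw [inv_eq_iff_eq_inv]
    have e0 := Blocks.omega_mul η hcent (MonoidAlgebra.single x'⁻¹ (1 : ℂ))
    rw [MonoidAlgebra.single_mul_single, mul_inv_cancel, one_mul, ← MonoidAlgebra.one_def,
      Blocks.omega_one] at e0
    have e1 := Blocks.chiL_mul_of_central η hcent (MonoidAlgebra.single s 1)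
    have e2 := Blocks.chiL_mul_of_central η hinv (MonoidAlgebra.single s⁻¹ 1)
    simp only [MonoidAlgebra.single_mul_single, Blocks.chiL_single, one_mul] at e1 e2
    rw [show (x' * s)⁻¹ = x'⁻¹ * s⁻¹ by rw [← mul_inv_rev, hx'c s]]
    rw [e1, e2]
    linear_combination η.1 s * η.1 s⁻¹ * e0
  rw [← Finset.sum_subset (s₁ := Finset.univ.filter fun c : C => IsConj g' c)
    (fun c hc => Finset.mem_filter.2 ⟨Finset.mem_univ _, hin c (Finset.mem_filter.1 hc).2⟩)
    (fun c hc hnc => ?_)]
  · rw [Finset.sum_congr rfl fun c hc =>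
      Finset.sum_congr rfl fun η _ => hterm c (Finset.mem_filter.1 hc).2 η,
      Finset.sum_const, nsmul_eq_mul, ← mul_assoc]
    have hcard : (Finset.univ.filter fun c : C => IsConj g' c).card *
        Nat.card (Subgroup.centralizer ({g} : Set G)) = Nat.card C := by
      rw [← Fintype.card_subtype, ← Nat.card_eq_fintype_card, Blocks.card_isConj_eq_index,
        ← Subgroup.index_mul_card (Subgroup.centralizer ({g'} : Set C))]
      congr 1
      refine Nat.card_congr
        { toFun := fun u => ⟨⟨(u : G), ?_⟩, ?_⟩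
          invFun := fun u => ⟨((u : C) : G), ?_⟩
          left_inv := fun _ => rfl
          right_inv := fun _ => rfl }
      · have hux : (u : G) * x * (u : G)⁻¹ = x := by
          have h1 := Blocks.IsPPart.conj hg (u : G)
          rw [show (u : G) * g * (u : G)⁻¹ = g by
            rw [Subgroup.mem_centralizer_singleton_iff.1 u.2, mul_inv_cancel_right]] at h1
          exact Blocks.IsPPart.unique h1 hg
        exact Subgroup.mem_centralizer_singleton_iff.2 (mul_inv_eq_iff_eq_mul.1 hux)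
      · exact Subgroup.mem_centralizer_singleton_iff.2 (Subtype.ext (Subgroup.mem_centralizer_singleton_iff.1 u.2))
      · exact Subgroup.mem_centralizer_singleton_iff.2
          (congrArg Subtype.val (Subgroup.mem_centralizer_singleton_iff.1 u.2))
    have hne : (Nat.card (Subgroup.centralizer ({x} : Set G)) : ℂ) ≠ 0 := Nat.cast_ne_zero.2 Nat.card_pos.ne'
    have hcard' := congrArg (Nat.cast : ℕ → ℂ) hcard
    push_cast at hcard'
    rw [show Nat.card C = Nat.card (Subgroup.centralizer ({x} : Set G)) from rfl] at hcard'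
    field_simp
    linear_combination (∑ η ∈ Finset.univ.filter (· ∈ U), η.1 g' * conj (η.1 g')) * hcard'
  · refine Blocks.IsBlockUnion.weak_orth hpM (Blocks.isBlockUnion_inducingSet _ _) hs fun hr => hnc ?_
    exact Finset.mem_filter.2 ⟨Finset.mem_univ _, hout c (Finset.mem_filter.1 hc).2 hr⟩

theorem isInducedBlock_iff_omega [M.IsMaximal] {X : Subgroup G} {ξ : IrrCharacter X} {B : Set (IrrCharacter G)} :
    IsInducedBlock M X (blockOf M ξ.1) B ↔ IsPBlock M B ∧ ∀ χ ∈ B, ∀ g : G,
      MemLocalIdeal M (Blocks.omega ξ.1 (Blocks.resH X (Blocks.classSum ℂ g)) - centralChar χ.1 g) := by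
  constructor
  · intro h
    refine ⟨h.2.1, fun χ hχ g => ?_⟩
    rw [Blocks.omega_resH_classSum]
    exact h.2.2 ξ (Blocks.mem_blockOf_self ξ) χ hχ g
  · rintro ⟨hB, h⟩
    refine ⟨Blocks.isPBlock_blockOf ξ, hB, fun ξ' hξ' χ hχ g => ?_⟩
    rw [← Blocks.omega_resH_classSum]
    have h1 := Blocks.SameBlock.omega_sub (M := M) (Blocks.SameBlock.symm (Blocks.mem_blockOf.1 hξ'))
      (Blocks.isCentralElt_resH (H := X) (Blocks.isCentralElt_classSum (R := ℂ) g))
      (Blocks.scoeff_resH (H := X) (Blocks.scoeff_classSum g))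
    simpa using Blocks.MemLocalIdeal.add h1 (h χ hχ g)

open Classical in
/-- The local step. -/
theorem inducedNormSum_eq_inf [M.IsMaximal] (hpM : (p : AlgInt) ∈ M) (b : Set (IrrCharacter G)) {N : Subgroup G}
    {g x : G} (hg : IsPPart p g x) (hgN : g ∈ N) :
    inducedNormSum M b g N = inducedNormSum M b g (N ⊓ Subgroup.centralizer ({x} : Set G)) := by
  letI := Fintype.ofFinite N
  have hxN : x ∈ N := Subgroup.zpowers_le.2 hgN (Blocks.IsPPart.mem_zpowers hg)
  set x' : N := ⟨x, hxN⟩
  set g' : N := ⟨g, hgN⟩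
  have hgx : g * x = x * g := by
    obtain ⟨n, hn⟩ := Blocks.IsPPart.mem_zpowers hg
    rw [← hn]
    exact (Commute.refl g).zpow_right n
  have hg'x : g' ∈ Subgroup.centralizer ({x'} : Set N) :=
    Subgroup.mem_centralizer_singleton_iff.2 (Subtype.ext hgx)
  have hgH : g ∈ N ⊓ Subgroup.centralizer ({x} : Set G) :=
    ⟨hgN, Subgroup.mem_centralizer_singleton_iff.2 hgx⟩
  have hgp : IsPPart p g' x' := by
    obtain ⟨y, hy, hc, ⟨n, hn⟩, hreg⟩ := hg
    refine ⟨⟨y, (N.mul_mem_cancel_left hxN).1 (hy.symm ▸ hgN)⟩, Subtype.ext hy, Subtype.ext hc.eq, ⟨n, ?_⟩, ?_⟩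
    · rw [← hn, ← Subgroup.orderOf_coe]
    · rw [← Subgroup.orderOf_coe]; exact hreg
  rw [inducedNormSum_of_mem b hgN, inducedNormSum_of_mem b hgH,
    (Blocks.isBlockUnion_inducingSet (M := M) N b).sum_eq]
  rw [Finset.sum_congr rfl (g := fun β => ∑ η ∈ Finset.univ.filter
      (· ∈ Blocks.inducingSet M (Subgroup.centralizer ({x'} : Set N)) β),
        η.1 ⟨g', hg'x⟩ * conj (η.1 ⟨g', hg'x⟩)) fun β hβ => by
    obtain ⟨ψ, -, rfl⟩ := Finset.mem_image.1 hβ
    rw [sum_block_norm_sq hpM (Blocks.isPBlock_blockOf ψ) hgp hg'x, inducedNormSum_of_mem _ hg'x]]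
  rw [← Finset.sum_biUnion]
  swap
  · exact fun β₁ _ β₂ _ hne => Finset.disjoint_left.2 fun η h1 h2 =>
      hne (Blocks.IsInducedBlock.unique (Finset.mem_filter.1 h1).2 (Finset.mem_filter.1 h2).2)
  let e : (N ⊓ Subgroup.centralizer ({x} : Set G) : Subgroup G) ≃* Subgroup.centralizer ({x'} : Set N) :=
    { toFun := fun h => ⟨⟨(h : G), h.2.1⟩, Subgroup.mem_centralizer_singleton_iff.2
        (Subtype.ext (Subgroup.mem_centralizer_singleton_iff.1 h.2.2))⟩
      invFun := fun h => ⟨((h : N) : G), (h : N).2, Subgroup.mem_centralizer_singleton_iff.2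
        (congrArg Subtype.val (Subgroup.mem_centralizer_singleton_iff.1 h.2))⟩
      left_inv := fun _ => rfl
      right_inv := fun _ => rfl
      map_mul' := fun _ _ => rfl }
  refine Finset.sum_equiv (compIrr e) (fun η => ?_) fun η _ => rfl
  obtain ⟨n, hn⟩ := Blocks.IsPPart.isPElement hgp
  obtain ⟨B', hB'⟩ := Blocks.inducedBlockDefined_centralizer hpM ⟨n, hn⟩
    (Blocks.isPBlock_blockOf (M := M) η)
  obtain ⟨ψ₀, hψ₀⟩ := Blocks.block_nonempty hB'.2.1
  simp only [Finset.mem_biUnion, Finset.mem_image, Finset.mem_filter, Finset.mem_univ, true_and]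
  have hz : ∀ c : G, MemLocalIdeal M
      (Blocks.omega (compIrr e η).1 (Blocks.resH _ (Blocks.classSum ℂ c)) -
        Blocks.omega ψ₀.1 (Blocks.resH N (Blocks.classSum ℂ c))) := fun c => by
    have h1 := Blocks.IsInducedBlock.omega_sub hB' (Blocks.mem_blockOf_self η) hψ₀
      (Blocks.isCentralElt_resH (H := N) (Blocks.isCentralElt_classSum (R := ℂ) c))
      (Blocks.scoeff_resH (H := N) (Blocks.scoeff_classSum c))
    convert h1 using 2
    haveI := Fintype.ofFinite (N ⊓ Subgroup.centralizer ({x} : Set G) : Subgroup G)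
    haveI := Fintype.ofFinite (Subgroup.centralizer ({x'} : Set N))
    rw [Blocks.omega, Blocks.omega, Blocks.chiL_eq_sum, Blocks.chiL_eq_sum]
    congr 1
    exact Fintype.sum_equiv e.toEquiv _ _ fun h => by
      rw [Blocks.coeff_resH, Blocks.coeff_resH, Blocks.coeff_resH]
      rfl
  constructor
  · rintro ⟨β, ⟨ψ, hψ, rfl⟩, hη⟩
    have hβ : blockOf M ψ.1 = B' := Blocks.IsInducedBlock.unique hη hB'
    have hind : IsInducedBlock M N B' b := hβ ▸ hψ
    show IsInducedBlock M _ (blockOf M (compIrr e η).1) b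
    refine isInducedBlock_iff_omega.2 ⟨hind.2.1, fun χ hχ c => ?_⟩
    have h2 := hind.2.2 ψ₀ hψ₀ χ hχ c
    rw [← Blocks.omega_resH_classSum] at h2
    simpa using Blocks.MemLocalIdeal.add (hz c) h2
  · intro h
    obtain ⟨hb, hall⟩ := isInducedBlock_iff_omega.1 h
    refine ⟨B', ⟨ψ₀, ?_, (Blocks.block_eq hB'.2.1 hψ₀).symm⟩, ?_⟩
    · show IsInducedBlock M N (blockOf M ψ₀.1) b
      refine isInducedBlock_iff_omega.2 ⟨hb, fun χ hχ c => ?_⟩
      simpa using Blocks.MemLocalIdeal.sub (hall χ hχ c) (hz c)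
    · exact hB'

end Cfsg.Agent.BrauerPairs
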