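import Cfsg.Agent.Lib.BrauerPairs.NilpotentBlock
import Cfsg.Agent.Lib.Transfer.Frobenius

/-!
# The principal block is nilpotent exactly for `p`-nilpotent groups
-/

set_option autoImplicit false
set_option linter.unusedSectionVars false

open MonoidAlgebra Cfsg
open scoped Classical Cfsg.Agent.Blocks

namespace Cfsg.Agent.BrauerPairs

open Cfsg.Agent

universe u

variable {G : Type u} [Group G] [Finite G] {p : ℕ} [Fact p.Prime] {M : Ideal AlgInt} [M.IsMaximal]
  [CharP (AlgInt ⧸ M) p]

theorem isNilpotentBlock_principal_iff :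
    IsNilpotentBlock p M (principalBlock M G) ↔ HasNormalPComplement p G := by
  obtain ⟨S⟩ := Sylow.nonempty (p := p) (G := G)
  have hblk : ∀ H : Subgroup G, HasBlocks (AlgInt ⧸ M) H := fun H => hasBlocks M H
  rw [isNilpotentBlock_iff isPBlock_principalBlock, ← Transfer.coprime_orderOf_centralize_iff S]
  constructor
  · intro h Q hQ g hg hco
    have hQp : IsPGroup p Q := S.2.to_le hQ
    obtain ⟨f, hf⟩ := exists_isPrincipal (hblk (Subgroup.centralizer (Q : Set G)))
    refine h Q f (isPairOf_of_isPrincipal isPrincipal_blkG hQp hf) g ⟨hg, ?_⟩ ?_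
    · have h1 := hf.conj g
      rw [map_conj_eq_of_mem_normalizer (normalizer_le_normalizer_centralizer Q hg)] at h1
      exact h1.eq hf
    · exact ((Fact.out : p.Prime).coprime_iff_not_dvd).1 hco.symm
  · intro h Q f hQf x hx hreg
    obtain ⟨t, ht⟩ := hQf.1.1.exists_le_sylow
    obtain ⟨g, hg⟩ := MulAction.exists_smul_eq G t S
    have hle : Q.map (MulAut.conj g).toMonoidHom ≤ S := by
      rw [← hg, Sylow.coe_subgroup_smul]
      exact Subgroup.map_mono ht
    have hxN : g * x * g⁻¹ ∈ Subgroup.normalizer ((Q.map (MulAut.conj g).toMonoidHom : Subgroup G) : Set G) := by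
      rw [← map_conj_normalizer']
      exact ⟨x, hx.1, rfl⟩
    have hco : Nat.Coprime (orderOf (g * x * g⁻¹)) p := by
      rw [show orderOf (g * x * g⁻¹) = orderOf x from
        orderOf_injective (MulAut.conj g).toMonoidHom (MulAut.conj g).injective x]
      exact (((Fact.out : p.Prime).coprime_iff_not_dvd).2 hreg).symm
    have hC := h _ hle _ hxN hco
    rw [← map_conj_centralizer] at hC
    obtain ⟨x', hx', he⟩ := hC
    rwa [← (MulAut.conj g).injective (show (MulAut.conj g) x' = (MulAut.conj g) x from he)]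

end Cfsg.Agent.BrauerPairs
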