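import Cfsg.Agent.Lib.BrauerPairs.LocalFusion

/-!
# Pairs below a maximal pair with abelian first component

For a maximal pair `(P, e)` of a block with `P` abelian:

* `defectIn_centralizer_of_comm`: `P` is a defect group in `C(S)` of every pair `(S, s) ≤ (P, e)`;
* `exists_mul_mem_stabOf_of_comm`: a map between pairs below `(P, e)` is induced by the stabiliser of
  `(P, e)`, up to the centralizer of the image;
* `step_of_centralizer_eq`: a pair below `(P, e)` can be enlarged inside `P` without changing the block,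
  as long as the centralizer stays the same.
-/

set_option autoImplicit false
set_option linter.unusedSectionVars false

open MonoidAlgebra
open scoped Classical

namespace Cfsg.Agent.BrauerPairs

universe u

variable {k : Type*} [Field k] {G : Type u} [Group G] [Finite G] {p : ℕ} [Fact p.Prime] [CharP k p]
  {B e s : MonoidAlgebra k G} {P S : Subgroup G}

theorem le_centralizer_of_le_comm (hcomm : P ≤ Subgroup.centralizer (P : Set G)) (hS : S ≤ P) :
    P ≤ Subgroup.centralizer (S : Set G) :=
  hcomm.trans (Subgroup.centralizer_le hS)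

theorem step_of_ple_comm (hblk : ∀ H : Subgroup G, HasBlocks k H) (ha : IsPair p (P, e))
    (hcomm : P ≤ Subgroup.centralizer (P : Set G)) (hle : PLE p (S, s) (P, e)) : Step p (S, s) (P, e) :=
  hle.step_of_le_normalizer hblk (hle.isPair_left ha)
    ((le_centralizer_of_le_comm hcomm hle.le).trans (Subgroup.centralizer_le_normalizer _))

theorem step_of_centralizer_eq {R : Subgroup G} (h : Step p (S, s) (P, e)) (hRP : R ≤ P)
    (hR : P ≤ Subgroup.normalizer (R : Set G))
    (hC : Subgroup.centralizer (R : Set G) = Subgroup.centralizer (S : Set G)) :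
    Step p (R, s) (P, e) := by
  obtain ⟨hSs, hPe, -, -, hfix, hbr⟩ := h
  have hs : IsBlockIdem (Subgroup.centralizer (R : Set G)) s := hC ▸ hSs.2
  exact ⟨⟨hPe.1.to_le hRP, hs⟩, hPe, hRP, hR, hfix, hbr⟩

theorem defectIn_centralizer_of_comm (hblk : ∀ H : Subgroup G, HasBlocks k H) (hB : IsBlockIdem ⊤ B)
    (ha : IsMax p B (P, e)) (hcomm : P ≤ Subgroup.centralizer (P : Set G)) (hle : PLE p (S, s) (P, e)) :
    DefectIn p (Subgroup.centralizer (S : Set G)) s P := by
  have h1 := (forall_centralizer_le_iff hblk hB ha hle).1 fun g _ => by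
    rw [inf_eq_left.2 (le_centralizer_of_le_comm hcomm hle.le)]
    exact Subgroup.card_le_of_le inf_le_left
  rwa [inf_eq_left.2 (le_centralizer_of_le_comm hcomm hle.le)] at h1

theorem exists_mul_mem_stabOf_of_comm (hblk : ∀ H : Subgroup G, HasBlocks k H) (hB : IsBlockIdem ⊤ B)
    (ha : IsMax p B (P, e)) (hcomm : P ≤ Subgroup.centralizer (P : Set G)) {g : G}
    (hle : PLE p (S, s) (P, e)) (hg : PLE p (conjPair g (S, s)) (P, e)) :
    ∃ h ∈ Subgroup.centralizer ((S.map (MulAut.conj g).toMonoidHom : Subgroup G) : Set G),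
      h * g ∈ stabOf P e := by
  set S' := S.map (MulAut.conj g).toMonoidHom with hS'
  have hg' : PLE p (S', conjEl g s) (P, e) := hg
  have hP' : P ≤ Subgroup.centralizer (S' : Set G) := le_centralizer_of_le_comm hcomm hg'.le
  have hst := step_of_ple_comm hblk ha.1.1 hcomm hg'
  have hst2 := (step_of_ple_comm hblk ha.1.1 hcomm hle).conj g
  have hbP : (conjPair g (P, e)).1 ≤ Subgroup.centralizer (S' : Set G) := by
    show P.map (MulAut.conj g).toMonoidHom ≤ _
    rw [hS', ← map_conj_centralizer]
    exact Subgroup.map_mono (le_centralizer_of_le_comm hcomm hle.le)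
  obtain ⟨h, hh, hh'⟩ := exists_conj_ple_sub hblk (hg'.isPair_left ha.1.1).2 (a := (P, e)) ha.1.1 hP'
    (Subgroup.centralizer_le hg'.le) hst.2.2.2.2.2
    (defectIn_centralizer_of_comm hblk hB ha hcomm hg') (b := conjPair g (P, e)) (ha.1.1.conj g) hbP
    (Subgroup.centralizer_le hst2.2.2.1) hst2.2.2.2.2.2
  refine ⟨h, hh, ?_⟩
  rw [← conjPair_mul] at hh'
  have hc : P.map (MulAut.conj (h * g)).toMonoidHom = P :=
    Subgroup.eq_of_le_of_card_ge hh'.le (card_map_conj _ P).ge
  exact ⟨mem_normalizer_of_conj_le fun u hu => hc.le ⟨u, hu, rfl⟩,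
    congrArg Prod.snd (hh'.eq_of_fst_eq hc)⟩

end Cfsg.Agent.BrauerPairs
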