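import Cfsg.Agent.Lib.Blocks.Contribution
import Cfsg.Agent.Lib.Blocks.ContributionCongr
import Cfsg.Agent.Lib.CharInt.GaloisAverage
import Cfsg.Agent.Lib.BrauerPairs.CorrespondenceNormal

/-!
# Contributions of major subsections with varying element
-/

set_option autoImplicit false
set_option linter.unusedSectionVars false

open scoped ComplexConjugate Classical

namespace Cfsg.Agent.HeightBound

open Cfsg.Agent.BrauerPairs (regDot regDot_comm regDot_eq_zero blk conjEl compIrr mapBlock conjIso)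

universe u

/-! ### Galois average of algebraic integers -/

theorem card_le_sum_norm_embeddings {K : Type*} [Field K] [Algebra ℚ K] [FiniteDimensional ℚ K]
    {x : K} (hx : IsIntegral ℤ x) (h0 : x ≠ 0) :
    (Fintype.card (K →ₐ[ℚ] ℂ) : ℝ) ≤ ∑ σ : K →ₐ[ℚ] ℂ, ‖σ x‖ := by
  refine CharInt.card_le_sum_of_one_le_prod _ (fun σ => norm_pos_iff.2 (by simpa using h0)) ?_
  obtain ⟨z, hz⟩ : ∃ z : ℤ, (z : ℚ) = Algebra.norm ℚ x := by
    obtain ⟨z, hz⟩ := IsIntegrallyClosed.isIntegral_iff.1 (Algebra.isIntegral_norm ℚ hx)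
    exact ⟨z, by simpa using hz⟩
  have hz0 : z ≠ 0 := by
    rintro rfl
    exact h0 (by simpa using hz.symm)
  rw [← norm_prod, ← Algebra.norm_eq_prod_embeddings ℚ ℂ x, ← hz]
  simp only [eq_ratCast, Rat.cast_intCast, Complex.norm_intCast]
  exact_mod_cast Int.one_le_abs hz0

/-- On a family closed under twists, algebraic integers divisible by `D` have norms averaging to at
least `D`. -/
theorem card_mul_le_sum_norm {N : ℕ} [NeZero N] {A : Type*} [Fintype A] (act : ℕ → Equiv.Perm A)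
    {ι : Type*} [Fintype ι] (c : A → ι → ℤ) (μ : A → ι → ℂ) (hμ : ∀ a i, μ a i ^ N = 1)
    (val : A → ℂ) (hval : ∀ a, val a = ∑ i, (c a i : ℂ) * μ a i)
    (htw : ∀ k : ℕ, k.Coprime N → ∀ a, val (act k a) = ∑ i, (c a i : ℂ) * μ a i ^ k)
    (D : ℕ) (hD : 0 < D) (hint : ∀ a, IsIntegral ℤ (val a / (D : ℂ))) (hne : ∀ a, val a ≠ 0) :
    (Fintype.card A : ℝ) * D ≤ ∑ a, ‖val a‖ := by
  obtain ⟨ζ, hζ⟩ : ∃ ζ : ℂ, IsPrimitiveRoot ζ N := ⟨_, Complex.isPrimitiveRoot_exp N (NeZero.ne N)⟩
  let K : IntermediateField ℚ ℂ := IntermediateField.adjoin ℚ {ζ}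
  have : FiniteDimensional ℚ K :=
    IntermediateField.adjoin.finiteDimensional (hζ.isIntegral (NeZero.pos N)).tower_top
  let g : K := ⟨ζ, IntermediateField.subset_adjoin ℚ _ rfl⟩
  have hg : IsPrimitiveRoot g N :=
    IsPrimitiveRoot.of_map_of_injective (f := K.val) hζ K.val.injective
  have hσ : ∀ σ : K →ₐ[ℚ] ℂ, ∃ k : ℕ, k.Coprime N ∧ σ g = ζ ^ k := by
    intro σ
    obtain ⟨k, -, hk, hk'⟩ := hζ.isPrimitiveRoot_iff.1 (hg.map_of_injective σ.injective)
    exact ⟨k, hk, hk'.symm⟩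
  choose k hk hk' using hσ
  choose e _ he using fun a i => hζ.eq_pow_of_pow_eq_one (hμ a i)
  let x : A → K := fun a => (∑ i, (c a i : K) * g ^ e a i) / (D : K)
  have hσx : ∀ (σ : K →ₐ[ℚ] ℂ) a, σ (x a) = val (act (k σ) a) / (D : ℂ) := by
    intro σ a
    rw [htw (k σ) (hk σ) a]
    simp only [x, map_div₀, map_natCast, map_sum, map_mul, map_intCast, map_pow, hk', ← he]
    congr 1
    exact Finset.sum_congr rfl fun i _ => by rw [pow_right_comm]
  have hxval : ∀ a, K.val (x a) = val a / (D : ℂ) := by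
    intro a
    rw [hval]
    simp only [x, map_div₀, map_natCast, map_sum, map_mul, map_intCast, map_pow, ← he]
    rfl
  have hD' : (D : ℂ) ≠ 0 := Nat.cast_ne_zero.2 hD.ne'
  have hxint : ∀ a, IsIntegral ℤ (x a) := fun a =>
    (isIntegral_algHom_iff (K.val.restrictScalars ℤ) K.val.injective).1 (by
      show IsIntegral ℤ (K.val (x a))
      rw [hxval]; exact hint a)
  have hx0 : ∀ a, x a ≠ 0 := fun a h => hne a (by
    have h1 := hxval a
    rw [h, map_zero] at h1
    simpa [hD'] using h1.symm)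
  have h1 : ∀ a, (Fintype.card (K →ₐ[ℚ] ℂ) : ℝ) * D ≤ ∑ σ : K →ₐ[ℚ] ℂ, ‖val (act (k σ) a)‖ := by
    intro a
    have h := mul_le_mul_of_nonneg_right (card_le_sum_norm_embeddings (hxint a) (hx0 a)) (Nat.cast_nonneg D)
    refine h.trans_eq ?_
    rw [Finset.sum_mul]
    refine Finset.sum_congr rfl fun σ _ => ?_
    rw [hσx, norm_div, Complex.norm_natCast, div_mul_cancel₀ _ (Nat.cast_ne_zero.2 hD.ne')]
  have h2 := Finset.sum_le_sum (s := Finset.univ) fun a _ => h1 a
  rw [Finset.sum_const, nsmul_eq_mul, Finset.card_univ, Finset.sum_comm,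
    Finset.sum_congr rfl (g := fun _ : K →ₐ[ℚ] ℂ => ∑ a, ‖val a‖)
      fun σ _ => Equiv.sum_comp (act (k σ)) fun a => ‖val a‖,
    Finset.sum_const, nsmul_eq_mul, Finset.card_univ] at h2
  refine le_of_mul_le_mul_left ?_ (Nat.cast_pos.2 (Fintype.card_pos_iff.2 ⟨K.val⟩) :
    (0 : ℝ) < Fintype.card (K →ₐ[ℚ] ℂ))
  calc (Fintype.card (K →ₐ[ℚ] ℂ) : ℝ) * ((Fintype.card A : ℝ) * D)
      = (Fintype.card A : ℝ) * ((Fintype.card (K →ₐ[ℚ] ℂ) : ℝ) * D) := by ring
    _ ≤ _ := h2

/-- A complex vector bound. -/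
theorem sum_le_of_gram {A Ψ : Type*} [Fintype A] (S : Finset Ψ) (v : A → Ψ → ℂ) (m : A → ℝ)
    (χ : Ψ) (hχ : χ ∈ S) (rel : A → A → Prop) (e : ℕ)
    (hnorm : ∀ a, ∑ ψ ∈ S, ‖v a ψ‖ ^ 2 = m a) (hdiag : ∀ a, v a χ = (m a : ℂ))
    (hrel : ∀ a a', ¬ rel a a' → ∑ ψ ∈ S, v a ψ * conj (v a' ψ) = 0)
    (hcard : ∀ a, (Finset.univ.filter (rel a)).card ≤ e)
    (hcard' : ∀ a, (Finset.univ.filter (fun a' => rel a' a)).card ≤ e) :
    ∑ a, m a ≤ e := by
  set s := ∑ a, m a
  have hm : ∀ a, 0 ≤ m a := fun a => hnorm a ▸ Finset.sum_nonneg fun _ _ => by positivity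
  have h1 : s ^ 2 ≤ ∑ ψ ∈ S, ‖∑ a, v a ψ‖ ^ 2 := by
    refine le_trans ?_ (Finset.single_le_sum (f := fun ψ => ‖∑ a, v a ψ‖ ^ 2)
      (fun ψ _ => by positivity) hχ)
    simp only [hdiag, ← Complex.ofReal_sum, Complex.norm_real, Real.norm_eq_abs, sq_abs]
    rfl
  have h2 : ∀ a a', (∑ ψ ∈ S, (v a ψ * conj (v a' ψ)).re) ≤ if rel a a' then (m a + m a') / 2 else 0 := by
    intro a a'
    split_ifs with h
    · rw [← hnorm a, ← hnorm a', ← Finset.sum_add_distrib, Finset.sum_div]
      refine Finset.sum_le_sum fun ψ _ => (Complex.re_le_norm _).trans ?_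
      rw [norm_mul, RCLike.norm_conj]
      nlinarith [sq_nonneg (‖v a ψ‖ - ‖v a' ψ‖)]
    · rw [← Complex.re_sum, hrel a a' h, Complex.zero_re]
  have h3 : ∑ ψ ∈ S, ‖∑ a, v a ψ‖ ^ 2 = ∑ a, ∑ a', ∑ ψ ∈ S, (v a ψ * conj (v a' ψ)).re := by
    simp only [← Complex.re_sum]
    have e1 : ((∑ ψ ∈ S, ‖∑ a, v a ψ‖ ^ 2 : ℝ) : ℂ) = ∑ a, ∑ a', ∑ ψ ∈ S, v a ψ * conj (v a' ψ) := by
      push_cast
      rw [Finset.sum_congr rfl fun ψ _ => (Complex.mul_conj' (∑ a, v a ψ)).symm]
      simp only [map_sum, Finset.sum_mul]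
      rw [Finset.sum_comm]
      refine Finset.sum_congr rfl fun a _ => ?_
      simp only [Finset.mul_sum]
      exact Finset.sum_comm
    rw [← e1, Complex.ofReal_re]
  have h4 : ∑ a, ∑ a', (if rel a a' then (m a + m a') / 2 else 0) ≤ (e : ℝ) * s := by
    have hA : ∑ a, ∑ a', (if rel a a' then m a else 0) ≤ (e : ℝ) * s := by
      rw [Finset.mul_sum]
      refine Finset.sum_le_sum fun a _ => ?_
      rw [← Finset.sum_filter, Finset.sum_const, nsmul_eq_mul]
      exact mul_le_mul_of_nonneg_right (by exact_mod_cast hcard a) (hm a)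
    have hB : ∑ a, ∑ a', (if rel a a' then m a' else 0) ≤ (e : ℝ) * s := by
      rw [Finset.sum_comm, Finset.mul_sum]
      refine Finset.sum_le_sum fun a _ => ?_
      rw [← Finset.sum_filter, Finset.sum_const, nsmul_eq_mul]
      exact mul_le_mul_of_nonneg_right (by exact_mod_cast hcard' a) (hm a)
    have hsplit : ∀ a a', (if rel a a' then (m a + m a') / 2 else 0) =
        ((if rel a a' then m a else 0) + (if rel a a' then m a' else 0)) / 2 := fun a a' => by
      split_ifs <;> ring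
    simp only [hsplit, ← Finset.sum_div, Finset.sum_add_distrib]
    linarith
  have h5 : s ^ 2 ≤ (e : ℝ) * s :=
    (h1.trans_eq h3).trans ((Finset.sum_le_sum fun a _ => Finset.sum_le_sum fun a' _ => h2 a a').trans h4)
  rcases (Finset.sum_nonneg fun a _ => hm a : (0 : ℝ) ≤ s).eq_or_lt with h | h
  · exact le_of_eq_of_le h.symm (Nat.cast_nonneg e)
  · exact le_of_mul_le_mul_right (by rwa [pow_two] at h5) h

/-! ### Contributions -/

variable {G : Type u} [Group G] [Fintype G] {M : Ideal AlgInt} [M.IsMaximal] {p : ℕ} [hp : Fact p.Prime]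
  {C C' : Subgroup G}

/-- The translate by `y` on `C`. -/
def sfun (C : Subgroup G) (y : G) (χ : G → ℂ) : C → ℂ := fun c => χ (y * (c : G))

/-- `⟨(χ(y·))°, η⟩` on `C`. -/
noncomputable def sdot (p : ℕ) (C : Subgroup G) (y : G) (χ : G → ℂ) (η : C → ℂ) : ℂ :=
  regDot p (sfun C y χ) η

/-- The contribution of `(y, b)`. -/
noncomputable def ctr (p : ℕ) (C : Subgroup G) (b : Set (IrrCharacter C)) (y : G) (χ ψ : G → ℂ) : ℂ :=
  ∑ η ∈ Finset.univ.filter (· ∈ b), classInner (sfun C y χ) η.1 * conj (sdot p C y ψ η.1)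

theorem ctr_eq_contribution {x : G} (b : Set (IrrCharacter (Subgroup.centralizer ({x} : Set G))))
    (χ ψ : G → ℂ) : ctr p (Subgroup.centralizer ({x} : Set G)) b x χ ψ = Blocks.contribution p b χ ψ := rfl

theorem ctr_congr (h : C = C') {b : Set (IrrCharacter C)} {b' : Set (IrrCharacter C')}
    (hb : IsPBlock M b) (hb' : IsPBlock M b') (he : blk M C b = blk M C' b') (y : G) (χ ψ : G → ℂ) :
    ctr p C b y χ ψ = ctr p C' b' y χ ψ := by
  subst h
  rw [BrauerPairs.blk_injective C hb hb' he]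

theorem ctr_facts (hpM : (p : AlgInt) ∈ M) {y : G} (hC : C = Subgroup.centralizer ({y} : Set G))
    {k : ℕ} (hy : orderOf y = p ^ k) {B : Set (IrrCharacter G)} {b : Set (IrrCharacter C)}
    (hb : IsInducedBlock M C b B) (χ : IrrCharacter G) :
    (∑ ψ ∈ Finset.univ.filter (· ∈ B), ctr p C b y χ.1 ψ.1 * conj (ctr p C b y χ.1 ψ.1) =
      ctr p C b y χ.1 χ.1) ∧
    conj (ctr p C b y χ.1 χ.1) = ctr p C b y χ.1 χ.1 ∧
    (∀ ψ : IrrCharacter G, ∀ η ∈ b, sdot p C y ψ.1 η.1 = ∑ η' ∈ Finset.univ.filter (· ∈ b),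
      classInner (sfun C y ψ.1) η'.1 * regDot p η'.1 η.1) ∧
    (blockDefect p b = blockDefect p B → χ ∈ B → ctr p C b y χ.1 χ.1 ≠ 0) := by
  subst hC
  simp only [ctr_eq_contribution]
  have h1 := Blocks.sum_contribution_mul_conj hpM hy hb χ
  refine ⟨h1, Blocks.conj_contribution hpM hb.1 χ χ, fun ψ η hη => Blocks.regDot_secFun hpM hb.1 ψ hη, ?_⟩
  intro hd hχ h0
  obtain ⟨ψ, hψ, hψ0⟩ := Blocks.exists_height_zero hpM hb.2.1
  rw [h0] at h1
  have h2 : ∀ ψ ∈ Finset.univ.filter (· ∈ B), Blocks.contribution p b χ.1 ψ.1 = 0 := by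
    intro ψ hψ
    have h3 : ∀ ψ ∈ Finset.univ.filter (· ∈ B), ‖Blocks.contribution p b χ.1 ψ.1‖ ^ 2 = 0 := by
      refine (Finset.sum_eq_zero_iff_of_nonneg fun ψ _ => by positivity).1 ?_
      refine Complex.ofReal_injective ?_
      push_cast
      rw [Finset.sum_congr rfl fun ψ _ => (Complex.mul_conj' (Blocks.contribution p b χ.1 ψ.1)).symm, h1]
    simpa using h3 ψ hψ
  have h4 := (Blocks.contribution_height hpM hy hb hd hχ hψ hψ0).2.1
  rw [h2 ψ (Finset.mem_filter.2 ⟨Finset.mem_univ _, hψ⟩), mul_zero, zero_div] at h4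
  exact h4 Blocks.memLocalIdeal_zero

/-- The scalar of a central element. -/
noncomputable def scal {C : Subgroup G} (η : IrrCharacter C) (y : C) : ℂ :=
  Blocks.omega η.1 (MonoidAlgebra.single y 1)

theorem classInner_sfun {y : G} (hC : C = Subgroup.centralizer ({y} : Set G)) (hy : y ∈ C) (χ : G → ℂ)
    (η : IrrCharacter C) :
    classInner (sfun C y χ) η.1 = scal η ⟨y, hy⟩ * classInner (fun c : C => χ c) η.1 := by
  subst hC
  exact Blocks.classInner_secFun χ η

theorem scal_pow {C : Subgroup G} (η : IrrCharacter C) (y : C) (hy : ∀ a, Commute y a) (j : ℕ) :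
    scal η (y ^ j) = scal η y ^ j := by
  rw [scal, scal, ← Blocks.omega_pow η ?_ j, MonoidAlgebra.single_pow, one_pow]
  intro g h
  simp only [MonoidAlgebra.coeff_single, Finsupp.single_apply]
  refine if_congr ⟨fun e => ?_, fun e => ?_⟩ rfl rfl
  · rw [show g = h⁻¹ * (h * g * h⁻¹) * h by group, ← e, mul_assoc, (hy h).eq, inv_mul_cancel_left]
  · rw [← e, ← (hy h).eq, mul_inv_cancel_right]

theorem scal_one {C : Subgroup G} (η : IrrCharacter C) : scal η (1 : C) = 1 := by
  rw [scal, ← MonoidAlgebra.one_def, Blocks.omega_one]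

/-- The divisibility `p^h ∣ p^d ctr`. -/
theorem isIntegral_sdot {y : G} (hC : C = Subgroup.centralizer ({y} : Set G)) {k : ℕ}
    (hy : orderOf y = p ^ k) (χ : IrrCharacter G) (η : IrrCharacter C) :
    IsIntegral ℤ ((Nat.card G : ℂ) / χ.1 1 * sdot p C y χ.1 η.1) := by
  have hcy' : ∀ c : C, (c : G) * y = y * (c : G) := fun c =>
    Subgroup.mem_centralizer_singleton_iff.1 (hC.le c.2)
  haveI := Fintype.ofFinite (ConjClasses C)
  have hreg : ∀ c g : C, p ∣ orderOf (g * c * g⁻¹) ↔ p ∣ orderOf c := fun c g => by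
    rw [show orderOf (g * c * g⁻¹) = orderOf c from MulEquiv.orderOf_eq (MulAut.conj g) c]
  set f : C → ℂ := fun c => if p ∣ orderOf c then 0 else centralChar χ.1 (y * (c : G)) * conj (η.1 c)
    with hf
  have hfi : ∀ c, IsIntegral ℤ (f c) := fun c => by
    rw [hf]; dsimp only
    split_ifs
    · exact isIntegral_zero
    · exact (Blocks.isIntegral_centralChar χ _).mul
        (IsIntegral.map (starRingEnd ℂ).toIntAlgHom (CharInt.isIntegral_char (Char.irr_isCharacter η) c))
  have hfc : ∀ c g : C, f (g * c * g⁻¹) = f c := fun c g => by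
    have hyg : y * (g : G) = (g : G) * y := (hcy' g).symm
    rw [hf]; dsimp only
    rw [Blocks.irr_classFun η c g, show y * ((g * c * g⁻¹ : C) : G) = (g : G) * (y * c) * (g : G)⁻¹ by
      simp only [Subgroup.coe_mul, Subgroup.coe_inv]; rw [← mul_assoc, ← mul_assoc, hyg]; group,
      Blocks.centralChar_conj χ]
    exact if_congr (hreg c g) rfl rfl
  have hterm : ∀ c : C, Char.regFun p (sfun C y χ.1) c * conj (η.1 c) =
      χ.1 1 / (Nat.card G : ℂ) * ((Nat.card (Subgroup.centralizer ({c} : Set C)) : ℂ) * f c) := by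
    intro c
    unfold Char.regFun
    by_cases hc : p ∣ orderOf c
    · rw [hf]; simp [hc]
    rw [hf]; dsimp only
    rw [if_neg hc, if_neg hc]
    have hcy : Commute y (c : G) := (hcy' c).symm
    have hp' : IsPPart p (y * (c : G)) y := ⟨c, rfl, hcy, ⟨k, hy⟩, by rwa [Subgroup.orderOf_coe]⟩
    have hcard : Nat.card (Subgroup.centralizer ({y * (c : G)} : Set G)) =
        Nat.card (Subgroup.centralizer ({c} : Set C)) := by
      have hmem : ∀ u : Subgroup.centralizer ({y * (c : G)} : Set G), (u : G) ∈ C := fun u => by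
        have h1 := Blocks.IsPPart.conj hp' (u : G)
        rw [show (u : G) * (y * c) * (u : G)⁻¹ = y * c by
          rw [Subgroup.mem_centralizer_singleton_iff.1 u.2, mul_inv_cancel_right]] at h1
        exact hC.ge (Subgroup.mem_centralizer_singleton_iff.2
          (mul_inv_eq_iff_eq_mul.1 (Blocks.IsPPart.unique h1 hp')))
      refine Nat.card_congr
        { toFun := fun u => ⟨⟨(u : G), hmem u⟩, Subgroup.mem_centralizer_singleton_iff.2 (Subtype.ext ?_)⟩
          invFun := fun u => ⟨((u : C) : G), Subgroup.mem_centralizer_singleton_iff.2 ?_⟩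
          left_inv := fun _ => rfl
          right_inv := fun _ => rfl }
      · have h2 := Subgroup.mem_centralizer_singleton_iff.1 u.2
        have h3 := hcy' ⟨_, hmem u⟩
        rw [← mul_assoc, h3, mul_assoc, mul_assoc] at h2
        exact mul_left_cancel h2
      · have h3 := hcy' (u : C)
        have h4 : ((u : C) : G) * c = c * (u : C) :=
          congrArg Subtype.val (Subgroup.mem_centralizer_singleton_iff.1 u.2)
        rw [← mul_assoc, h3, mul_assoc, h4, mul_assoc]
    have hidx : ((Subgroup.centralizer ({y * (c : G)} : Set G)).index : ℂ) *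
        (Nat.card (Subgroup.centralizer ({y * (c : G)} : Set G)) : ℂ) = (Nat.card G : ℂ) := by
      exact_mod_cast Subgroup.index_mul_card (Subgroup.centralizer ({y * (c : G)} : Set G))
    have h0 : χ.1 1 ≠ 0 := Blocks.irr_one_ne_zero χ
    have hG : (Nat.card G : ℂ) ≠ 0 := Nat.cast_ne_zero.2 Nat.card_pos.ne'
    rw [← hcard, centralChar, sfun]
    field_simp
    linear_combination -(χ.1 (y * (c : G)) * conj (η.1 c)) * hidx
  have hfib : ∀ K : ConjClasses C, ∑ c ∈ Finset.univ.filter (fun c => ConjClasses.mk c = K),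
      (Nat.card (Subgroup.centralizer ({c} : Set C)) : ℂ) * f c = (Nat.card C : ℂ) * f K.out := by
    intro K
    have hK : ConjClasses.mk K.out = K := Quotient.out_eq K
    have hconst : ∀ c ∈ Finset.univ.filter (fun c => ConjClasses.mk c = K),
        (Nat.card (Subgroup.centralizer ({c} : Set C)) : ℂ) * f c =
          (Nat.card (Subgroup.centralizer ({K.out} : Set C)) : ℂ) * f K.out := by
      intro c hc
      obtain ⟨g, rfl⟩ := isConj_iff.1 (ConjClasses.mk_eq_mk_iff_isConj.1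
        (hK.trans (Finset.mem_filter.1 hc).2.symm))
      rw [hfc]
      congr 2
      refine Nat.eq_of_mul_eq_mul_right (Nat.pos_of_ne_zero
        (Subgroup.centralizer ({g * K.out * g⁻¹} : Set C)).index_ne_zero_of_finite) ?_
      rw [Subgroup.card_mul_index, Blocks.index_centralizer_conj, Subgroup.card_mul_index]
    rw [Finset.sum_congr rfl hconst, Finset.sum_const, nsmul_eq_mul, ← mul_assoc, ← Nat.cast_mul]
    congr 2
    rw [← Subgroup.card_mul_index (Subgroup.centralizer ({K.out} : Set C)),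
      ← Blocks.card_isConj_eq_index, mul_comm]
    congr 1
    rw [Nat.card_eq_fintype_card, Fintype.card_subtype]
    congr 1
    ext c
    simp only [Finset.mem_filter, Finset.mem_univ, true_and]
    rw [← ConjClasses.mk_eq_mk_iff_isConj, hK, eq_comm]
  have hkey : (Nat.card G : ℂ) / χ.1 1 * sdot p C y χ.1 η.1 = ∑ K : ConjClasses C, f K.out := by
    have hG : (Nat.card G : ℂ) ≠ 0 := Nat.cast_ne_zero.2 Nat.card_pos.ne'
    have hC0 : (Nat.card C : ℂ) ≠ 0 := Nat.cast_ne_zero.2 Nat.card_pos.ne'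
    have h0 : χ.1 1 ≠ 0 := Blocks.irr_one_ne_zero χ
    rw [sdot, regDot, classInner, Finset.sum_congr rfl fun c _ => hterm c, ← Finset.mul_sum,
      ← Finset.sum_fiberwise Finset.univ ConjClasses.mk
        (fun c => (Nat.card (Subgroup.centralizer ({c} : Set C)) : ℂ) * f c),
      Finset.sum_congr rfl fun K _ => hfib K, ← Finset.mul_sum]
    field_simp
  rw [hkey]
  exact IsIntegral.sum _ fun K _ => hfi _

/-- `Σ_ψ D(ψ, η) conj D(ψ, η') = ⟨η°, η'⟩` for `η'` in any block. -/
theorem sum_regDot_secFun_gen (hpM : (p : AlgInt) ∈ M) {x : G} {k : ℕ} (hx : orderOf x = p ^ k)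
    {B : Set (IrrCharacter G)} {b : Set (IrrCharacter (Subgroup.centralizer ({x} : Set G)))}
    (hb : IsInducedBlock M (Subgroup.centralizer ({x} : Set G)) b B)
    {η : IrrCharacter (Subgroup.centralizer ({x} : Set G))} (hη : η ∈ b)
    (η' : IrrCharacter (Subgroup.centralizer ({x} : Set G))) :
    ∑ ψ ∈ Finset.univ.filter (· ∈ B),
      regDot p (Blocks.secFun x ψ.1) η.1 * conj (regDot p (Blocks.secFun x ψ.1) η'.1) =
        regDot p η.1 η'.1 := by
  have hker : ∀ a a', ∑ ψ ∈ Finset.univ.filter (· ∈ B),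
      Char.regFun p (Blocks.secFun x ψ.1) a * conj (Char.regFun p (Blocks.secFun x ψ.1) a') =
      ∑ ν ∈ Finset.univ.filter (· ∈ Blocks.inducingSet M (Subgroup.centralizer ({x} : Set G)) B),
        Char.regFun p ν.1 a * conj (Char.regFun p ν.1 a') := by
    intro a a'
    by_cases ha : p ∣ orderOf a
    · simp [Char.regFun, ha]
    by_cases ha' : p ∣ orderOf a'
    · simp [Char.regFun, ha']
    simp only [Char.regFun, if_neg ha, if_neg ha', Blocks.secFun]
    exact Blocks.second_main_orth hpM ⟨k, hx⟩ hb.2.1 ha ha'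
  have h : ∑ ψ ∈ Finset.univ.filter (· ∈ B),
      regDot p (Blocks.secFun x ψ.1) η.1 * conj (regDot p (Blocks.secFun x ψ.1) η'.1) =
      ∑ ν ∈ Finset.univ.filter (· ∈ Blocks.inducingSet M (Subgroup.centralizer ({x} : Set G)) B),
        regDot p ν.1 η.1 * conj (regDot p ν.1 η'.1) :=
    Blocks.sum_classInner_mul_conj _ _ (fun ψ : IrrCharacter G => Char.regFun p (Blocks.secFun x ψ.1))
      (fun ν : IrrCharacter (Subgroup.centralizer ({x} : Set G)) => Char.regFun p ν.1) hker _ _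
  rw [h]
  simp only [Blocks.conj_regDot_irr]
  rw [← Blocks.sum_regDot_mul_filter hpM hb.1 hη η'.1]
  refine (Finset.sum_congr rfl fun ν _ => ?_).trans
    (Finset.sum_subset (fun ν hν => ?_) fun ν _ hν => ?_).symm
  · rw [regDot_comm hp.out ν η]
  · refine Finset.mem_filter.2 ⟨Finset.mem_univ _, ?_⟩
    show IsInducedBlock M _ (blockOf M ν.1) B
    rwa [← Blocks.block_eq hb.1 (Finset.mem_filter.1 hν).2]
  · rw [regDot_eq_zero hpM hp.out hb.1 hη fun h => hν (Finset.mem_filter.2 ⟨Finset.mem_univ _, h⟩),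
      zero_mul]

/-- Orthogonality of contributions of subsections which are not conjugate. -/
theorem sum_ctr_mul_conj_eq_zero (hpM : (p : AlgInt) ∈ M) {y y' : G}
    (hC : C = Subgroup.centralizer ({y} : Set G)) (hC' : C' = Subgroup.centralizer ({y'} : Set G))
    {k k' : ℕ} (hy : orderOf y = p ^ k) (hy' : orderOf y' = p ^ k') {B : Set (IrrCharacter G)}
    {b : Set (IrrCharacter C)} {b' : Set (IrrCharacter C')} (hb : IsInducedBlock M C b B)
    (hb' : IsPBlock M b') (hne : ∀ g : G, g * y * g⁻¹ = y' → conjEl g (blk M C b) ≠ blk M C' b')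
    (χ : IrrCharacter G) :
    ∑ ψ ∈ Finset.univ.filter (· ∈ B), ctr p C b y χ.1 ψ.1 * conj (ctr p C' b' y' χ.1 ψ.1) = 0 := by
  subst hC hC'
  have key : ∀ η ∈ b, ∀ η' ∈ b', ∑ ψ ∈ Finset.univ.filter (· ∈ B),
      sdot p _ y' ψ.1 η'.1 * conj (sdot p _ y ψ.1 η.1) = 0 := by
    intro η hη η' hη'
    by_cases hconj : IsConj y y'
    · obtain ⟨g, rfl⟩ := isConj_iff.1 hconj
      have hH : ∀ c, c ∈ Subgroup.centralizer ({g * y * g⁻¹} : Set G) ↔
          g⁻¹ * c * g ∈ Subgroup.centralizer ({y} : Set G) := fun c => by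
        rw [← Blocks.map_conj_centralizer, Subgroup.mem_map_equiv, MulAut.conj_symm_apply]
      let ι := conjIso g hH
      obtain ⟨η₀, rfl⟩ := (compIrr ι).surjective η'
      have hη₀ : η₀ ∉ b := fun h => hne g rfl (by
        rw [← BrauerPairs.blk_mapBlock_conjIso g hH b]
        congr 1
        have h1 := BrauerPairs.isPBlock_mapBlock (M := M) ι hb.1
        exact (BrauerPairs.eq_blockOf_of_mem h1 (χ := compIrr ι η₀) ⟨η₀, h, rfl⟩).trans
          (BrauerPairs.eq_blockOf_of_mem hb' hη').symm)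
      have hs : ∀ ψ : IrrCharacter G, sdot p _ (g * y * g⁻¹) ψ.1 (compIrr ι η₀).1 =
          regDot p (Blocks.secFun y ψ.1) η₀.1 := by
        intro ψ
        rw [sdot, regDot, regDot, classInner, classInner, Nat.card_congr ι.toEquiv]
        congr 1
        refine Fintype.sum_equiv ι.toEquiv _ _ fun c => ?_
        show _ = Char.regFun p (Blocks.secFun y ψ.1) (ι c) * conj (η₀.1 (ι c))
        unfold Char.regFun
        rw [show orderOf (ι c) = orderOf c from MulEquiv.orderOf_eq ι c]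
        split_ifs with hd
        · simp
        · congr 1
          show ψ.1 (g * y * g⁻¹ * (c : G)) = ψ.1 (y * (g⁻¹ * (c : G) * g))
          rw [← Blocks.irr_classFun ψ (y * (g⁻¹ * (c : G) * g)) g]
          congr 1
          group
      simp only [hs]
      have h1 := sum_regDot_secFun_gen hpM hy hb hη η₀
      rw [regDot_eq_zero hpM hp.out hb.1 hη hη₀, ← map_eq_zero (starRingEnd ℂ), map_sum] at h1
      rw [← h1]
      refine Finset.sum_congr rfl fun ψ _ => ?_
      rw [map_mul, Complex.conj_conj, mul_comm]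
      rfl
    · have hker : ∀ (c : Subgroup.centralizer ({y} : Set G)) (c' : Subgroup.centralizer ({y'} : Set G)),
          ∑ ψ ∈ Finset.univ.filter (· ∈ B), Char.regFun p (sfun _ y' ψ.1) c' *
            conj (Char.regFun p (sfun _ y ψ.1) c) = 0 := by
        intro c c'
        by_cases hd : p ∣ orderOf c
        · simp [Char.regFun, hd]
        by_cases hd' : p ∣ orderOf c'
        · simp [Char.regFun, hd']
        simp only [Char.regFun, if_neg hd, if_neg hd', sfun]
        exact Blocks.block_orthogonality hpM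
          (Blocks.isPPart_mul (Subgroup.mem_centralizer_singleton_iff.1 c'.2).symm ⟨k', hy'⟩
            (by rw [IsPRegular, Subgroup.orderOf_coe]; exact hd'))
          (Blocks.isPPart_mul (Subgroup.mem_centralizer_singleton_iff.1 c.2).symm ⟨k, hy⟩
            (by rw [IsPRegular, Subgroup.orderOf_coe]; exact hd))
          (fun h => hconj h.symm) hb.2.1
      simp only [sdot, regDot, classInner, map_mul, map_sum, map_inv₀, map_natCast, Finset.mul_sum,
        Finset.sum_mul]
      rw [Finset.sum_comm]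
      refine Finset.sum_eq_zero fun c _ => ?_
      rw [Finset.sum_comm]
      refine Finset.sum_eq_zero fun c' _ => ?_
      obtain ⟨K, hK⟩ : ∃ K : ℂ, K = (Nat.card (Subgroup.centralizer ({y'} : Set G)) : ℂ)⁻¹ * conj (η'.1 c') *
          ((Nat.card (Subgroup.centralizer ({y} : Set G)) : ℂ)⁻¹ * η.1 c) := ⟨_, rfl⟩
      rw [← mul_eq_zero_of_right K (hker c c'), Finset.mul_sum]
      exact Finset.sum_congr rfl fun ψ _ => by rw [hK, Complex.conj_conj]; ring
  simp only [ctr, map_sum, map_mul, Complex.conj_conj, Finset.sum_mul, Finset.mul_sum]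
  rw [Finset.sum_comm]
  refine Finset.sum_eq_zero fun η' hη' => ?_
  rw [Finset.sum_comm]
  refine Finset.sum_eq_zero fun η hη => ?_
  obtain ⟨K, hK⟩ : ∃ K : ℂ, K = classInner (sfun (Subgroup.centralizer ({y} : Set G)) y χ.1) η.1 *
      conj (classInner (sfun (Subgroup.centralizer ({y'} : Set G)) y' χ.1) η'.1) := ⟨_, rfl⟩
  rw [← mul_eq_zero_of_right K (key η (Finset.mem_filter.1 hη).2 η' (Finset.mem_filter.1 hη').2),
    Finset.mul_sum]
  exact Finset.sum_congr rfl fun ψ _ => by rw [hK]; ring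

/-- Twists of the contribution. -/
theorem exists_combination (hpM : (p : AlgInt) ∈ M) {y : G} (hyC : y ∈ C)
    (hC : ∀ j : ℕ, j.Coprime (Nat.card G) → C = Subgroup.centralizer ({y ^ j} : Set G))
    {b : Set (IrrCharacter C)} (hb : IsPBlock M b) (χ : IrrCharacter G) :
    ∃ (c : IrrCharacter C × IrrCharacter C → ℤ) (μ : IrrCharacter C × IrrCharacter C → ℂ),
      (∀ i, μ i ^ Nat.card G = 1) ∧ ∀ j : ℕ, j.Coprime (Nat.card G) →
        ((p ^ blockDefect p b : ℕ) : ℂ) * ctr p C b (y ^ j) χ.1 χ.1 =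
          ∑ i, (c i : ℂ) * μ i ^ j := by
  have hcent : ∀ a : C, Commute (⟨y, hyC⟩ : C) a := fun a => Subtype.ext (by
    have h := hC 1 (Nat.coprime_one_left _)
    rw [pow_one] at h
    exact (Subgroup.mem_centralizer_singleton_iff.1 (h.le a.2)).symm)
  have hN : ∀ η : IrrCharacter C, scal η ⟨y, hyC⟩ ^ Nat.card G = 1 := fun η => by
    rw [← scal_pow η _ hcent, show (⟨y, hyC⟩ : C) ^ Nat.card G = 1 from Subtype.ext (by
      simp), scal_one]
  obtain ⟨m, -, hm⟩ := Char.IsCharacter.exists_decomp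
    (Char.IsCharacter.restrict (Char.irr_isCharacter χ) C)
  have hex : ∀ η : IrrCharacter C, ∃ c : IrrCharacter C → ℤ, η ∈ b →
      ∀ ν, ((p ^ blockDefect p b : ℕ) : ℂ) * regDot p η.1 ν.1 = c ν := fun η => by
    by_cases hη : η ∈ b
    · obtain ⟨c, hc⟩ := BrauerPairs.exists_int_regDot hpM hp.out hb hη
      exact ⟨c, fun _ => hc⟩
    · exact ⟨0, fun h => absurd h hη⟩
  choose c hc using hex
  refine ⟨fun i => if i.1 ∈ b ∧ i.2 ∈ b then (m i.1 : ℤ) * m i.2 * c i.2 i.1 else 0,
    fun i => scal i.1 ⟨y, hyC⟩ * conj (scal i.2 ⟨y, hyC⟩), fun i => ?_, fun j hj => ?_⟩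
  · simp only [mul_pow, ← map_pow, hN, map_one, mul_one]
  have hC' := hC j hj
  have hd : ∀ η ∈ b, sdot p C (y ^ j) χ.1 η.1 = ∑ η' ∈ Finset.univ.filter (· ∈ b),
      classInner (sfun C (y ^ j) χ.1) η'.1 * regDot p η'.1 η.1 := by
    subst hC'
    exact fun η hη => Blocks.regDot_secFun hpM hb χ hη
  have hA : ∀ η : IrrCharacter C,
      classInner (sfun C (y ^ j) χ.1) η.1 = scal η ⟨y, hyC⟩ ^ j * (m η : ℂ) := fun η => by
    rw [classInner_sfun hC' (pow_mem hyC j), ← hm η,
      ← scal_pow η _ hcent]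
    rfl
  rw [Fintype.sum_prod_type, ctr, Finset.mul_sum, Finset.sum_filter]
  refine Finset.sum_congr rfl fun η _ => ?_
  by_cases hη : η ∈ b
  swap
  · simp [hη]
  rw [if_pos hη, hd η hη, map_sum, Finset.mul_sum, Finset.mul_sum, Finset.sum_filter]
  refine Finset.sum_congr rfl fun η' _ => ?_
  by_cases hη' : η' ∈ b
  swap
  · simp [hη']
  simp only [hη, hη', and_self, if_true]
  rw [hA, hA, map_mul, map_mul, map_natCast, Blocks.conj_regDot_irr, mul_pow, map_pow]
  simp only [Int.cast_mul, Int.cast_natCast, ← hc η' hη' η]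
  ring

/-- The divisibility `p^h ∣ p^d m(χ, χ)`. -/
theorem isIntegral_ctr_div (hpM : (p : AlgInt) ∈ M) {y : G} (hyC : y ∈ C)
    (hC : ∀ j : ℕ, j.Coprime (Nat.card G) → C = Subgroup.centralizer ({y ^ j} : Set G))
    {k : ℕ} (hy : orderOf y = p ^ k) {B : Set (IrrCharacter G)} {b : Set (IrrCharacter C)}
    (hb : IsPBlock M b) (hd : blockDefect p b = blockDefect p B) (χ : IrrCharacter G) (hχ : χ ∈ B) :
    IsIntegral ℤ (((p ^ blockDefect p b : ℕ) : ℂ) * ctr p C b y χ.1 χ.1 /
      ((p ^ blockHeight p B χ.1 : ℕ) : ℂ)) := by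
  have hC1 : C = Subgroup.centralizer ({y} : Set G) := by simpa using hC 1 (Nat.coprime_one_left _)
  obtain ⟨c, μ, hμ, hval⟩ := exists_combination hpM hyC hC hb χ
  set d := blockDefect p b with hddef
  set h := blockHeight p B χ.1 with hhdef
  set a := (Nat.card G).factorization p
  set m := Nat.card G / p ^ a
  set u := Char.degree χ / p ^ (Char.degree χ).factorization p
  set X := ((p ^ d : ℕ) : ℂ) * ctr p C b y χ.1 χ.1 with hX
  have hXi : IsIntegral ℤ X := by
    have h1 := hval 1 (Nat.coprime_one_left _)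
    simp only [pow_one] at h1
    rw [hX, h1]
    exact IsIntegral.sum _ fun i _ => (isIntegral_algebraMap (x := c i)).mul
      (IsIntegral.of_pow (Nat.card_pos (α := G)) (by rw [hμ]; exact isIntegral_one))
  have hW : IsIntegral ℤ ((Nat.card G : ℂ) / χ.1 1 * ctr p C b y χ.1 χ.1) := by
    rw [ctr, Finset.mul_sum]
    refine IsIntegral.sum _ fun η _ => ?_
    obtain ⟨mm, -, hm⟩ := Char.IsCharacter.exists_decomp
      (Char.IsCharacter.restrict (Char.irr_isCharacter χ) C)
    rw [classInner_sfun hC1 hyC, hm η, mul_left_comm]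
    refine IsIntegral.mul (IsIntegral.mul ?_ ?_) ?_
    · refine IsIntegral.of_pow (Nat.card_pos (α := C)) ?_
      rw [← scal_pow η _ (fun a => Subtype.ext
        (Subgroup.mem_centralizer_singleton_iff.1 (hC1.le a.2)).symm) , pow_card_eq_one', scal_one]
      exact isIntegral_one
    · exact isIntegral_natCast _
    · have h2 := IsIntegral.map (starRingEnd ℂ).toIntAlgHom (isIntegral_sdot hC1 hy χ η)
      simpa [map_div₀, Char.apply_one_eq_degree] using h2
  have he : (Char.degree χ).factorization p + d = a + h := by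
    have h1 := Char.sInf_le_factorization_degree (p := p) hχ
    have h2 : (Char.degree χ).factorization p ≤ a :=
      (Nat.factorization_le_iff_dvd (Char.degree_pos χ).ne' Nat.card_pos.ne').2
        (Char.degree_dvd_natCard χ) p
    rw [hd, hhdef, blockDefect, blockHeight, Blocks.charDegree_eq]
    omega
  have hdeg : (Char.degree χ : ℂ) = (p : ℂ) ^ (Char.degree χ).factorization p * u := by
    exact_mod_cast (Nat.ordProj_mul_ordCompl_eq_self _ _).symm
  have hG : (Nat.card G : ℂ) = (p : ℂ) ^ a * m := by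
    exact_mod_cast (Nat.ordProj_mul_ordCompl_eq_self _ _).symm
  have hp0 : (p : ℂ) ≠ 0 := Nat.cast_ne_zero.2 hp.out.ne_zero
  have hmX : IsIntegral ℤ ((m : ℂ) * (X / ((p ^ h : ℕ) : ℂ))) := by
    refine (congrArg (IsIntegral ℤ) ?_).mp ((isIntegral_natCast u).mul hW)
    have hpe : (p : ℂ) ^ (Char.degree χ).factorization p * (p : ℂ) ^ d =
        (p : ℂ) ^ a * (p : ℂ) ^ h := by rw [← pow_add, ← pow_add, he]
    have hu : (u : ℂ) ≠ 0 := fun h0 => by
      have := Char.degree_pos χ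
      rw [h0, mul_zero, Nat.cast_eq_zero] at hdeg
      omega
    rw [Char.apply_one_eq_degree, hdeg, hG, hX, Nat.cast_pow, Nat.cast_pow]
    field_simp
    linear_combination -((m : ℂ) * ctr p C b y χ.1 χ.1) * hpe
  have hcop : IsCoprime ((m : ℤ)) ((p ^ h : ℕ) : ℤ) := by
    refine Nat.isCoprime_iff_coprime.2 (Nat.Coprime.pow_right _ ?_)
    exact (hp.out.coprime_iff_not_dvd.2 (Nat.not_dvd_ordCompl hp.out Nat.card_pos.ne')).symm
  obtain ⟨r, s, hrs⟩ := hcop
  have hph : ((p ^ h : ℕ) : ℂ) ≠ 0 := Nat.cast_ne_zero.2 (pow_ne_zero _ hp.out.ne_zero)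
  refine (congrArg (IsIntegral ℤ) ?_).mp
    (((isIntegral_algebraMap (A := ℂ) (x := r)).mul hmX).add ((isIntegral_algebraMap (A := ℂ) (x := s)).mul hXi))
  have h3 : (r : ℂ) * m + (s : ℂ) * ((p ^ h : ℕ) : ℂ) = 1 := by exact_mod_cast hrs
  simp only [algebraMap_int_eq, eq_intCast]
  field_simp
  linear_combination X * h3

end Cfsg.Agent.HeightBound
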