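import Cfsg.Agent.Lib.BrauerPairs.Bridge
import Cfsg.Agent.Lib.BrauerPairs.NilpotentBlock
import Cfsg.Agent.Lib.Blocks.ModReduction
import Cfsg.Agent.Lib.Char.KernelSum

/-!
# Blocks of least possible rank

If the block idempotent `e` has left rank at most `|P|² / |D|` (`P` a Sylow `p`-subgroup, `D ≤ P` a
defect group), then `e k[G]` is a transitive permutation module for `P × P`, and every conjugation
between subgroups of `P` that is seen by `e` is induced by an element of `P`.
-/

set_option autoImplicit false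
set_option linter.unusedSectionVars false

open MonoidAlgebra Cfsg
open scoped Classical Cfsg.Agent.Blocks

namespace Cfsg.Agent.BrauerPairs.MinimalRank

open Cfsg.Agent Cfsg.Agent.BrauerPairs

universe u

variable {k : Type*} [Field k] {p : ℕ} [Fact p.Prime] [CharP k p]

/-- A nonzero vector has a nonzero fixed combination of its translates under a `p`-group. -/
theorem exists_fixed_combination {V : Type*} [AddCommGroup V] [Module k V] {H : Type*} [Group H]
    [Fintype H] (hH : IsPGroup p H) (act : H →* Module.End k V) (v : V) (hv : v ≠ 0) :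
    ∃ c : H → k, (∑ h, c h • act h v) ≠ 0 ∧
      ∀ g, act g (∑ h, c h • act h v) = ∑ h, c h • act h v := by
  let ι : ZMod p →+* k := ZMod.castHom (dvd_refl p) k
  let θ : (H → ZMod p) →+ V :=
    { toFun := fun n => ∑ h, ι (n h) • act h v
      map_zero' := by simp
      map_add' := fun a b => by simp [add_smul, Finset.sum_add_distrib] }
  have hinv : ∀ g : H, ∀ n, act g (θ n) = θ fun h => n (g⁻¹ * h) := by
    intro g n
    show act g (∑ h, ι (n h) • act h v) = ∑ h, ι (n (g⁻¹ * h)) • act h v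
    rw [map_sum]
    refine Fintype.sum_equiv (Equiv.mulLeft g) _ _ fun h => ?_
    simp [map_smul, map_mul]
  letI : MulAction H θ.range :=
    { smul := fun g a => ⟨act g a.1, by
        obtain ⟨n, hn⟩ := a.2
        exact ⟨_, by rw [← hn]; exact (hinv g n).symm⟩⟩
      one_smul := fun a => Subtype.ext (by show act 1 a.1 = a.1; simp)
      mul_smul := fun g h a => Subtype.ext (by show act (g * h) a.1 = act g (act h a.1); simp) }
  have hvmem : v ∈ θ.range := ⟨Pi.single 1 1, by
    show ∑ h, ι ((Pi.single 1 1 : H → ZMod p) h) • act h v = v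
    rw [Finset.sum_eq_single 1]
    · simp
    · intro b _ hb; simp [Pi.single_eq_of_ne hb]
    · intro h; exact absurd (Finset.mem_univ _) h⟩
  haveI : Finite θ.range := Finite.of_surjective θ.rangeRestrict θ.rangeRestrict_surjective
  haveI : Nontrivial θ.range := ⟨⟨v, hvmem⟩, 0, fun h => hv (congrArg Subtype.val h)⟩
  have hd : p ∣ Nat.card θ.range := by
    have h1 : Nat.card θ.range ∣ p ^ Nat.card H := by
      have h2 := AddSubgroup.card_range_dvd θ
      rwa [Nat.card_fun, Nat.card_zmod] at h2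
    obtain ⟨m, -, hm⟩ := (Nat.dvd_prime_pow Fact.out).1 h1
    have h3 : 1 < Nat.card θ.range := Finite.one_lt_card
    rw [hm] at h3 ⊢
    exact dvd_pow_self p fun h0 => by simp [h0] at h3
  obtain ⟨a, ha, hne⟩ := hH.exists_fixed_point_of_prime_dvd_card_of_fixed_point (α := θ.range) hd
    (a := 0) (fun g => Subtype.ext (map_zero (act g)))
  obtain ⟨n, hn⟩ := a.2
  refine ⟨fun h => ι (n h), fun h0 => hne (Subtype.ext ?_), fun g => ?_⟩
  · show (0 : V) = a.1
    rw [← hn]; exact h0.symm
  · show act g (θ n) = θ n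
    rw [hn]
    exact congrArg Subtype.val (ha g)

/-- Translation of functions. -/
noncomputable def transl {H X : Type*} [Group H] [MulAction H X] : H →* Module.End k (X → k) where
  toFun h := LinearMap.funLeft k k fun x => h⁻¹ • x
  map_one' := LinearMap.ext fun f => funext fun x => by simp [LinearMap.funLeft_apply]
  map_mul' g h := LinearMap.ext fun f => funext fun x => by
    simp [LinearMap.funLeft_apply, mul_smul]

theorem transl_apply {H X : Type*} [Group H] [MulAction H X] (h : H) (f : X → k) (x : X) :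
    (transl h : Module.End k (X → k)) f x = f (h⁻¹ • x) := rfl

variable {G : Type u} [Group G] [Fintype G]

/-- `P × P` acting on `G` by `(u, v) • z = u z v⁻¹`. -/
@[reducible] def biAct (P : Subgroup G) : MulAction (P × P) G where
  smul h z := (h.1 : G) * z * (h.2 : G)⁻¹
  one_smul z := by show ((1 : P) : G) * z * ((1 : P) : G)⁻¹ = z; simp
  mul_smul g h z := by
    show ((g.1 * h.1 : P) : G) * z * ((g.2 * h.2 : P) : G)⁻¹ =
      (g.1 : G) * ((h.1 : G) * z * (h.2 : G)⁻¹) * (g.2 : G)⁻¹
    simp [mul_assoc]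

/-- Conjugations seen by a block of least rank are induced by the Sylow subgroup. -/
theorem exists_conj {e A : k[G]} (he : ∀ g z : G, e.coeff (g * z * g⁻¹) = e.coeff z)
    (hidem : e * e = e) {P D : Subgroup G} (hP : IsPGroup p P) (hDP : D ≤ P)
    (hDe : br D e ≠ 0) (hA : A ∈ fixedBy k D) (htr : e = relTr D ⊤ A)
    (hrank : (Matrix.of fun i j : G => e.coeff (i * j⁻¹)).rank * Nat.card D ≤ Nat.card P * Nat.card P)
    {Q : Subgroup G} (hQ : Q ≤ P) (hQe : br Q e ≠ 0) {g : G} (hg : ∀ q ∈ Q, g * q * g⁻¹ ∈ P) :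
    ∃ u ∈ P, ∀ q ∈ Q, g * q * g⁻¹ = u * q * u⁻¹ := by
  letI := biAct P
  have hsm : ∀ (h : P × P) (z : G), h • z = (h.1 : G) * z * (h.2 : G)⁻¹ := fun h z => rfl
  have hH : IsPGroup p (P × P) := by
    intro x
    obtain ⟨a, ha⟩ := hP x.1
    obtain ⟨b, hb⟩ := hP x.2
    refine ⟨a + b, Prod.ext ?_ ?_⟩
    · show x.1 ^ p ^ (a + b) = 1
      rw [pow_add, pow_mul, ha, one_pow]
    · show x.2 ^ p ^ (a + b) = 1
      rw [pow_add, mul_comm, pow_mul, hb, one_pow]
  set E : Matrix G G k := Matrix.of fun i j : G => e.coeff (i * j⁻¹) with hE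
  have hK : ∀ (h : P × P) (z y : G), e.coeff ((h • z) * (h • y)⁻¹) = e.coeff (z * y⁻¹) := by
    intro h z y
    rw [hsm, hsm, show (h.1 : G) * z * (h.2 : G)⁻¹ * ((h.1 : G) * y * (h.2 : G)⁻¹)⁻¹ =
      (h.1 : G) * (z * y⁻¹) * (h.1 : G)⁻¹ by group, he]
  have hid : ∀ z g' : G, ∑ y, e.coeff (z * y⁻¹) * e.coeff (y * g'⁻¹) = e.coeff (z * g'⁻¹) := by
    intro z g'
    conv_rhs => rw [← hidem, Blocks.coeff_mul_eq_sum']
    refine Fintype.sum_equiv (Equiv.mulRight g'⁻¹) _ _ fun y => ?_
    simp [mul_assoc]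
  -- a bi-invariant vector in the image
  obtain ⟨z₀, -, hz₀⟩ : ∃ z, z ∈ Subgroup.centralizer (D : Set G) ∧ e.coeff z ≠ 0 := by
    by_contra! h
    refine hDe ?_
    ext z
    rw [coeff_br]
    split_ifs with hz
    · simpa using h z hz
    · simp
  obtain ⟨a, haw, hwfix⟩ := exists_fixed_combination (k := k) hH (transl (X := G))
    (fun z => e.coeff z) (fun h => hz₀ (congrFun h z₀))
  set w : G → k := ∑ h, a h • (transl h : Module.End k (G → k)) (fun z => e.coeff z) with hw
  have hwinv : ∀ (h : P × P) (z : G), w (h • z) = w z := by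
    intro h z
    conv_lhs => rw [← hwfix h]
    rw [transl_apply, inv_smul_smul]
  have hEw : ∀ z, ∑ y, e.coeff (z * y⁻¹) * w y = w z := by
    intro z
    simp only [hw, Finset.sum_apply, Pi.smul_apply, smul_eq_mul, transl_apply, Finset.mul_sum]
    rw [Finset.sum_comm]
    refine Finset.sum_congr rfl fun h _ => ?_
    have hcol : ∀ y : G, e.coeff (h⁻¹ • y) = e.coeff (y * ((h.1 : G) * (h.2 : G)⁻¹)⁻¹) := by
      intro y
      have h1 := hK h (h⁻¹ • y) 1
      rw [smul_inv_smul, hsm h 1, mul_one, inv_one, mul_one] at h1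
      exact h1.symm
    simp only [hcol]
    rw [← hid z, Finset.mul_sum]
    exact Finset.sum_congr rfl fun y _ => by ring
  -- it lives on small stabilizers
  have hsmall : ∀ x, w x ≠ 0 → Nat.card (MulAction.stabilizer (P × P) x) ≤ Nat.card D := by
    intro x hx
    set S := MulAction.stabilizer (P × P) x
    let j : S →* (⊤ : Subgroup G) :=
      { toFun := fun s => ⟨(s.1.1 : G), Subgroup.mem_top _⟩
        map_one' := rfl
        map_mul' := fun _ _ => rfl }
    letI := Fintype.ofFinite ((⊤ : Subgroup G) ⧸ D.subgroupOf ⊤)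
    letI : MulAction S ((⊤ : Subgroup G) ⧸ D.subgroupOf ⊤) := MulAction.compHom _ j
    set f : ((⊤ : Subgroup G) ⧸ D.subgroupOf ⊤) → k := fun q =>
      ∑ y, (conjEl ((q.out : (⊤ : Subgroup G)) : G) A).coeff (x * y⁻¹) * w y with hf
    have hsum : w x = ∑ q, f q := by
      rw [← hEw x]
      conv_lhs => rw [htr]
      simp only [hf, relTr, MonoidAlgebra.coeff_sum, Finsupp.coe_finset_sum, Finset.sum_apply,
        Finset.sum_mul]
      exact Finset.sum_comm
    have hfinv : ∀ (s : S) (q : (⊤ : Subgroup G) ⧸ D.subgroupOf ⊤), f (s • q) = f q := by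
      intro s q
      have e1 : ((j s * q.out : (⊤ : Subgroup G)) : (⊤ : Subgroup G) ⧸ D.subgroupOf ⊤) =
          (((s • q).out : (⊤ : Subgroup G)) : (⊤ : Subgroup G) ⧸ D.subgroupOf ⊤) := by
        rw [QuotientGroup.out_eq']
        exact (coset_smul_eq (j s) q).symm
      have e2 := conjEl_eq_of_quotient_eq hA e1
      simp only [hf]
      rw [← e2, show (((j s * q.out : (⊤ : Subgroup G))) : G) =
        (s.1.1 : G) * ((q.out : (⊤ : Subgroup G)) : G) from rfl, conjEl_mul]
      refine Fintype.sum_equiv (MulAction.toPerm (s.1 : P × P)⁻¹) _ _ fun y => ?_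
      have hs : (s.1 : P × P) • x = x := s.2
      rw [MulAction.toPerm_apply, coeff_conjEl]
      congr 1
      · congr 1
        have hx' : (s.1 : P × P)⁻¹ • x = x := by rw [inv_smul_eq_iff, hs]
        conv_rhs => rw [← hx']
        rw [hsm, hsm]
        simp only [Prod.fst_inv, Prod.snd_inv, InvMemClass.coe_inv]
        group
      · rw [hwinv]
    obtain ⟨q, hq⟩ : ∃ q, q ∈ MulAction.fixedPoints S ((⊤ : Subgroup G) ⧸ D.subgroupOf ⊤) := by
      by_contra! h
      refine hx ?_
      rw [hsum, sum_eq_sum_fixed (p := p) (hH.to_subgroup S) f hfinv]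
      exact Finset.sum_eq_zero fun q _ => if_neg (h q)
    set t : G := ((q.out : (⊤ : Subgroup G)) : G)
    have hmem : ∀ s : S, t⁻¹ * (s.1.1 : G) * t ∈ D := by
      intro s
      have h1 : j s • q = q := hq s
      rw [coset_smul_eq] at h1
      conv_rhs at h1 => rw [← QuotientGroup.out_eq' q]
      have h2 : t⁻¹ * (s.1.1 : G)⁻¹ * t ∈ D := by
        have := Subgroup.mem_subgroupOf.1 (QuotientGroup.eq.1 h1)
        convert this using 1
        show _ = ((j s * q.out)⁻¹ * q.out : (⊤ : Subgroup G)).1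
        simp [j, t, mul_assoc]
      simpa [mul_assoc] using inv_mem h2
    refine Nat.card_le_card_of_injective (fun s => (⟨_, hmem s⟩ : D)) fun s s' hss => ?_
    have h1 : (s.1.1 : G) = s'.1.1 := by simpa using congrArg Subtype.val hss
    have hs : (s.1.1 : G) * x * (s.1.2 : G)⁻¹ = x := s.2
    have hs' : (s'.1.1 : G) * x * (s'.1.2 : G)⁻¹ = x := s'.2
    rw [h1] at hs
    have h2 : (s.1.2 : G)⁻¹ = (s'.1.2 : G)⁻¹ := mul_left_cancel (hs.trans hs'.symm)
    exact Subtype.ext (Prod.ext (Subtype.ext h1) (Subtype.ext (inv_inj.1 h2)))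
  -- the orbit
  obtain ⟨x, hwx, hne⟩ : ∃ x, w x ≠ 0 ∧
      (fun z => ∑ o : MulAction.orbit (P × P) x, e.coeff (z * (o : G)⁻¹)) ≠ 0 := by
    by_contra! h
    refine haw ?_
    funext z
    rw [← hEw z, ← Finset.sum_fiberwise Finset.univ
      (fun y => Quotient.mk (MulAction.orbitRel (P × P) G) y)]
    refine Finset.sum_eq_zero fun c _ => ?_
    induction c using Quotient.inductionOn with
    | h x =>
      have hmem : ∀ y, y ∈ Finset.univ.filter (fun y => Quotient.mk (MulAction.orbitRel (P × P) G) y =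
          Quotient.mk (MulAction.orbitRel (P × P) G) x) ↔ y ∈ MulAction.orbit (P × P) x := by
        intro y
        simp only [Finset.mem_filter, Finset.mem_univ, true_and, Quotient.eq]
        exact MulAction.orbitRel_apply
      rw [Finset.sum_congr rfl (g := fun y => e.coeff (z * y⁻¹) * w x) fun y hy => by
        obtain ⟨s, rfl⟩ := (hmem y).1 hy
        rw [hwinv], ← Finset.sum_mul]
      rcases eq_or_ne (w x) 0 with h0 | h0
      · rw [h0, mul_zero]
      · rw [Finset.sum_subtype _ hmem, congrFun (h x h0) z]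
        simp
  set O := MulAction.orbit (P × P) x
  set Φ : (O → k) →ₗ[k] (G → k) :=
    (Matrix.of fun (z : G) (o : O) => e.coeff (z * (o : G)⁻¹)).mulVecLin with hΦdef
  have hΦ : ∀ (b : O → k) (z : G), Φ b z = ∑ o : O, e.coeff (z * (o : G)⁻¹) * b o := fun b z => rfl
  have hequiv : ∀ (h : P × P) (b : O → k) (z : G),
      Φ ((transl h : Module.End k (O → k)) b) z = Φ b (h⁻¹ • z) := by
    intro h b z
    rw [hΦ, hΦ]
    refine Fintype.sum_equiv (MulAction.toPerm h⁻¹) _ _ fun o => ?_
    rw [transl_apply, MulAction.toPerm_apply, MulAction.orbit.coe_smul, hK]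
  have hinj : Function.Injective Φ := by
    rw [← LinearMap.ker_eq_bot, LinearMap.ker_eq_bot']
    intro b hb
    by_contra hb0
    obtain ⟨s, hs0, hsfix⟩ := exists_fixed_combination (k := k) hH (transl (X := O)) b hb0
    set b' := ∑ h, s h • (transl h : Module.End k (O → k)) b
    have hΦ0 : Φ b' = 0 := by
      funext z
      simp only [b', map_sum, map_smul, Finset.sum_apply, Pi.smul_apply, hequiv, hb, Pi.zero_apply,
        smul_zero, Finset.sum_const_zero]
    have hconst : ∀ o : O, b' o = b' ⟨x, MulAction.mem_orbit_self x⟩ := by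
      rintro ⟨o, h, rfl⟩
      conv_lhs => rw [← hsfix h]
      rw [transl_apply]
      exact congrArg b' (Subtype.ext (by rw [MulAction.orbit.coe_smul]; exact inv_smul_smul h x))
    have hc : b' ⟨x, MulAction.mem_orbit_self x⟩ ≠ 0 := fun h0 =>
      hs0 (funext fun o => (hconst o).trans h0)
    refine hne (funext fun z => ?_)
    have h1 := congrFun hΦ0 z
    rw [hΦ, Finset.sum_congr rfl fun o _ => by rw [hconst o], ← Finset.sum_mul] at h1
    exact (mul_eq_zero.1 h1).resolve_right hc
  have hle : LinearMap.range Φ ≤ LinearMap.range E.mulVecLin := by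
    rintro _ ⟨b, rfl⟩
    refine ⟨fun y => if hy : y ∈ O then b ⟨y, hy⟩ else 0, funext fun z => ?_⟩
    rw [hΦ]
    show ∑ y, e.coeff (z * y⁻¹) * (if hy : y ∈ O then b ⟨y, hy⟩ else 0) = _
    refine (Finset.sum_subset (s₁ := Finset.univ.filter (· ∈ O)) (Finset.subset_univ _)
      fun y _ hy => ?_).symm.trans ?_
    · rw [dif_neg (by simpa using hy), mul_zero]
    · rw [Finset.sum_subtype (p := (· ∈ O)) _ (fun y => by simp)]
      exact Finset.sum_congr rfl fun o _ => by rw [dif_pos o.2]
  have hOS := MulAction.card_orbit_mul_card_stabilizer_eq_card_group (P × P) x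
  rw [← Nat.card_eq_fintype_card, ← Nat.card_eq_fintype_card, ← Nat.card_eq_fintype_card,
    Nat.card_prod] at hOS
  haveI : Nonempty O := ⟨⟨x, MulAction.mem_orbit_self x⟩⟩
  have hOE : Nat.card O ≤ E.rank := by
    have h1 := Submodule.finrank_mono hle
    rwa [LinearMap.finrank_range_of_inj hinj, Module.finrank_fintype_fun_eq_card,
      ← Nat.card_eq_fintype_card] at h1
  have hSD := hsmall x hwx
  have hDpos : 0 < Nat.card D := Nat.card_pos
  have hEO : E.rank ≤ Nat.card O := Nat.le_of_mul_le_mul_right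
    (hrank.trans (hOS ▸ Nat.mul_le_mul_left _ hSD)) hDpos
  have hDS : Nat.card D ≤ Nat.card (MulAction.stabilizer (P × P) x) := by
    refine Nat.le_of_mul_le_mul_left ?_ (Nat.card_pos (α := O))
    rw [hOS]
    exact (Nat.mul_le_mul_right _ hOE).trans hrank
  have hrange : LinearMap.range Φ = LinearMap.range E.mulVecLin := by
    refine Submodule.eq_of_le_of_finrank_le hle ?_
    rw [LinearMap.finrank_range_of_inj hinj, Module.finrank_fintype_fun_eq_card,
      ← Nat.card_eq_fintype_card]
    exact hEO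
  -- twisted fixed points
  have key : ∀ (R : Subgroup G) (c : G) (hR : R ≤ P), br R e ≠ 0 → (∀ r ∈ R, c * r * c⁻¹ ∈ P) →
      ∃ o ∈ O, ∀ r ∈ R, c * r * c⁻¹ * o * r⁻¹ = o := by
    intro R c hR hRe hc
    let φ : R →* P × P :=
      { toFun := fun r => (⟨c * r * c⁻¹, hc r r.2⟩, ⟨r, hR r.2⟩)
        map_one' := Prod.ext (Subtype.ext (by simp)) (Subtype.ext (by simp))
        map_mul' := fun r s => Prod.ext (Subtype.ext (by simp [mul_assoc])) (Subtype.ext (by simp)) }
    have hφsm : ∀ (r : R) (z : G), φ r • z = c * r * c⁻¹ * z * (r : G)⁻¹ := fun r z => rfl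
    obtain ⟨b, hb⟩ : (fun z => e.coeff (z * c⁻¹)) ∈ LinearMap.range Φ := by
      rw [hrange]
      refine ⟨Pi.single c 1, funext fun z => ?_⟩
      show ∑ y, e.coeff (z * y⁻¹) * (Pi.single c 1 : G → k) y = _
      simp [Pi.single_apply, mul_ite, Finset.sum_ite_eq']
    have hbinv : ∀ r : R, (transl (φ r) : Module.End k (O → k)) b = b := by
      intro r
      refine hinj (funext fun z => ?_)
      rw [hequiv, hb]
      show e.coeff (((φ r)⁻¹ • z) * c⁻¹) = e.coeff (z * c⁻¹)
      have h1 := hK (φ r)⁻¹ z c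
      rwa [show (φ r)⁻¹ • c = c by rw [inv_smul_eq_iff, hφsm]; group] at h1
    obtain ⟨y₀, hy₀, hey₀⟩ : ∃ y, y ∈ Subgroup.centralizer (R : Set G) ∧ e.coeff y ≠ 0 := by
      by_contra! h
      refine hRe ?_
      ext z
      rw [coeff_br]
      split_ifs with hz
      · simpa using h z hz
      · simp
    letI : MulAction R O := MulAction.compHom _ φ
    have hzfix : ∀ r : R, φ r • (c * y₀) = c * y₀ := by
      intro r
      rw [hφsm]
      have := (Subgroup.mem_centralizer_iff.1 hy₀) r r.2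
      calc c * r * c⁻¹ * (c * y₀) * (r : G)⁻¹ = c * ((r : G) * y₀) * (r : G)⁻¹ := by group
        _ = c * (y₀ * r) * (r : G)⁻¹ := by rw [this]
        _ = c * y₀ := by group
    obtain ⟨o, ho⟩ : ∃ o, o ∈ MulAction.fixedPoints R O := by
      by_contra! h
      apply hey₀
      have h1 := congrFun hb (c * y₀)
      rw [hΦ, sum_eq_sum_fixed (p := p) (P := R) (hP.to_le hR), Finset.sum_eq_zero
        fun o _ => if_neg (h o)] at h1
      · rw [h1, he]
      · intro r o
        show e.coeff (c * y₀ * ((φ r • o : O) : G)⁻¹) * b (φ r • o) = _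
        rw [MulAction.orbit.coe_smul]
        congr 1
        · conv_lhs => rw [← hzfix r]
          exact hK _ _ _
        · conv_lhs => rw [← hbinv r]
          rw [transl_apply, inv_smul_smul]
    refine ⟨o, o.2, fun r hr => ?_⟩
    have h1 : φ ⟨r, hr⟩ • o = o := ho ⟨r, hr⟩
    have h2 := congrArg Subtype.val h1
    rwa [MulAction.orbit.coe_smul, hφsm] at h2
  obtain ⟨x', hx'O, hx'⟩ := key D 1 hDP hDe fun r hr => by simpa using hDP hr
  simp only [one_mul, inv_one, mul_one] at hx'
  let ψ : D → MulAction.stabilizer (P × P) x' := fun d =>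
    ⟨(⟨d, hDP d.2⟩, ⟨d, hDP d.2⟩), hx' d d.2⟩
  have hcard : Nat.card (MulAction.stabilizer (P × P) x') = Nat.card D := by
    have hO' : MulAction.orbit (P × P) x' = O := MulAction.orbit_eq_iff.2 hx'O
    have h := MulAction.card_orbit_mul_card_stabilizer_eq_card_group (P × P) x'
    rw [← Nat.card_eq_fintype_card, ← Nat.card_eq_fintype_card, ← Nat.card_eq_fintype_card,
      Nat.card_prod, hO', ← hOS] at h
    rw [Nat.eq_of_mul_eq_mul_left Nat.card_pos h]
    exact le_antisymm hSD hDS
  have hψinj : Function.Injective ψ := fun d d' h => by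
    have := congrArg (fun s : MulAction.stabilizer (P × P) x' => (s.1.1 : G)) h
    exact Subtype.ext this
  have hψ : Function.Surjective ψ :=
    (hψinj.bijective_of_nat_card_le hcard.le).2
  obtain ⟨o, hoO, ho⟩ := key Q g hQ hQe hg
  have hO'' : MulAction.orbit (P × P) x' = O := MulAction.orbit_eq_iff.2 hx'O
  rw [← hO''] at hoO
  obtain ⟨h, rfl⟩ := hoO
  refine ⟨(h.1 : G) * (h.2 : G)⁻¹, mul_mem h.1.2 (inv_mem h.2.2), fun q hq => ?_⟩
  have h1 := ho q hq
  simp only [hsm] at h1
  set q₁ : P := ⟨g * q * g⁻¹, hg q hq⟩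
  set q₂ : P := ⟨q, hQ hq⟩
  have hs : (h⁻¹ * (q₁, q₂) * h) • x' = x' := by
    rw [mul_smul, mul_smul, inv_smul_eq_iff]
    simp only [hsm]
    exact h1
  obtain ⟨d, hd⟩ := hψ ⟨_, hs⟩
  have hd' : ((⟨d, hDP d.2⟩, ⟨d, hDP d.2⟩) : P × P) = h⁻¹ * (q₁, q₂) * h := congrArg Subtype.val hd
  have e1 := congrArg (fun s : P × P => (s.1 : G)) hd'
  have e2 := congrArg (fun s : P × P => (s.2 : G)) hd'
  simp [q₁, q₂] at e1 e2
  have e3 := e1.symm.trans e2
  calc g * q * g⁻¹ = (h.1 : G) * ((h.1 : G)⁻¹ * (g * q * g⁻¹) * (h.1 : G)) * (h.1 : G)⁻¹ := by group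
    _ = (h.1 : G) * ((h.2 : G)⁻¹ * q * (h.2 : G)) * (h.1 : G)⁻¹ := by
      rw [show (h.1 : G)⁻¹ * (g * q * g⁻¹) * (h.1 : G) = (h.2 : G)⁻¹ * q * (h.2 : G) by
        simpa [mul_assoc] using e3]
    _ = _ := by group

section Prelude

variable {M : Ideal AlgInt} [M.IsMaximal]

theorem rank_blkG_eq {B : Set (IrrCharacter G)} (hB : IsPBlock M B) :
    (Matrix.of fun i j : G => (blkG M B).coeff (i * j⁻¹)).rank =
      ∑ᶠ χ ∈ B, Cfsg.charDegree (χ : G → ℂ) ^ 2 := by
  set N : Matrix G G (Blocks.localInt M) := Matrix.of fun i j : G =>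
    ⟨blockCoeff B (i * j⁻¹), memLocalRing_blockCoeff hB _⟩ with hN
  have hidC : IsIdempotentElem (N.map (Blocks.localInt M).subtype) := by
    ext i j
    rw [Matrix.mul_apply]
    show ∑ y, blockCoeff B (i * y⁻¹) * blockCoeff B (y * j⁻¹) = blockCoeff B (i * j⁻¹)
    have h := congrArg (fun z => z.coeff (i * j⁻¹)) (Blocks.blockIdem_mul_self B)
    simp only [Blocks.coeff_mul_eq_sum', Blocks.coeff_blockIdem] at h
    rw [← h]
    refine Fintype.sum_equiv (Equiv.mulRight j⁻¹) _ _ fun y => ?_
    simp [mul_assoc]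
  have hid : IsIdempotentElem N := by
    apply Matrix.map_injective (Subtype.val_injective (p := fun z => z ∈ Blocks.localInt M))
    exact (Matrix.map_mul (f := (Blocks.localInt M).subtype)).trans hidC
  have h1 : N.map (Blocks.redHom M) = Matrix.of fun i j : G => (blkG M B).coeff (i * j⁻¹) := by
    ext i j
    simp [N, coeff_blkG]
  rw [← h1, Blocks.rank_map_redHom_of_isIdempotentElem hid]
  have h2 := Blocks.rank_eq_trace hidC
  apply Nat.cast_injective (R := ℂ)
  rw [h2, Matrix.trace]
  show ∑ i : G, blockCoeff B (i * i⁻¹) = _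
  simp only [mul_inv_cancel]
  rw [Finset.sum_const, Finset.card_univ, nsmul_eq_mul, ← Nat.card_eq_fintype_card, blockCoeff,
    ← mul_assoc, mul_inv_cancel₀ Char.card_ne_zero, one_mul,
    finsum_mem_eq_toFinset_sum, finsum_mem_eq_toFinset_sum, Nat.cast_sum]
  refine Finset.sum_congr rfl fun χ _ => ?_
  rw [Nat.cast_pow, Char.charDegree_cast, Char.apply_one_eq_degree, Complex.conj_natCast, sq]

end Prelude

end Cfsg.Agent.BrauerPairs.MinimalRank
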