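import Mathlib.GroupTheory.PGroup
import Mathlib.Data.Complex.Basic
import Mathlib.Algebra.Group.Subgroup.Order
import Mathlib.GroupTheory.Nilpotent
import Mathlib.Algebra.BigOperators.Group.Finset.Basic

/-!
# The sign-reversing involution on normal chains of `p`-subgroups stabilised by a `p`-element
-/

set_option autoImplicit false

open scoped Classical

namespace Cfsg.Agent.NormalChains

universe u

variable {G : Type u} [Group G] {p : ℕ}

/-- A normal chain of nontrivial `p`-subgroups. -/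
def IsNChain (p : ℕ) (s : Finset (Subgroup G)) : Prop :=
  s.Nonempty ∧ (∀ Q ∈ s, ∀ R ∈ s, Q ≤ R ∨ R ≤ Q) ∧ (∀ Q ∈ s, Q ≠ ⊥ ∧ IsPGroup p Q) ∧
    ∃ T ∈ s, ∀ Q ∈ s, Q ≤ T ∧ T ≤ Subgroup.normalizer ((Q : Subgroup G) : Set G)

/-- The stabiliser of a chain. -/
def stab (s : Finset (Subgroup G)) : Subgroup G :=
  ⨅ Q ∈ s, Subgroup.normalizer ((Q : Subgroup G) : Set G)

theorem mem_stab {s : Finset (Subgroup G)} {g : G} :
    g ∈ stab s ↔ ∀ Q ∈ s, g ∈ Subgroup.normalizer ((Q : Subgroup G) : Set G) := by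
  simp [stab, Subgroup.mem_iInf]

theorem sup_eq_top {s : Finset (Subgroup G)} {T : Subgroup G} (hT : T ∈ s) (h : ∀ Q ∈ s, Q ≤ T) :
    s.sup id = T :=
  le_antisymm (Finset.sup_le h) (Finset.le_sup (f := id) hT)

/-- The group generated by the conjugates of `x` under `W`. -/
def genConj (W : Subgroup G) (x : G) : Subgroup G :=
  Subgroup.closure {u | ∃ w ∈ W, w * x * w⁻¹ = u}

theorem self_mem_genConj (W : Subgroup G) (x : G) : x ∈ genConj W x :=
  Subgroup.subset_closure ⟨1, W.one_mem, by simp⟩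

theorem genConj_le {W R : Subgroup G} {x : G} (hx : x ∈ R) (hW : W ≤ Subgroup.normalizer (R : Set G)) :
    genConj W x ≤ R :=
  (Subgroup.closure_le R).2 (by rintro _ ⟨w, hw, rfl⟩; exact ((Subgroup.mem_normalizer_iff.1 (hW hw)) x).1 hx)

theorem genConj_conj_mem {W : Subgroup G} {x g : G} (hW : g ∈ Subgroup.normalizer (W : Set G))
    (hx : g * x * g⁻¹ ∈ genConj W x) : ∀ u ∈ genConj W x, g * u * g⁻¹ ∈ genConj W x := by
  intro u hu
  refine Subgroup.closure_induction (p := fun u _ => g * u * g⁻¹ ∈ genConj W x) ?_ ?_ ?_ ?_ hu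
  · rintro _ ⟨w, hw, rfl⟩
    have h1 : g * w * g⁻¹ ∈ W := ((Subgroup.mem_normalizer_iff.1 hW) w).1 hw
    have h2 : ∀ v ∈ genConj W x, ∀ z ∈ W, z * v * z⁻¹ ∈ genConj W x := by
      intro v hv z hz
      refine Subgroup.closure_induction (p := fun v _ => z * v * z⁻¹ ∈ genConj W x) ?_ ?_ ?_ ?_ hv
      · rintro _ ⟨w', hw', rfl⟩
        exact Subgroup.subset_closure ⟨z * w', W.mul_mem hz hw', by group⟩
      · simp [Subgroup.one_mem]
      · intro a b _ _ ha hb
        simpa [mul_assoc] using Subgroup.mul_mem _ ha hb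
      · intro a _ ha
        simpa [mul_assoc] using Subgroup.inv_mem _ ha
    have h3 := h2 _ hx _ h1
    rwa [show g * w * g⁻¹ * (g * x * g⁻¹) * (g * w * g⁻¹)⁻¹ = g * (w * x * w⁻¹) * g⁻¹ by group] at h3
  · simp [Subgroup.one_mem]
  · intro a b _ _ ha hb
    simpa [mul_assoc] using Subgroup.mul_mem _ ha hb
  · intro a _ ha
    simpa [mul_assoc] using Subgroup.inv_mem _ ha

/-- The member to be toggled. -/
noncomputable def newMem (x : G) (s : Finset (Subgroup G)) : Subgroup G :=
  (s.filter (fun Q => x ∉ Q)).sup id ⊔ genConj (s.sup id ⊔ Subgroup.zpowers x) x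

/-- The involution. -/
noncomputable def toggle (x : G) (s : Finset (Subgroup G)) : Finset (Subgroup G) :=
  if newMem x s ∈ s then s.erase (newMem x s) else insert (newMem x s) s

variable [Finite G]

theorem mem_normalizer_of_le {R : Subgroup G} {g : G} (h : ∀ u ∈ R, g * u * g⁻¹ ∈ R) :
    g ∈ Subgroup.normalizer (R : Set G) := by
  rw [Subgroup.mem_normalizer_iff_map_conj_eq]
  refine Subgroup.eq_of_le_of_card_ge ?_ ?_
  · rintro _ ⟨u, hu, rfl⟩
    exact h u hu
  · rw [Subgroup.card_map_of_injective (MulAut.conj g).injective]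

theorem le_normalizer_genConj (W : Subgroup G) (x : G) (hxW : x ∈ W) :
    W ≤ Subgroup.normalizer (genConj W x : Set G) := fun w hw =>
  mem_normalizer_of_le (genConj_conj_mem (Subgroup.le_normalizer hw) (Subgroup.subset_closure ⟨w, hw, rfl⟩))

theorem mem_normalizer_sup {A B : Subgroup G} {g : G} (hA : g ∈ Subgroup.normalizer (A : Set G))
    (hB : g ∈ Subgroup.normalizer (B : Set G)) :
    g ∈ Subgroup.normalizer ((A ⊔ B : Subgroup G) : Set G) := by
  rw [Subgroup.mem_normalizer_iff_map_conj_eq] at *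
  rw [Subgroup.map_sup, hA, hB]

/-- In a finite `p`-group, `A ⟨x^W⟩ = W` forces `A ⟨x⟩ = W`. -/
theorem sup_zpowers_eq [Fact p.Prime] {W A : Subgroup G} (hW : IsPGroup p W) {x : G} (hxW : x ∈ W) (hAW : A ≤ W)
    (h : A ⊔ genConj W x = W) : A ⊔ Subgroup.zpowers x = W := by
  by_contra hne
  have hle : A ⊔ Subgroup.zpowers x ≤ W := sup_le hAW (by rwa [Subgroup.zpowers_le])
  have hlt : (A ⊔ Subgroup.zpowers x).subgroupOf W ≠ ⊤ := fun ht =>
    hne (le_antisymm hle (Subgroup.subgroupOf_eq_top.1 ht))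
  obtain ⟨K, hK, hKle⟩ := (eq_top_or_exists_le_coatom ((A ⊔ Subgroup.zpowers x).subgroupOf W)).resolve_left hlt
  haveI := hW.isNilpotent
  haveI : K.Normal := Subgroup.NormalizerCondition.normal_of_coatom K Group.normalizerCondition_of_isNilpotent hK
  have hxK : (⟨x, hxW⟩ : W) ∈ K := hKle (show x ∈ A ⊔ Subgroup.zpowers x from
    Subgroup.mem_sup_right (Subgroup.mem_zpowers x))
  refine hK.1 (top_unique fun w _ => ?_)
  have hw : (w : G) ∈ A ⊔ genConj W x := h.symm ▸ w.2
  have : A ⊔ genConj W x ≤ K.map W.subtype := by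
    refine sup_le (fun a ha => ⟨⟨a, hAW ha⟩, hKle (Subgroup.mem_sup_left ha), rfl⟩) ?_
    refine (Subgroup.closure_le _).2 ?_
    rintro _ ⟨v, hv, rfl⟩
    exact ⟨⟨v, hv⟩ * ⟨x, hxW⟩ * ⟨v, hv⟩⁻¹, ‹K.Normal›.conj_mem _ hxK _, rfl⟩
  exact (Subgroup.mem_map_iff_mem W.subtype_injective).1 (this hw)

variable [Fact p.Prime] {x : G} {s : Finset (Subgroup G)}

/-- The facts on `newMem`. -/
theorem newMem_facts (hxp : IsPGroup p (Subgroup.zpowers x)) (hs : IsNChain p s) (hxs : x ∈ stab s) :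
    let A := (s.filter (fun Q => x ∉ Q)).sup id
    let W := s.sup id ⊔ Subgroup.zpowers x
    IsPGroup p W ∧ x ∈ newMem x s ∧ newMem x s ≤ W ∧
    (∀ Q ∈ s, x ∈ Q → newMem x s ≤ Q) ∧ (∀ Q ∈ s, x ∉ Q → Q ≤ A) ∧ A ≤ newMem x s ∧
    (∀ Q ∈ s, W ≤ Subgroup.normalizer (Q : Set G)) ∧
    (∀ g ∈ stab s, Commute g x → g ∈ Subgroup.normalizer (newMem x s : Set G)) ∧
    W ≤ Subgroup.normalizer (newMem x s : Set G) := by
  intro A W
  obtain ⟨hne, hch, hp', T, hT, hTn⟩ := hs
  have hsup : s.sup id = T := sup_eq_top hT fun Q hQ => (hTn Q hQ).1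
  have hW : W = T ⊔ Subgroup.zpowers x := by show s.sup id ⊔ _ = _; rw [hsup]
  have hxT : Subgroup.zpowers x ≤ Subgroup.normalizer (T : Set G) := by
    rw [Subgroup.zpowers_le]; exact mem_stab.1 hxs T hT
  have hWp : IsPGroup p W := by
    rw [hW, sup_comm]
    exact hxp.to_sup_of_normal_right' (hp' T hT).2 hxT
  have hxW : x ∈ W := Subgroup.mem_sup_right (Subgroup.mem_zpowers x)
  have hWQ : ∀ Q ∈ s, W ≤ Subgroup.normalizer (Q : Set G) := fun Q hQ => by
    rw [hW]
    exact sup_le (hTn Q hQ).2 (by rw [Subgroup.zpowers_le]; exact mem_stab.1 hxs Q hQ)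
  have hA : A = ⊥ ∨ A ∈ s.filter (fun Q => x ∉ Q) := by
    rcases (s.filter (fun Q => x ∉ Q)).eq_empty_or_nonempty with h0 | h0
    · exact Or.inl (by show (s.filter _).sup id = ⊥; rw [h0, Finset.sup_empty])
    · refine Or.inr ?_
      obtain ⟨Q, hQ, hQmax⟩ := Finset.exists_maximal (s := s.filter (fun Q => x ∉ Q)) h0
      have : A = Q := by
        refine sup_eq_top hQ fun R hR => ?_
        rcases hch R (Finset.mem_filter.1 hR).1 Q (Finset.mem_filter.1 hQ).1 with h | h
        · exact h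
        · exact hQmax hR h
      rw [this]; exact hQ
  have hWA : ∀ g ∈ stab s, g ∈ Subgroup.normalizer (A : Set G) := fun g hg => by
    rcases hA with h | h
    · rw [h, Subgroup.normalizer_eq_top]; exact Subgroup.mem_top g
    · exact mem_stab.1 hg A (Finset.mem_filter.1 h).1
  have hxmem : x ∈ newMem x s := Subgroup.mem_sup_right (self_mem_genConj W x)
  have hA_le : ∀ Q ∈ s, x ∈ Q → A ≤ Q := fun Q hQ hxQ => Finset.sup_le fun R hR => by
    rcases hch R (Finset.mem_filter.1 hR).1 Q hQ with h | h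
    · exact h
    · exact absurd (h hxQ) (Finset.mem_filter.1 hR).2
  refine ⟨hWp, hxmem, sup_le ?_ (genConj_le hxW Subgroup.le_normalizer), fun Q hQ hxQ =>
    sup_le (hA_le Q hQ hxQ) (genConj_le hxQ (hWQ Q hQ)),
    fun Q hQ hxQ => Finset.le_sup (f := id) (Finset.mem_filter.2 ⟨hQ, hxQ⟩), le_sup_left, hWQ, ?_, ?_⟩
  · exact le_trans (Finset.sup_mono (Finset.filter_subset _ _)) le_sup_left
  · intro g hg hgx
    refine mem_normalizer_sup (hWA g hg) (mem_normalizer_of_le (genConj_conj_mem ?_ ?_))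
    · rw [hsup]
      refine mem_normalizer_sup (mem_stab.1 hg T hT) (mem_normalizer_of_le ?_)
      rintro _ ⟨n, rfl⟩
      refine ⟨n, ?_⟩
      show x ^ n = g * x ^ n * g⁻¹
      rw [(hgx.zpow_right n).eq, mul_inv_cancel_right]
    · rw [hgx.eq, mul_inv_cancel_right]
      exact self_mem_genConj _ x
  · intro w hw
    refine mem_normalizer_sup (hWA w ?_) (le_normalizer_genConj W x hxW hw)
    exact mem_stab.2 fun Q hQ => hWQ Q hQ hw

theorem filter_toggle (hx : x ∈ newMem x s) :
    (toggle x s).filter (fun Q => x ∉ Q) = s.filter (fun Q => x ∉ Q) := by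
  unfold toggle
  split_ifs with h
  · ext Q
    simp only [Finset.mem_filter, Finset.mem_erase]
    exact ⟨fun h' => ⟨h'.1.2, h'.2⟩, fun h' => ⟨⟨fun e => h'.2 (e ▸ hx), h'.1⟩, h'.2⟩⟩
  · ext Q
    simp only [Finset.mem_filter, Finset.mem_insert]
    exact ⟨fun h' => ⟨h'.1.resolve_left fun e => h'.2 (e ▸ hx), h'.2⟩, fun h' => ⟨Or.inr h'.1, h'.2⟩⟩

/-- The properties of the involution. -/
theorem toggle_spec (hx1 : x ≠ 1) (hxp : IsPGroup p (Subgroup.zpowers x)) (hs : IsNChain p s)
    (hxs : x ∈ stab s) (hne : s ≠ {Subgroup.zpowers x}) :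
    IsNChain p (toggle x s) ∧ toggle x (toggle x s) = s ∧
    (∀ g ∈ stab s, Commute g x → g ∈ stab (toggle x s)) ∧
    ((-1 : ℤ) ^ ((toggle x s).card - 1) = -((-1 : ℤ) ^ (s.card - 1))) := by
  obtain ⟨hWp, hxm, hmW, hup, hdown, hAm, hWQ, hgm, hWm⟩ := newMem_facts hxp hs hxs
  have hfilt := filter_toggle (s := s) hxm
  obtain ⟨hne0, hch, hp', T, hT, hTn⟩ := hs
  have hsup : s.sup id = T := sup_eq_top hT fun Q hQ => (hTn Q hQ).1
  set A := (s.filter (fun Q => x ∉ Q)).sup id with hA
  set W := s.sup id ⊔ Subgroup.zpowers x with hW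
  set R := newMem x s with hR
  have hTW : T ≤ W := hsup ▸ le_sup_left
  have hstab : ∀ g ∈ stab s, Commute g x → g ∈ stab (toggle x s) := fun g hg hgx => by
    refine mem_stab.2 fun Q hQ => ?_
    unfold toggle at hQ
    rw [← hR] at hQ
    split_ifs at hQ with h
    · exact mem_stab.1 hg Q (Finset.mem_of_mem_erase hQ)
    · rcases Finset.mem_insert.1 hQ with rfl | hQ
      · exact hgm g hg hgx
      · exact mem_stab.1 hg Q hQ
  have hcomp : ∀ Q ∈ s, Q ≤ R ∨ R ≤ Q := fun Q hQ => by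
    by_cases hxQ : x ∈ Q
    · exact Or.inr (hup Q hQ hxQ)
    · exact Or.inl ((hdown Q hQ hxQ).trans hAm)
  have hR0 : R ≠ ⊥ := fun h => hx1 (Subgroup.mem_bot.1 (h ▸ hxm))
  have key : IsNChain p (toggle x s) ∧ newMem x (toggle x s) = R := by
    by_cases hRs : R ∈ s
    · have ht : toggle x s = s.erase R := by unfold toggle; rw [← hR, if_pos hRs]
      have hne' : (s.erase R).Nonempty := by
        rw [Finset.nonempty_iff_ne_empty, ne_eq, Finset.erase_eq_empty_iff]
        rintro (h | h)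
        · exact hne0.ne_empty h
        · apply hne
          have hTR : T = R := Finset.mem_singleton.1 (h ▸ hT)
          have hA0 : A = ⊥ := by
            rw [hA, h, Finset.filter_singleton, if_neg (not_not.2 hxm), Finset.sup_empty]
          have hxT : Subgroup.zpowers x ≤ T := by rw [hTR, Subgroup.zpowers_le]; exact hxm
          have hWT : W = T := by rw [hW, hsup]; exact sup_eq_left.2 hxT
          have h1 : A ⊔ genConj W x = W := by
            rw [hWT]
            nth_rw 2 [hTR]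
            rw [hR, newMem, ← hW, ← hA, hWT]
          have h2 := sup_zpowers_eq hWp (Subgroup.mem_sup_right (Subgroup.mem_zpowers x))
            (hA0 ▸ bot_le) h1
          rw [hA0, bot_sup_eq, hWT, hTR] at h2
          rw [h, h2]
      rw [ht] at hfilt ⊢
      have hsub := Finset.erase_subset R s
      by_cases hRT : R = T
      · have hall : ∀ Q ∈ s.erase R, x ∉ Q := fun Q hQ hxQ => by
          obtain ⟨h1, h2⟩ := Finset.mem_erase.1 hQ
          exact h1 (le_antisymm ((hTn Q h2).1.trans hRT.ge) (hup Q h2 hxQ))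
        have hfe : (s.erase R).filter (fun Q => x ∉ Q) = s.erase R := Finset.filter_true_of_mem hall
        obtain ⟨T', hT', hT'max⟩ := Finset.exists_maximal (s := s.erase R) hne'
        have htop : ∀ Q ∈ s.erase R, Q ≤ T' := fun Q hQ => by
          rcases hch Q (hsub hQ) T' (hsub hT') with h | h
          · exact h
          · exact hT'max hQ h
        refine ⟨⟨hne', fun Q hQ Q' hQ' => hch Q (hsub hQ) Q' (hsub hQ'), fun Q hQ => hp' Q (hsub hQ),
          T', hT', fun Q hQ => ⟨htop Q hQ, ((hTn T' (hsub hT')).1).trans (hTn Q (hsub hQ)).2⟩⟩, ?_⟩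
        have hsA : (s.erase R).sup id = A := by rw [← hfe, hfilt]
        have hxT : x ∈ T := hRT ▸ hxm
        have hWT : W = T := by rw [hW, hsup]; exact sup_eq_left.2 (by rw [Subgroup.zpowers_le]; exact hxT)
        have h1 : A ⊔ genConj W x = W := by
          rw [hWT]
          nth_rw 2 [← hRT]
          rw [hR, newMem, ← hW, ← hA, hWT]
        have hW' : A ⊔ Subgroup.zpowers x = W := sup_zpowers_eq hWp
          (Subgroup.mem_sup_right (Subgroup.mem_zpowers x))
          (le_trans (Finset.sup_mono (Finset.filter_subset _ _)) le_sup_left) h1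
        rw [newMem, hfilt, hsA, ← hA, hW']
        rfl
      · have hT' : T ∈ s.erase R := Finset.mem_erase.2 ⟨fun e => hRT e.symm, hT⟩
        refine ⟨⟨⟨T, hT'⟩, fun Q hQ Q' hQ' => hch Q (hsub hQ) Q' (hsub hQ'), fun Q hQ => hp' Q (hsub hQ),
          T, hT', fun Q hQ => hTn Q (hsub hQ)⟩, ?_⟩
        rw [newMem, hfilt, sup_eq_top hT' fun Q hQ => (hTn Q (hsub hQ)).1, ← hsup]
        rfl
    · have ht : toggle x s = insert R s := by unfold toggle; rw [← hR, if_neg hRs]
      rw [ht] at hfilt ⊢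
      have hRp : IsPGroup p R := hWp.to_le hmW
      refine ⟨⟨Finset.insert_nonempty _ _, fun Q hQ Q' hQ' => ?_, fun Q hQ => ?_, ?_⟩, ?_⟩
      · rcases Finset.mem_insert.1 hQ with rfl | hQ <;> rcases Finset.mem_insert.1 hQ' with rfl | hQ'
        · exact Or.inl le_rfl
        · exact (hcomp Q' hQ').symm
        · exact hcomp Q hQ
        · exact hch Q hQ Q' hQ'
      · rcases Finset.mem_insert.1 hQ with rfl | hQ
        · exact ⟨hR0, hRp⟩
        · exact hp' Q hQ
      · obtain ⟨T', hT', htop, hT'W⟩ : ∃ T' ∈ insert R s, (∀ Q ∈ insert R s, Q ≤ T') ∧ T' ≤ W := by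
          rcases hcomp T hT with h | h
          · refine ⟨R, Finset.mem_insert_self _ _, fun Q hQ => ?_, hmW⟩
            rcases Finset.mem_insert.1 hQ with rfl | hQ
            · exact le_rfl
            · exact (hTn Q hQ).1.trans h
          · refine ⟨T, Finset.mem_insert_of_mem hT, fun Q hQ => ?_, hTW⟩
            rcases Finset.mem_insert.1 hQ with rfl | hQ
            · exact h
            · exact (hTn Q hQ).1
        refine ⟨T', hT', fun Q hQ => ⟨htop Q hQ, hT'W.trans ?_⟩⟩
        rcases Finset.mem_insert.1 hQ with rfl | hQ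
        · exact hWm
        · exact hWQ Q hQ
      · rw [newMem, hfilt, Finset.sup_insert, id_eq]
        have e : R ⊔ s.sup id ⊔ Subgroup.zpowers x = W := by
          rw [sup_assoc, ← hW]
          exact sup_eq_right.2 hmW
        rw [e]
        rfl
  obtain ⟨hchain, hmem⟩ := key
  refine ⟨hchain, ?_, hstab, ?_⟩
  · conv_lhs => unfold toggle
    rw [show newMem x (if newMem x s ∈ s then s.erase (newMem x s) else insert (newMem x s) s) = R from hmem]
    rw [← hR]
    by_cases hRs : R ∈ s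
    · rw [if_pos hRs, if_neg (Finset.notMem_erase R s), Finset.insert_erase hRs]
    · rw [if_neg hRs, if_pos (Finset.mem_insert_self R s), Finset.erase_insert hRs]
  · have h1 := hne0.card_pos
    have h2 := hchain.1.card_pos
    unfold toggle at h2 ⊢
    rw [← hR] at h2 ⊢
    by_cases hRs : R ∈ s
    · rw [if_pos hRs, Finset.card_erase_of_mem hRs] at h2 ⊢
      obtain ⟨n, hn⟩ : ∃ n, s.card = n + 2 := ⟨s.card - 2, by omega⟩
      rw [hn, show n + 2 - 1 - 1 = n by omega, show n + 2 - 1 = n + 1 by omega, pow_succ]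
      ring
    · rw [if_neg hRs, Finset.card_insert_of_notMem hRs]
      obtain ⟨n, hn⟩ : ∃ n, s.card = n + 1 := ⟨s.card - 1, by omega⟩
      rw [hn, show n + 1 + 1 - 1 = n + 1 by omega, show n + 1 - 1 = n by omega, pow_succ]
      ring

theorem stab_toggle_inf (hx1 : x ≠ 1) (hxp : IsPGroup p (Subgroup.zpowers x)) (hs : IsNChain p s)
    (hxs : x ∈ stab s) (hne : s ≠ {Subgroup.zpowers x}) :
    toggle x s ≠ {Subgroup.zpowers x} ∧
    stab (toggle x s) ⊓ Subgroup.centralizer ({x} : Set G) = stab s ⊓ Subgroup.centralizer ({x} : Set G) := by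
  obtain ⟨hch, hinv, hle, -⟩ := toggle_spec hx1 hxp hs hxs hne
  have hxs' : x ∈ stab (toggle x s) := hle x hxs (Commute.refl x)
  have hne' : toggle x s ≠ {Subgroup.zpowers x} := by
    intro e
    rw [e] at hinv
    obtain ⟨-, hxm, hmW, hup, -, -, -, -, -⟩ :=
      newMem_facts hxp (s := {Subgroup.zpowers x}) (e ▸ hch) (e ▸ hxs')
    have hm : newMem x ({Subgroup.zpowers x} : Finset (Subgroup G)) = Subgroup.zpowers x := by
      refine le_antisymm (hup _ (Finset.mem_singleton_self _) (Subgroup.mem_zpowers x)) ?_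
      rw [Subgroup.zpowers_le]; exact hxm
    unfold toggle at hinv
    rw [hm, if_pos (Finset.mem_singleton_self _), Finset.erase_singleton] at hinv
    exact hs.1.ne_empty hinv.symm
  refine ⟨hne', le_antisymm (fun g hg => ⟨?_, hg.2⟩) fun g hg => ⟨?_, hg.2⟩⟩
  · exact hle g (Subgroup.mem_inf.1 hg).1 (Subgroup.mem_centralizer_singleton_iff.1 (Subgroup.mem_inf.1 hg).2)
  · have := (toggle_spec hx1 hxp hch hxs' hne').2.2.1 g (Subgroup.mem_inf.1 hg).1
      (Subgroup.mem_centralizer_singleton_iff.1 (Subgroup.mem_inf.1 hg).2)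
    rwa [hinv] at this

/-- The alternating sum over the chains stabilised by an element with `p`-part `x`. -/
theorem sum_chains [Fintype (Subgroup G)] (hx1 : x ≠ 1) (hxp : IsPGroup p (Subgroup.zpowers x)) {g : G}
    (hgx : Commute g x) (hxg : x ∈ Subgroup.zpowers g) (F : Subgroup G → ℂ) :
    ∑ s ∈ (Finset.univ : Finset (Finset (Subgroup G))).filter (fun s => IsNChain p s ∧ g ∈ stab s),
      ((-1 : ℤ) ^ (s.card - 1) : ℂ) * F (stab s ⊓ Subgroup.centralizer ({x} : Set G)) =
      F (Subgroup.centralizer ({x} : Set G)) := by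
  set S := (Finset.univ : Finset (Finset (Subgroup G))).filter (fun s => IsNChain p s ∧ g ∈ stab s)
  set s₀ : Finset (Subgroup G) := {Subgroup.zpowers x} with hs₀
  have hC : Subgroup.centralizer ({x} : Set G) ≤ Subgroup.normalizer (Subgroup.zpowers x : Set G) := fun c hc =>
    mem_normalizer_of_le fun u ⟨n, hn⟩ => ⟨n, by
      subst hn
      show x ^ n = c * x ^ n * c⁻¹
      rw [((show Commute c x from Subgroup.mem_centralizer_singleton_iff.1 hc).zpow_right n).eq,
        mul_inv_cancel_right]⟩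
  have hch0 : IsNChain p s₀ := ⟨Finset.singleton_nonempty _,
    fun Q hQ R hR => Or.inl (by rw [Finset.mem_singleton.1 hQ, Finset.mem_singleton.1 hR]),
    fun Q hQ => by rw [Finset.mem_singleton.1 hQ]; exact ⟨by simpa [Subgroup.zpowers_eq_bot] using hx1, hxp⟩,
    _, Finset.mem_singleton_self _, fun Q hQ => by
      rw [Finset.mem_singleton.1 hQ]; exact ⟨le_rfl, Subgroup.le_normalizer⟩⟩
  have hstab0 : Subgroup.centralizer ({x} : Set G) ≤ stab s₀ := fun c hc =>
    mem_stab.2 fun Q hQ => by rw [Finset.mem_singleton.1 hQ]; exact hC hc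
  have hs0 : s₀ ∈ S := Finset.mem_filter.2
    ⟨Finset.mem_univ _, hch0, hstab0 (Subgroup.mem_centralizer_singleton_iff.2 hgx.eq)⟩
  have hxs : ∀ s ∈ S, x ∈ stab s := fun s hs => by
    have := (Finset.mem_filter.1 hs).2.2
    rw [← Subgroup.zpowers_le] at this
    exact this hxg
  rw [← Finset.add_sum_erase S _ hs0, show (∑ s ∈ S.erase s₀,
      ((-1 : ℤ) ^ (s.card - 1) : ℂ) * F (stab s ⊓ Subgroup.centralizer ({x} : Set G))) = 0 from ?_,
    add_zero, inf_eq_right.2 hstab0]
  · simp [hs₀]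
  refine Finset.sum_involution (fun s _ => toggle x s) (fun s hs => ?_) (fun s hs _ h => ?_)
    (fun s hs => ?_) (fun s hs => ?_)
  all_goals
    obtain ⟨hne, hsS⟩ := Finset.mem_erase.1 hs
    obtain ⟨-, hch, hg⟩ := Finset.mem_filter.1 hsS
    obtain ⟨hch', hinv, hle, hsign⟩ := toggle_spec hx1 hxp hch (hxs s hsS) hne
    obtain ⟨hne', hinf⟩ := stab_toggle_inf hx1 hxp hch (hxs s hsS) hne
  · have e : ((-1 : ℤ) ^ ((toggle x s).card - 1) : ℂ) = -((-1 : ℤ) ^ (s.card - 1) : ℂ) := by
      exact_mod_cast hsign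
    rw [hinf, e]
    ring
  · have h1 := hsign
    rw [h] at h1
    rcases neg_one_pow_eq_or ℤ (s.card - 1) with h2 | h2 <;> rw [h2] at h1 <;> norm_num at h1
  · exact Finset.mem_erase.2 ⟨hne', Finset.mem_filter.2 ⟨Finset.mem_univ _, hch', hle g hg hgx⟩⟩
  · exact hinv

end Cfsg.Agent.NormalChains
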