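import Cfsg.Agent.Lib.BrauerPairs.CorrespondenceNormal
import Cfsg.Agent.Lib.BrauerPairs.LocalBridge

/-!
# A stable block of a normal subgroup of `p`-power index
-/

set_option autoImplicit false
set_option linter.unusedSectionVars false

open scoped Classical Cfsg.Agent.Blocks

namespace Cfsg.Agent.BrauerPairs

universe u

variable {G : Type u} [Group G] [Finite G] {p : ℕ} [hp : Fact p.Prime] {M : Ideal AlgInt} [M.IsMaximal]
  [CharP (AlgInt ⧸ M) p] {N : Subgroup G} [N.Normal]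

/-- Regular elements lie in a normal subgroup of `p`-power index. -/
theorem mem_of_regular {k : ℕ} (hidx : N.index = p ^ k) {g : G} (hg : IsPRegular p g) : g ∈ N := by
  refine (QuotientGroup.eq_one_iff g).1 (orderOf_eq_one_iff.1 ?_)
  have h1 : orderOf (g : G ⧸ N) ∣ orderOf g := orderOf_map_dvd (QuotientGroup.mk' N) g
  have h2 : orderOf (g : G ⧸ N) ∣ p ^ k := hidx ▸ (Subgroup.index_eq_card N ▸ orderOf_dvd_natCard _)
  exact Nat.eq_one_of_dvd_coprimes
    (((hp.out.coprime_iff_not_dvd.2 hg).symm).pow_right k) h1 h2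

/-- A block idempotent above `N` lives on `N`. -/
theorem supp_of_isBlockIdem_over {k : ℕ} (hidx : N.index = p ^ k) (hpM : (p : AlgInt) ∈ M) {L : Subgroup G}
    {e : MonoidAlgebra (AlgInt ⧸ M) G} (he : IsBlockIdem L e) : e ∈ suppIn (AlgInt ⧸ M) N := by
  obtain ⟨E, hE, rfl⟩ := exists_eq_blk L he
  intro x hx
  rw [coeff_blk]
  unfold subgroupBlockCoeff
  by_cases hxL : x ∈ L
  · rw [dif_pos hxL, Blocks.blockCoeff_eq_zero hpM hE (fun h => hx (mem_of_regular hidx (by
      rwa [IsPRegular, ← Subgroup.orderOf_coe] at h))), Blocks.red_zero]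
  · rw [dif_neg hxL, Blocks.red_zero]

/-- The block idempotent of an intermediate group over a stable block is that of the block. -/
theorem eq_of_over {k : ℕ} (hidx : N.index = p ^ k) (hpM : (p : AlgInt) ∈ M) {L : Subgroup G}
    (hNL : N ≤ L) {c e : MonoidAlgebra (AlgInt ⧸ M) G} (hc : IsBlockIdem N c)
    (hfix : ∀ g : G, conjEl g c = c) (he : IsBlockIdem L e) (hne : e * c ≠ 0) : e = c := by
  have he' : e ∈ centerIn (AlgInt ⧸ M) N :=
    ⟨supp_of_isBlockIdem_over hidx hpM he, fixedBy_anti hNL he.mem.2⟩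
  have hc' : c ∈ centerIn (AlgInt ⧸ M) L := ⟨suppIn_mono hNL hc.mem.1, fun g _ => hfix g⟩
  have h1 : e * c = c := hc.mul_eq_self_of_ne he' he.idem hne
  have hcomm : c * e = e * c := centerIn_commute hc'.1 he.mem.2
  have h2 : c * e = e := he.mul_eq_self_of_ne hc' hc.idem (hcomm ▸ hne)
  rw [← h2, hcomm, h1]

theorem isBlockIdem_over {k : ℕ} (hidx : N.index = p ^ k) (hpM : (p : AlgInt) ∈ M) {L : Subgroup G}
    (hNL : N ≤ L) {c : MonoidAlgebra (AlgInt ⧸ M) G} (hc : IsBlockIdem N c)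
    (hfix : ∀ g : G, conjEl g c = c) : IsBlockIdem L c := by
  obtain ⟨e, he, hne⟩ := exists_blockIdem_mul_ne_zero (fun K => hasBlocks M K) L hc.ne_zero
  have hcomm : c * e = e * c := centerIn_commute (suppIn_mono hNL hc.mem.1) he.mem.2
  rwa [eq_of_over hidx hpM hNL hc hfix he (hcomm ▸ hne)] at he

/-- A defect group of the block above supplements `N`, and cuts `N` in a defect group of the block below. -/
theorem sup_eq_top_and_defectIn {k : ℕ} (hidx : N.index = p ^ k) (hpM : (p : AlgInt) ∈ M)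
    {c : MonoidAlgebra (AlgInt ⧸ M) G} (hc : IsBlockIdem N c) (hfix : ∀ g : G, conjEl g c = c)
    {P : Subgroup G} (hP : DefectIn p ⊤ c P) : N ⊔ P = ⊤ ∧ DefectIn p N c (P ⊓ N) := by
  have hsup : N ⊔ P = ⊤ := by
    by_contra hne
    haveI : IsCoatomic (Subgroup (G ⧸ N)) := Finite.to_isCoatomic
    have hq : IsPGroup p (G ⧸ N) := IsPGroup.of_card (n := k) (by rw [← Subgroup.index_eq_card, hidx])
    have hmap : P.map (QuotientGroup.mk' N) ≠ ⊤ := fun h => hne (by
      rw [eq_top_iff]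
      intro g _
      obtain ⟨u, hu, hug⟩ := h.ge (Subgroup.mem_top (QuotientGroup.mk' N g))
      have : g * u⁻¹ ∈ N := (QuotientGroup.eq_one_iff _).1 (by
        rw [QuotientGroup.mk_mul, QuotientGroup.mk_inv]
        exact mul_inv_eq_one.2 hug.symm)
      have h2 := mul_mem (Subgroup.mem_sup_left (T := P) this) (Subgroup.mem_sup_right hu)
      rwa [inv_mul_cancel_right] at h2)
    obtain h | ⟨Q, hQ, hPQ⟩ := eq_top_or_exists_le_coatom (P.map (QuotientGroup.mk' N))
    · exact hmap h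
    haveI : Group.IsNilpotent (G ⧸ N) := hq.isNilpotent
    haveI : Q.Normal := Subgroup.NormalizerCondition.normal_of_coatom Q Group.normalizerCondition_of_isNilpotent hQ
    set K := Q.comap (QuotientGroup.mk' N) with hK
    have hNK : N ≤ K := fun n hn => by
      show QuotientGroup.mk' N n ∈ Q
      rw [(QuotientGroup.eq_one_iff n).2 hn |> fun h => (h : QuotientGroup.mk' N n = 1)]
      exact one_mem Q
    have hPK : P ≤ K := fun u hu => hPQ ⟨u, hu, rfl⟩
    have hKi : p ∣ K.relIndex ⊤ := by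
      rw [Subgroup.relIndex_top_right, hK, Subgroup.index_comap_of_surjective _ (QuotientGroup.mk'_surjective N)]
      have hd : Q.index ∣ p ^ k := hidx ▸ (Subgroup.index_eq_card N ▸ Q.index_dvd_card)
      obtain ⟨j, -, hj⟩ := (Nat.dvd_prime_pow hp.out).1 hd
      rcases j with _ | j
      · exact absurd (Subgroup.index_eq_one.1 (by simpa using hj)) hQ.1
      · rw [hj]; exact dvd_pow_self p j.succ_ne_zero
    obtain ⟨R, hR, -, hRK, hRne⟩ := exists_pGroup_not_le (p := p) (fun L => hasBlocks M L)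
      (le_top : K ≤ ⊤) (by rw [Subgroup.normalizer_eq_top]) hKi
      (isBlockIdem_over hidx hpM hNK hc hfix) (isBlockIdem_over hidx hpM le_top hc hfix)
    obtain ⟨g, -, hg⟩ := hP.2.2.2 R hR le_top hRne
    refine hRK fun r hr => ?_
    have h1 : g * r * g⁻¹ ∈ K := hPK (hg ⟨r, hr, rfl⟩)
    have h2 := Subgroup.Normal.conj_mem (inferInstance : K.Normal) _ h1 g⁻¹
    simpa [mul_assoc] using h2
  refine ⟨hsup, hP.1.to_le inf_le_left, inf_le_right,
    br_ne_zero_mono inf_le_left hP.2.2.1, fun R hR hRN hne => ?_⟩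
  obtain ⟨g, -, hg⟩ := hP.2.2.2 R hR le_top hne
  obtain ⟨u, hu, n, hn, rfl⟩ := Subgroup.mem_sup_of_normal_right.1
    ((sup_comm N P ▸ hsup).ge (Subgroup.mem_top g))
  refine ⟨n, hn, ?_⟩
  rintro _ ⟨r, hr, rfl⟩
  have h1 : u * n * r * (u * n)⁻¹ ∈ P := hg ⟨r, hr, rfl⟩
  refine Subgroup.mem_inf.2 ⟨?_, N.mul_mem (N.mul_mem hn (hRN hr)) (N.inv_mem hn)⟩
  have h2 := mul_mem (mul_mem (inv_mem hu) h1) hu
  show n * r * n⁻¹ ∈ P
  rwa [show n * r * n⁻¹ = u⁻¹ * (u * n * r * (u * n)⁻¹) * u by group]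

end Cfsg.Agent.BrauerPairs
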