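import Cfsg.Agent.Lib.BrauerPairs.CorrespondenceNormal
import Cfsg.Agent.Lib.OddOrder.PiCore
import Cfsg.Agent.Lib.CharInt.Basic
import Cfsg.Prelude.Def_OddOrderLocal

/-!
# Normal subgroups of order prime to `p` in kernels of Brauer pairs
-/

set_option autoImplicit false
set_option linter.unusedSectionVars false

open scoped Cfsg.Agent.Blocks
open Cfsg.Agent.OddOrder (IsPiGrp)

namespace Cfsg.Agent.BrauerPairs

universe u

section Abstract

variable {k : Type*} [Field k] {G : Type u} [Group G] [Finite G] {p : ℕ} [Fact p.Prime] [CharP k p]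
  {σ : Set ℕ} {K H R : Subgroup G}

/-- The idempotent of the trivial character of a subgroup of order prime to `p`. -/
noncomputable def avgEl (k : Type*) [Field k] {G : Type*} [Group G] [Finite G] (K : Subgroup G) :
    MonoidAlgebra k G :=
  letI := Classical.decPred (· ∈ K)
  Blocks.ofFun fun g => if g ∈ K then (Nat.card K : k)⁻¹ else 0

open Classical in
theorem coeff_avgEl (K : Subgroup G) (g : G) :
    (avgEl k K).coeff g = if g ∈ K then (Nat.card K : k)⁻¹ else 0 := by
  rw [avgEl, Blocks.coeff_ofFun]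

theorem cast_card_ne_zero (hK : ¬ p ∣ Nat.card K) : (Nat.card K : k) ≠ 0 :=
  fun h => hK ((CharP.cast_eq_zero_iff k p _).1 h)

theorem avgEl_mem_centerIn (hKH : K ≤ H) (hHK : H ≤ Subgroup.normalizer (K : Set G)) :
    avgEl k K ∈ centerIn k H := by
  classical
  refine ⟨fun x hx => ?_, mem_fixedBy_iff_coeff.2 fun h hh x => ?_⟩
  · rw [coeff_avgEl, if_neg fun h => hx (hKH h)]
  · rw [coeff_avgEl, coeff_avgEl]
    exact if_congr (((Subgroup.mem_normalizer_iff.1 (hHK hh)) x).symm) rfl rfl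

theorem avgEl_mem_fixedBy (hHK : H ≤ Subgroup.normalizer (K : Set G)) : avgEl k K ∈ fixedBy k H := by
  classical
  refine mem_fixedBy_iff_coeff.2 fun h hh x => ?_
  rw [coeff_avgEl, coeff_avgEl]
  exact if_congr (((Subgroup.mem_normalizer_iff.1 (hHK hh)) x).symm) rfl rfl

theorem conjEl_avgEl (g : G) (K : Subgroup G) :
    conjEl g (avgEl k K) = avgEl k (K.map (MulAut.conj g).toMonoidHom) := by
  classical
  refine Blocks.alg_ext fun x => ?_
  rw [coeff_conjEl, coeff_avgEl, coeff_avgEl, card_map_conj]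
  refine if_congr ⟨fun h => ⟨_, h, by simp [mul_assoc]⟩, ?_⟩ rfl rfl
  rintro ⟨y, hy, rfl⟩
  simpa [mul_assoc] using hy

/-- Absorption. -/
theorem avgEl_mul_of_le {K₁ : Subgroup G} (h₁ : ¬ p ∣ Nat.card K₁) (hle : K₁ ≤ K) :
    avgEl k K * avgEl k K₁ = avgEl k K := by
  classical
  letI := Fintype.ofFinite G
  refine Blocks.alg_ext fun g => ?_
  rw [Blocks.coeff_mul_eq_sum', coeff_avgEl K g]
  have key : ∀ y : G, (avgEl k K).coeff (g * y⁻¹) * (avgEl k K₁).coeff y =
      if y ∈ K₁ then (if g ∈ K then (Nat.card K : k)⁻¹ else 0) * (Nat.card K₁ : k)⁻¹ else 0 := fun y => by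
    rw [coeff_avgEl, coeff_avgEl]
    by_cases hy : y ∈ K₁
    · rw [if_pos hy, if_pos hy]
      congr 1
      exact if_congr (K.mul_mem_cancel_right (K.inv_mem (hle hy))) rfl rfl
    · rw [if_neg hy, if_neg hy, mul_zero]
  rw [Finset.sum_congr rfl fun y _ => key y, ← Finset.sum_filter, Finset.sum_const, nsmul_eq_mul,
    show (Finset.univ.filter (· ∈ K₁)).card = Nat.card K₁ by
      rw [Nat.card_eq_fintype_card, Fintype.card_subtype], mul_comm, mul_assoc,
    inv_mul_cancel₀ (cast_card_ne_zero (k := k) h₁), mul_one]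

theorem avgEl_idem (hK : ¬ p ∣ Nat.card K) : avgEl k K * avgEl k K = avgEl k K :=
  avgEl_mul_of_le hK le_rfl

theorem cast_card_inf_centralizer (hR : IsPGroup p R) (hRK : R ≤ Subgroup.normalizer (K : Set G)) :
    (Nat.card K : k) = (Nat.card (K ⊓ Subgroup.centralizer (R : Set G) : Subgroup G) : k) := by
  classical
  letI := Fintype.ofFinite G
  letI : MulAction R K :=
    { smul := fun u x => ⟨u * x * (u : G)⁻¹, ((Subgroup.mem_normalizer_iff.1 (hRK u.2)) (x : G)).1 x.2⟩
      one_smul := fun x => Subtype.ext (by show ((1 : R) : G) * x * ((1 : R) : G)⁻¹ = x; simp)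
      mul_smul := fun u v x => Subtype.ext (by
        show ((u * v : R) : G) * x * ((u * v : R) : G)⁻¹ = (u : G) * ((v : G) * x * (v : G)⁻¹) * (u : G)⁻¹
        simp [mul_assoc]) }
  have h := sum_eq_sum_fixed hR (fun _ : K => (1 : k)) fun _ _ => rfl
  simp only [Finset.sum_const, Finset.card_univ, nsmul_eq_mul, mul_one] at h
  rw [← Nat.card_eq_fintype_card] at h
  rw [h, ← Finset.sum_filter, Finset.sum_const, nsmul_eq_mul, mul_one]
  congr 1
  have hiff : ∀ x : K, x ∈ MulAction.fixedPoints R K ↔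
      (x : G) ∈ (K ⊓ Subgroup.centralizer (R : Set G) : Subgroup G) := fun x => by
    constructor
    · intro hx
      refine ⟨x.2, Subgroup.mem_centralizer_iff.2 fun u hu => ?_⟩
      exact mul_inv_eq_iff_eq_mul.1 (congrArg Subtype.val (hx ⟨u, hu⟩))
    · intro hx u
      apply Subtype.ext
      show (u : G) * x * (u : G)⁻¹ = x
      rw [Subgroup.mem_centralizer_iff.1 hx.2 u u.2, mul_inv_cancel_right]
  rw [← Fintype.card_subtype, ← Nat.card_eq_fintype_card]
  exact Nat.card_congr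
    { toFun := fun x => ⟨(x.1 : G), (hiff x.1).1 x.2⟩
      invFun := fun x => ⟨⟨x.1, x.2.1⟩, (hiff ⟨x.1, x.2.1⟩).2 x.2⟩
      left_inv := fun _ => rfl
      right_inv := fun _ => rfl }

theorem br_avgEl (hR : IsPGroup p R) (hRK : R ≤ Subgroup.normalizer (K : Set G)) :
    br R (avgEl k K) = avgEl k (K ⊓ Subgroup.centralizer (R : Set G) : Subgroup G) := by
  classical
  refine Blocks.alg_ext fun x => ?_
  rw [coeff_br, coeff_avgEl, coeff_avgEl, cast_card_inf_centralizer hR hRK]
  by_cases hC : x ∈ Subgroup.centralizer (R : Set G) <;> by_cases hK : x ∈ K <;>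
    simp [hC, hK, Subgroup.mem_inf]

/-- The `σ`-core of the centraliser. -/
noncomputable def pairCore (σ : Set ℕ) (Q : Subgroup G) : Subgroup G :=
  piCoreOf σ (Subgroup.centralizer (Q : Set G))

theorem not_dvd_card_of_isPiGrp (hσ : p ∉ σ) (hK : IsPiGrp σ K) : ¬ p ∣ Nat.card K :=
  fun h => hσ (hK p Fact.out h)

theorem pairCore_le (Q : Subgroup G) : pairCore σ Q ≤ Subgroup.centralizer (Q : Set G) :=
  OddOrder.piCoreOf_le _ _

theorem normalizer_le_pairCore (Q : Subgroup G) :
    Subgroup.normalizer (Q : Set G) ≤ Subgroup.normalizer (pairCore σ Q : Set G) :=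
  (normalizer_le_normalizer_centralizer Q).trans (OddOrder.normalizer_le_normalizer_piCoreOf _ _)

theorem pairCore_inf_le {Q : Subgroup G} (hQR : Q ≤ R) :
    pairCore σ Q ⊓ Subgroup.centralizer (R : Set G) ≤ pairCore σ R := by
  refine OddOrder.le_piCoreOf inf_le_right (fun c hc => mem_normalizer_of_conj_le fun u hu => ?_)
    ((OddOrder.isPiGrp_piCoreOf σ _).mono inf_le_left)
  exact ⟨((Subgroup.mem_normalizer_iff.1 (normalizer_le_pairCore Q
      (Subgroup.centralizer_le_normalizer _ (Subgroup.centralizer_le hQR hc)))) u).1 hu.1,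
    Subgroup.mul_mem _ (Subgroup.mul_mem _ hc hu.2) (Subgroup.inv_mem _ hc)⟩

/-- The `σ`-core of the centraliser lies in the kernel of the pair. -/
def KerPair (σ : Set ℕ) (a : Subgroup G × MonoidAlgebra k G) : Prop :=
  a.2 * avgEl k (pairCore σ a.1) = a.2

/-- The centraliser has a normal Hall `σ`-subgroup. -/
def HallPair (σ : Set ℕ) (Q : Subgroup G) : Prop :=
  ∀ x ∈ Subgroup.centralizer (Q : Set G),
    (∀ q : ℕ, q.Prime → q ∣ orderOf x → q ∈ σ) → x ∈ pairCore σ Q

theorem avgEl_pairCore_mem (Q : Subgroup G) :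
    avgEl k (pairCore σ Q) ∈ centerIn k (Subgroup.centralizer (Q : Set G)) :=
  avgEl_mem_centerIn (pairCore_le Q)
    ((Subgroup.centralizer_le_normalizer _).trans (normalizer_le_pairCore Q))

theorem KerPair.down_step (hσ : p ∉ σ) {a b : Subgroup G × MonoidAlgebra k G} (h : Step p a b)
    (hb : KerPair σ b) : KerPair σ a := by
  obtain ⟨⟨-, ha⟩, ⟨hR, hbi⟩, hab, hn, hfix, hbr⟩ := h
  have hRK : b.1 ≤ Subgroup.normalizer (pairCore σ a.1 : Set G) := hn.trans (normalizer_le_pairCore _)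
  set K₁ : Subgroup G := pairCore σ a.1 ⊓ Subgroup.centralizer (b.1 : Set G) with hK₁
  have hK₁p : ¬ p ∣ Nat.card K₁ :=
    not_dvd_card_of_isPiGrp hσ ((OddOrder.isPiGrp_piCoreOf σ _).mono inf_le_left)
  have h1 : b.2 * avgEl k K₁ = b.2 := by
    conv_lhs => rw [← hb, mul_assoc, avgEl_mul_of_le hK₁p (pairCore_inf_le hab)]
    exact hb
  show a.2 * avgEl k (pairCore σ a.1) = a.2
  rw [centerIn_commute ha.mem.1 (avgEl_pairCore_mem a.1).2]
  refine ha.mul_eq_self_of_ne (avgEl_pairCore_mem a.1)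
    (avgEl_idem (not_dvd_card_of_isPiGrp hσ (OddOrder.isPiGrp_piCoreOf σ _))) ?_
  · intro h0
    apply hbi.ne_zero
    have hc : avgEl k K₁ * b.2 = b.2 * avgEl k K₁ :=
      centerIn_commute (fun x hx => by
        classical
        rw [coeff_avgEl, if_neg fun hx' => hx hx'.2]) hbi.mem.2
    have h0' : a.2 * avgEl k (pairCore σ a.1) = 0 := by
      rw [centerIn_commute ha.mem.1 (avgEl_pairCore_mem a.1).2]
      exact h0
    calc b.2 = br b.1 a.2 * b.2 := hbr.symm
      _ = br b.1 a.2 * avgEl k K₁ * b.2 := by rw [mul_assoc, hc, h1]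
      _ = 0 := by
        rw [← br_avgEl hR hRK, ← br_mul hR hfix (avgEl_mem_fixedBy hRK), h0', map_zero, zero_mul]

theorem KerPair.down (hσ : p ∉ σ) {a b : Subgroup G × MonoidAlgebra k G} (h : PLE p a b)
    (hb : KerPair σ b) : KerPair σ a := by
  induction h using Relation.ReflTransGen.head_induction_on with
  | refl => exact hb
  | head h _ ih => exact ih.down_step hσ h

theorem HallPair.up_step {Q R : Subgroup G} (hQR : Q ≤ R) (hH : HallPair σ Q) : HallPair σ R :=
  fun _ hx hσx => pairCore_inf_le hQR ⟨hH _ (Subgroup.centralizer_le hQR hx) hσx, hx⟩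

theorem KerPair.up_step (hσ : p ∉ σ) {a b : Subgroup G × MonoidAlgebra k G} (h : Step p a b)
    (hH : HallPair σ a.1) (ha : KerPair σ a) : KerPair σ b := by
  obtain ⟨-, ⟨hR, hbi⟩, hab, hn, hfix, hbr⟩ := h
  have hRK : b.1 ≤ Subgroup.normalizer (pairCore σ a.1 : Set G) := hn.trans (normalizer_le_pairCore _)
  have hcore : pairCore σ b.1 = pairCore σ a.1 ⊓ Subgroup.centralizer (b.1 : Set G) := by
    refine le_antisymm (fun x hx => ⟨hH x (Subgroup.centralizer_le hab (pairCore_le _ hx))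
      fun q hq hd => ?_, pairCore_le _ hx⟩) (pairCore_inf_le hab)
    exact OddOrder.isPiGrp_piCoreOf σ _ q hq (hd.trans (Subgroup.orderOf_dvd_natCard _ hx))
  show b.2 * avgEl k (pairCore σ b.1) = b.2
  have hc : b.2 * avgEl k (pairCore σ b.1) = avgEl k (pairCore σ b.1) * b.2 :=
    centerIn_commute hbi.mem.1 (avgEl_pairCore_mem b.1).2
  rw [hc]
  conv_rhs => rw [← hbr, ← show a.2 * avgEl k (pairCore σ a.1) = a.2 from ha,
    br_mul hR hfix (avgEl_mem_fixedBy hRK), br_avgEl hR hRK, ← hcore, mul_assoc, ← hc, ← mul_assoc, hbr, hc]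

theorem KerPair.up (hσ : p ∉ σ) {a b : Subgroup G × MonoidAlgebra k G} (h : PLE p a b)
    (hH : HallPair σ a.1) (ha : KerPair σ a) : HallPair σ b.1 ∧ KerPair σ b := by
  induction h with
  | refl => exact ⟨hH, ha⟩
  | tail _ hstep ih => exact ⟨ih.1.up_step hstep.2.2.1, ih.2.up_step hσ hstep ih.1⟩

theorem map_conj_piCoreOf (g : G) (X : Subgroup G) :
    (piCoreOf σ X).map (MulAut.conj g).toMonoidHom = piCoreOf σ (X.map (MulAut.conj g).toMonoidHom) := by
  have key : ∀ (g : G) (X : Subgroup G),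
      (piCoreOf σ X).map (MulAut.conj g).toMonoidHom ≤ piCoreOf σ (X.map (MulAut.conj g).toMonoidHom) :=
    fun g X => OddOrder.le_piCoreOf (Subgroup.map_mono (OddOrder.piCoreOf_le σ X))
      ((Subgroup.map_mono (OddOrder.le_normalizer_piCoreOf σ X)).trans (Subgroup.le_normalizer_map _))
      ((OddOrder.isPiGrp_piCoreOf σ X).map _)
  refine le_antisymm (key g X) ?_
  have e : ∀ Y : Subgroup G, (Y.map (MulAut.conj g⁻¹).toMonoidHom).map (MulAut.conj g).toMonoidHom = Y :=
    fun Y => by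
      have := map_conj_map_conj_inv g⁻¹ Y
      rwa [inv_inv] at this
  calc piCoreOf σ (X.map (MulAut.conj g).toMonoidHom) = _ := (e _).symm
    _ ≤ (piCoreOf σ ((X.map (MulAut.conj g).toMonoidHom).map (MulAut.conj g⁻¹).toMonoidHom)).map
          (MulAut.conj g).toMonoidHom := Subgroup.map_mono (key g⁻¹ _)
    _ = _ := by rw [map_conj_map_conj_inv]

theorem map_conj_pairCore (g : G) (Q : Subgroup G) :
    (pairCore σ Q).map (MulAut.conj g).toMonoidHom = pairCore σ (Q.map (MulAut.conj g).toMonoidHom) := by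
  rw [pairCore, pairCore, map_conj_piCoreOf, map_conj_centralizer]

theorem KerPair.conj {a : Subgroup G × MonoidAlgebra k G} (ha : KerPair σ a) (g : G) :
    KerPair σ (conjPair g a) := by
  show conjEl g a.2 * avgEl k (pairCore σ (a.1.map _)) = conjEl g a.2
  rw [← map_conj_pairCore, ← conjEl_avgEl, ← map_mul, ha]

theorem HallPair.conj {Q : Subgroup G} (hH : HallPair σ Q) (g : G) :
    HallPair σ (Q.map (MulAut.conj g).toMonoidHom) := by
  intro x hx hσx
  rw [← map_conj_centralizer] at hx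
  obtain ⟨y, hy, rfl⟩ := hx
  rw [← map_conj_pairCore]
  refine ⟨y, hH y hy fun q hq hd => hσx q hq ?_, rfl⟩
  rw [MulEquiv.coe_toMonoidHom, MulEquiv.orderOf_eq]
  exact hd

/-- Every pair of a block inherits the kernel from a maximal pair. -/
theorem KerPair.of_isMax (hblk : ∀ H : Subgroup G, HasBlocks k H) (hσ : p ∉ σ) {B : MonoidAlgebra k G}
    (hB : IsBlockIdem ⊤ B) {a b : Subgroup G × MonoidAlgebra k G} (ha : IsMax p B a) (hb : IsPairOf p B b)
    (h : KerPair σ a) : KerPair σ b := by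
  obtain ⟨g, hg⟩ := exists_conj_ple hblk hB ha hb
  have h1 := (h.down hσ hg).conj g⁻¹
  rwa [conjPair_inv_conjPair] at h1

end Abstract

section Prelude

variable {G : Type u} [Group G] [Finite G] {p : ℕ} [Fact p.Prime] {M : Ideal AlgInt} [M.IsMaximal]
  [CharP (AlgInt ⧸ M) p] {H K : Subgroup G}

/-- A normal subgroup of order prime to `p` lies in the kernel of a block iff its average fixes it. -/
theorem blk_mul_avgEl_iff (hpM : (p : AlgInt) ∈ M) (hKH : K ≤ H)
    (hHK : H ≤ Subgroup.normalizer (K : Set G)) (hK : ¬ p ∣ Nat.card K)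
    {b : Set (IrrCharacter H)} (hb : IsPBlock M b) :
    blk M H b * avgEl (AlgInt ⧸ M) K = blk M H b ↔
      ∀ θ ∈ b, ∀ h : H, (h : G) ∈ K → θ.1 h = θ.1 1 := by
  classical
  letI := Fintype.ofFinite H
  set e : MonoidAlgebra ℂ H :=
    Blocks.ofFun fun h => if (h : G) ∈ K then (Nat.card K : ℂ)⁻¹ else 0 with he
  have hec : Blocks.IsCentralElt e := Blocks.isCentralElt_ofFun fun g h => by
    refine if_congr ?_ rfl rfl
    simp only [Subgroup.coe_mul, Subgroup.coe_inv]
    exact ((Subgroup.mem_normalizer_iff.1 (hHK h.2)) (g : G)).symm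
  have heS : Blocks.SCoeff M e := Blocks.scoeff_ofFun fun h => by
    split_ifs <;> [exact Blocks.memLocalRing_inv_natCast hpM hK; exact Blocks.memLocalRing_zero]
  have hincl : incl H (AlgInt ⧸ M) (Blocks.redA M e) = avgEl (AlgInt ⧸ M) K := by
    refine Blocks.alg_ext fun g => ?_
    rw [coeff_avgEl]
    by_cases hg : g ∈ H
    · refine (coeff_incl_coe H _ (⟨g, hg⟩ : H)).trans ?_
      rw [Blocks.coeff_redA, he, Blocks.coeff_ofFun]
      split_ifs with h
      · refine eq_inv_of_mul_eq_one_left ?_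
        rw [← Blocks.red_natCast (M := M), ← Blocks.red_mul (Blocks.memLocalRing_inv_natCast hpM hK)
          (Blocks.memLocalRing_natCast _), inv_mul_cancel₀ (Nat.cast_ne_zero.2 Nat.card_pos.ne'),
          Blocks.red_one]
      · exact Blocks.red_zero
    · rw [coeff_incl_of_notMem H _ hg, if_neg fun h => hg (hKH h)]
  have hcK : (Nat.card K : ℂ) ≠ 0 := Nat.cast_ne_zero.2 Nat.card_pos.ne'
  have hKc : (Finset.univ.filter fun h : H => (h : G) ∈ K).card = Nat.card K := by
    rw [← Fintype.card_subtype, ← Nat.card_eq_fintype_card]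
    exact Nat.card_congr
      { toFun := fun x => ⟨(x.1 : G), x.2⟩
        invFun := fun x => ⟨⟨x.1, hKH x.2⟩, x.2⟩
        left_inv := fun _ => rfl
        right_inv := fun _ => rfl }
  have hshift : ∀ n : H, (n : G) ∈ K → e * MonoidAlgebra.single n (1 : ℂ) = e := fun n hn =>
    Blocks.alg_ext fun g => by
      rw [Blocks.coeff_mul_single', mul_one, he, Blocks.coeff_ofFun, Blocks.coeff_ofFun]
      refine if_congr ?_ rfl rfl
      simp only [Subgroup.coe_mul, Subgroup.coe_inv]
      exact K.mul_mem_cancel_right (K.inv_mem hn)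
  have hee : e * e = e := Blocks.alg_ext fun g => by
    rw [Blocks.coeff_mul_eq_sum']
    have key : ∀ y : H, e.coeff (g * y⁻¹) * e.coeff y =
        if (y : G) ∈ K then e.coeff g * (Nat.card K : ℂ)⁻¹ else 0 := fun y => by
      by_cases hy : (y : G) ∈ K
      · rw [if_pos hy]
        congr 1
        · conv_rhs => rw [← hshift y hy, Blocks.coeff_mul_single', mul_one]
        · rw [he, Blocks.coeff_ofFun, if_pos hy]
      · rw [if_neg hy, show e.coeff y = 0 by rw [he, Blocks.coeff_ofFun, if_neg hy], mul_zero]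
    rw [Finset.sum_congr rfl fun y _ => key y, ← Finset.sum_filter, Finset.sum_const, hKc, nsmul_eq_mul]
    field_simp
  have hchi : ∀ ξ : IrrCharacter H, Blocks.omega ξ.1 e = 1 ↔ ∀ h : H, (h : G) ∈ K → ξ.1 h = ξ.1 1 := by
    intro ξ
    constructor
    · intro h1 n hn
      have h2 := congrArg (Blocks.chiL ξ.1) (hshift n hn)
      rw [Blocks.chiL_mul_of_central ξ hec, Blocks.chiL_single, one_mul, h1, one_mul] at h2
      rw [h2]
      rw [Blocks.omega, div_eq_one_iff_eq (Blocks.irr_one_ne_zero ξ)] at h1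
      exact h1
    · intro h1
      rw [Blocks.omega, Blocks.chiL_eq_sum]
      simp only [he, Blocks.coeff_ofFun, ite_mul, zero_mul]
      rw [← Finset.sum_filter, Finset.sum_congr rfl (g := fun _ => (Nat.card K : ℂ)⁻¹ * ξ.1 1)
          (fun h hh => by rw [h1 h (Finset.mem_filter.1 hh).2]), Finset.sum_const, nsmul_eq_mul, hKc,
        ← mul_assoc, mul_inv_cancel₀ hcK, one_mul, div_self (Blocks.irr_one_ne_zero ξ)]
  have hcomm : blk M H b * avgEl (AlgInt ⧸ M) K = avgEl (AlgInt ⧸ M) K * blk M H b :=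
    centerIn_commute (isBlockIdem_blk H hb).mem.1 (avgEl_mem_fixedBy hHK)
  rw [hcomm, ← (isBlockIdem_blk H hb).omega_eq_one_iff (avgEl_mem_centerIn hKH hHK) (avgEl_idem hK)]
  have hω : ∀ ξ ∈ b, omega (blk M H b) (avgEl (AlgInt ⧸ M) K) = Blocks.red M (Blocks.omega ξ.1 e) :=
    fun ξ hξ => by rw [← hincl, omega_blk H hb hξ hec heS]
  constructor
  · intro h1 θ hθ
    refine (hchi θ).1 ?_
    have h2 := congrArg (Blocks.omega θ.1) hee
    rw [Blocks.omega_mul θ hec] at h2
    rcases eq_or_ne (Blocks.omega θ.1 e) 0 with h0 | h0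
    · rw [hω θ hθ, h0, Blocks.red_zero] at h1
      exact absurd h1 zero_ne_one
    · exact mul_right_cancel₀ h0 (by rw [one_mul]; exact h2)
  · intro h1
    obtain ⟨ξ, hξ⟩ := nonempty_of_isPBlock hb
    rw [hω ξ hξ, (hchi ξ).2 (h1 ξ hξ), Blocks.red_one]

/-- Transitivity of induction from the centraliser of a pair. -/
theorem isPairOf_of_induced {Q : Subgroup G} (hQ : IsPGroup p Q) (hQH : Q ≤ H)
    (hC : Subgroup.centralizer (Q : Set G) ≤ H) {B₀ : Set (IrrCharacter H)} {B : Set (IrrCharacter G)}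
    (hind : IsInducedBlock M H B₀ B) {f : MonoidAlgebra (AlgInt ⧸ M) G}
    (hf : IsBlockIdem (Subgroup.centralizer (Q : Set G)) f) (hbr : br Q (blk M H B₀) * f = f) :
    IsPairOf p (blkG M B) (Q, f) := by
  classical
  obtain ⟨ξ, hξ⟩ := nonempty_of_isPBlock hind.1
  obtain ⟨χ, hχ⟩ := nonempty_of_isPBlock hind.2.1
  have hBi := isBlockIdem_blkG hind.2.1
  have hb := isBlockIdem_blk H hind.1
  set z : MonoidAlgebra (AlgInt ⧸ M) G :=
    incl H (AlgInt ⧸ M) (Blocks.redA M (Blocks.resH H (Blocks.blockIdem B))) with hz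
  have huc := Blocks.isCentralElt_resH (H := H) (Blocks.isCentralElt_blockIdem B)
  have huS := Blocks.scoeff_resH (H := H) (Blocks.scoeff_blockIdem hind.2.1)
  have hzm : z ∈ centerIn (AlgInt ⧸ M) H := incl_mem_centerIn H fun g h => by
    rw [Blocks.coeff_redA, Blocks.coeff_redA, huc g h]
  have hzB : br Q z = br Q (blkG M B) := Blocks.alg_ext fun x => by
    rw [coeff_br, coeff_br]
    split_ifs with hx
    · refine (coeff_incl_coe H _ (⟨x, hC hx⟩ : H)).trans ?_
      rw [Blocks.coeff_redA, Blocks.coeff_resH, Blocks.coeff_blockIdem, coeff_blkG]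
    · rfl
  have hω : omega (blk M H B₀) z = 1 := by
    rw [hz, omega_blk H hind.1 hξ huc huS, ← Blocks.red_one (M := M),
      Blocks.red_eq_iff (Blocks.memLocalRing_omega ξ huc huS) Blocks.memLocalRing_one]
    have h1 := Blocks.IsInducedBlock.omega_sub hind hξ hχ (Blocks.isCentralElt_blockIdem B)
      (Blocks.scoeff_blockIdem hind.2.1)
    rwa [Blocks.omega_blockIdem, if_pos hχ] at h1
  refine ⟨⟨hQ, hf⟩, ?_⟩
  show br Q (blkG M B) * f = f
  have hzc : br Q (blkG M B) ∈ centerIn (AlgInt ⧸ M) (Subgroup.centralizer (Q : Set G)) :=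
    br_top_mem hBi.mem
  refine (hf.omega_eq_one_iff hzc
    (by rw [← br_mul hQ (mem_fixedBy_of_top hBi.mem _) (mem_fixedBy_of_top hBi.mem _), hBi.idem])).1 ?_
  rw [← hzB] at hzc ⊢
  refine hf.omega_eq hzc ?_
  obtain ⟨n, hn⟩ := hb.omega_spec hzm
  rw [hω] at hn
  refine ⟨n, ?_⟩
  set u : MonoidAlgebra (AlgInt ⧸ M) G := z * blk M H B₀ - (1 : AlgInt ⧸ M) • blk M H B₀ with hu
  have hbQ : blk M H B₀ ∈ fixedBy (AlgInt ⧸ M) Q := fixedBy_anti hQH hb.mem.2
  have hzQ : z ∈ fixedBy (AlgInt ⧸ M) Q := fixedBy_anti hQH hzm.2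
  have huQ : u ∈ fixedBy (AlgInt ⧸ M) Q := sub_mem (mul_mem hzQ hbQ) (Subalgebra.smul_mem _ hbQ _)
  have hbu : br Q u * f = br Q z * f - (1 : AlgInt ⧸ M) • f := by
    rw [hu, map_sub, br_mul hQ hzQ hbQ, map_smul, sub_mul, mul_assoc, hbr, smul_mul_assoc, hbr]
  have hcomm : Commute (br Q u) f := by
    have h4 := br_mem_centerIn (P := Q)
      (sub_mem (mul_mem hzm hb.mem) (Subalgebra.smul_mem _ hb.mem _) : u ∈ centerIn (AlgInt ⧸ M) H)
    rw [inf_eq_right.2 hC] at h4
    exact centerIn_commute h4.1 hf.mem.2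
  rw [← hbu, hcomm.mul_pow, ← br_pow hQ huQ, hn, map_zero, zero_mul]

/-- A maximal pair under the Brauer correspondent. -/
theorem exists_max_pair_correspondent (hpM : (p : AlgInt) ∈ M) {D : Subgroup G} {B : Set (IrrCharacter G)}
    (hB : IsPBlock M B) (hD : IsDefectGroup p M B D)
    {B₁ : Set (IrrCharacter (Subgroup.normalizer (D : Set G)))}
    (hB₁ : IsInducedBlock M (Subgroup.normalizer (D : Set G)) B₁ B) :
    ∃ e : MonoidAlgebra (AlgInt ⧸ M) G, IsMax p (blkG M B) (D, e) ∧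
      blk M (Subgroup.normalizer (D : Set G)) B₁ * e = e := by
  have hblk : ∀ H : Subgroup G, HasBlocks (AlgInt ⧸ M) H := fun H => hasBlocks M H
  have hBi := isBlockIdem_blkG hB
  obtain ⟨e', he', hmax⟩ := exists_isMax_of_isDefectGroup hB hD
  set e := blk M (Subgroup.centralizer (D : Set G)) e' with he
  refine ⟨e, hmax, ?_⟩
  have hDp : IsPGroup p D := hmax.1.1.1
  obtain ⟨f, ⟨hf, hfe⟩, -⟩ := existsUnique_block_sub hblk le_rfl (e := e) hmax.1.1
  have hbr1 := (isInducedBlock_iff_br hpM hDp Subgroup.le_normalizer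
    (Subgroup.centralizer_le_normalizer _) le_rfl hB₁.1 hB).1 hB₁
  have hzB : br D (blkG M B) ∈ centerIn (AlgInt ⧸ M) (Subgroup.normalizer (D : Set G)) :=
    ⟨fun x hx => coeff_br_of_notMem _ fun hxC => hx (Subgroup.centralizer_le_normalizer _ hxC),
      br_mem_fixedBy hBi.mem.2 le_top le_rfl⟩
  rw [br_eq_of_normal hDp Subgroup.le_normalizer le_rfl hf] at hfe
  have hfB : br D (blkG M B) * f = f := hf.mul_eq_self_of_ne hzB
    (by rw [← br_mul hDp (mem_fixedBy_of_top hBi.mem _) (mem_fixedBy_of_top hBi.mem _), hBi.idem])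
    fun h0 => hmax.1.1.2.ne_zero (by
      show e = 0
      rw [← show br D (blkG M B) * e = e from hmax.1.2, ← hfe, ← mul_assoc, h0, zero_mul])
  rw [eq_of_br_defect hblk hDp hBi ((exists_isMax_iff hblk hBi D).1 ⟨e, hmax⟩)
    (isBlockIdem_blk _ hB₁.1) hf hbr1 hfB]
  exact hfe

end Prelude

end Cfsg.Agent.BrauerPairs
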